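import Cfsg.Agent.Lead.T3Defs

/-!
# Roots in a Coxeter system (project T3, piece RT)
-/

set_option autoImplicit false

namespace Cfsg.Agent.H77.T3Rt

open Cfsg.Agent.H35 Cfsg.Agent.Lead.T3

variable {I W : Type} [Group W] (X : Cox I W)

theorem mem_rt {v w : W} {i : I} :
    w ∈ X.rt v i ↔ X.len (v⁻¹ * w) < X.len (X.s i * (v⁻¹ * w)) := Iff.rfl

theorem fold {i j : I} {u : W} (h1 : X.len u < X.len (X.s i * u))
    (h2 : ¬ X.len (u * X.s j) < X.len (X.s i * (u * X.s j))) : X.s i * u = u * X.s j := by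
  rcases X.exch.len_mul_s j u with h | h
  · obtain ⟨l, hl, rfl⟩ := X.exists_isRed u
    have hr : X.IsRed (l ++ [j]) := by
      unfold InvGen.IsRed at hl ⊢
      rw [X.wp_concat, h, hl, List.length_append, List.length_singleton]
    obtain ⟨a, k, b, e1, e2⟩ := X.exch.exists_eq (i := i) hr (by
      rw [← hr, X.wp_concat]; omega)
    rw [X.wp_concat] at e2
    rcases List.eq_nil_or_concat b with rfl | ⟨b', j', rfl⟩
    · obtain ⟨rfl, -⟩ := List.append_inj' e1 rfl
      rw [List.append_nil] at e2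
      conv_rhs => rw [← e2]
      rw [mul_assoc, X.s_mul_s_cancel_right]
    · rw [List.concat_eq_append] at e1 e2
      rw [← List.cons_append, ← List.append_assoc] at e1
      obtain ⟨e3, e4⟩ := List.append_inj' e1 rfl
      obtain rfl : j = j' := by simpa using e4
      rw [← List.append_assoc, X.wp_concat, ← mul_assoc, mul_left_inj] at e2
      have h3 := X.len_wp_le (a ++ b')
      have h4 : X.len (X.wp l) = l.length := hl
      have h5 := congrArg List.length e3
      simp only [List.length_append, List.length_cons] at h3 h5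
      rw [← e2] at h3
      omega
  · have h3 := X.len_le_len_mul_s j (X.s i * u)
    rw [mul_assoc] at h3
    rcases X.exch.len_s_mul i u with h4 | h4 <;> omega

theorem rt1 (v : W) (i : I) : v ∈ X.rt v i := by
  rw [mem_rt, inv_mul_cancel, mul_one, X.len_one, X.exch.len_s]
  exact one_pos

theorem rt2 (v : W) (i : I) (w : W) : w ∈ X.rt (v * X.s i) i ↔ w ∉ X.rt v i := by
  rw [mem_rt, mem_rt, mul_inv_rev, X.inv_s, mul_assoc, X.s_mul_s_cancel_left]
  rcases X.exch.len_s_mul i (v⁻¹ * w) with h | h <;> omega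

theorem rf_eq_iff (v : W) (i : I) (w : W) (j : I) :
    X.rf w j = X.rf v i ↔ X.s i * (v⁻¹ * w) = v⁻¹ * w * X.s j := by
  unfold Cox.rf
  constructor
  · intro h
    calc X.s i * (v⁻¹ * w) = v⁻¹ * (v * X.s i * v⁻¹) * w := by group
      _ = v⁻¹ * w * X.s j := by rw [← h]; group
  · intro h
    calc w * X.s j * w⁻¹ = v * (v⁻¹ * w * X.s j) * w⁻¹ := by group
      _ = v * X.s i * v⁻¹ := by rw [← h]; group

theorem rt3 (v : W) (i : I) (w : W) (j : I) :
    (w ∈ X.rt v i ↔ w * X.s j ∈ X.rt v i) ↔ X.rf w j ≠ X.rf v i := by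
  rw [Ne, rf_eq_iff, mem_rt, mem_rt, ← mul_assoc v⁻¹ w]
  generalize v⁻¹ * w = u
  constructor
  · intro h e
    rw [← e, X.s_mul_s_cancel_left] at h
    rcases X.exch.len_s_mul i u with k | k <;> omega
  · intro h
    refine ⟨fun k => by_contra fun k' => h (fold X k k'), fun k => by_contra fun k' => h ?_⟩
    have := fold X (j := j) k (by rwa [X.s_mul_s_cancel_right])
    rw [X.s_mul_s_cancel_right] at this
    conv_rhs => rw [← this]
    rw [mul_assoc, X.s_mul_s_cancel_right]

theorem rt4 (v : W) (i : I) (v' : W) (i' : I) (h : X.rf v i = X.rf v' i') (h' : v' ∈ X.rt v i) :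
    X.rt v' i' = X.rt v i := by
  have k : ∀ x, v' * x ∈ X.rt v' i' ↔ v' * x ∈ X.rt v i := fun x => by
    induction x using X.induction_right with
    | h1 => rw [mul_one]; exact iff_of_true (rt1 X v' i') h'
    | hs j x _ ih =>
      have h1 := rt3 X v i (v' * x) j
      have h2 := rt3 X v' i' (v' * x) j
      rw [← h] at h2
      rw [← mul_assoc]
      tauto
  ext w
  simpa using k (v'⁻¹ * w)

theorem shorter {v a w : W} {i : I} (ha : a ∈ X.rt v i) (hw : w ∉ X.rt v i) :
    X.len ((X.rf v i * a)⁻¹ * w) < X.len (a⁻¹ * w) := by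
  have k : ∀ x, a * x ∉ X.rt v i → X.len ((X.rf v i * a)⁻¹ * (a * x)) < X.len x := fun x => by
    induction x using X.induction_right with
    | h1 => intro h; rw [mul_one] at h; exact absurd ha h
    | hs j x hx ih =>
      intro h
      rw [← mul_assoc a] at h ⊢
      by_cases h1 : a * x ∈ X.rt v i
      · have e : X.rf (a * x) j = X.rf v i := by
          by_contra e
          exact h (((rt3 X v i (a * x) j).2 e).1 h1)
        have e2 : (X.rf v i * a)⁻¹ * (a * x * X.s j) = x := by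
          rw [← e, Cox.rf]; group
        rw [e2, hx]
        omega
      · have h2 := ih h1
        have h3 := X.len_mul_s_le j ((X.rf v i * a)⁻¹ * (a * x))
        rw [← mul_assoc]
        omega
  simpa using k (a⁻¹ * w) (by simpa using hw)

theorem rt5 (v : W) (i : I) (a b w : W) (ha : a ∈ X.rt v i) (hb : b ∈ X.rt v i)
    (h : X.len (a⁻¹ * w) + X.len (w⁻¹ * b) = X.len (a⁻¹ * b)) : w ∈ X.rt v i := by
  by_contra hw
  have h1 := shorter X ha hw
  have e : X.rf (v * X.s i) i = X.rf v i := by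
    rw [Cox.rf, Cox.rf, X.s_mul_s_cancel_right, mul_inv_rev, X.inv_s, mul_assoc]
  have e2 : X.rf v i * (X.rf v i * a) = a := by
    rw [Cox.rf]
    calc v * X.s i * v⁻¹ * (v * X.s i * v⁻¹ * a) = v * X.s i * X.s i * (v⁻¹ * a) := by group
      _ = a := by rw [X.s_mul_s_cancel_right]; group
  have h2 : X.rf v i * a ∈ X.rt (v * X.s i) i := by
    rw [mem_rt] at ha ⊢
    have e3 : (v * X.s i)⁻¹ * (X.rf v i * a) = v⁻¹ * a := by rw [Cox.rf]; group
    rwa [e3]
  have h3 := shorter X h2 (fun k => (rt2 X v i b).1 k hb)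
  rw [e, e2] at h3
  have h4 := X.len_mul_le ((X.rf v i * a)⁻¹ * w) (w⁻¹ * b)
  rw [mul_assoc, mul_inv_cancel_left] at h4
  omega

theorem rt6 (u v : W) (i : I) (w : W) : u * w ∈ X.rt (u * v) i ↔ w ∈ X.rt v i := by
  rw [mem_rt, mem_rt, mul_inv_rev, mul_assoc v⁻¹, inv_mul_cancel_left]

theorem rt7 [Finite W] (v : W) (i : I) (K : Set I) (hv : v ∈ X.WJ K) (hi : i ∈ K) (w : W)
    (hw : w ∈ X.WJ K) : w * X.wJ K ∈ X.rt v i ↔ w ∉ X.rt v i := by
  have hu : v⁻¹ * w ∈ X.WJ K := mul_mem (inv_mem hv) hw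
  have hs : X.s i * (v⁻¹ * w) ∈ X.WJ K := mul_mem (InvGen.s_mem_closure hi) hu
  have h1 := X.exch.len_add_isLongest (X.wJ_spec K) (inv_mem hu)
  have h2 := X.exch.len_add_isLongest (X.wJ_spec K) (inv_mem hs)
  rw [X.len_inv, inv_inv] at h1 h2
  rw [mem_rt, mem_rt, ← mul_assoc v⁻¹, ← mul_assoc (X.s i)]
  rcases X.exch.len_s_mul i (v⁻¹ * w) with h | h <;> omega

/-- **RT** -/
theorem rtStmt : RtStmt := by
  intro I W _ _ X
  exact ⟨rt1 X, rt2 X, rt3 X, rt4 X, rt5 X, rt6 X, rt7 X⟩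

end Cfsg.Agent.H77.T3Rt
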