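import Cfsg.Agent.H34.UKit0

/-!
# Standard subgroups of unitary type in characteristic two: the commutator relations

Project UM, piece U-GC.
-/

set_option autoImplicit false

namespace Cfsg.Agent.H77.UGC

open Cfsg Cfsg.Agent.H63 Cfsg.Agent.H63.SL Cfsg.Agent.H34 Cfsg.Agent.H34.TW Cfsg.Agent.H31
  Cfsg.Agent.H34.UM Subgroup Module
open scoped commutatorElement

universe u v

section Grp

variable {G : Type u} [Group G]

theorem cj_mul (g h a : G) : g * h * a * (g * h)⁻¹ = g * (h * a * h⁻¹) * g⁻¹ := by group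

theorem cj_mul' (g a b : G) : g * (a * b) * g⁻¹ = g * a * g⁻¹ * (g * b * g⁻¹) := by group

theorem cj_cj (t g a : G) :
    t * (g * a * g⁻¹) * t⁻¹ = t * g * t⁻¹ * (t * a * t⁻¹) * (t * g * t⁻¹)⁻¹ := by group

theorem flip_inv {a b e : G} (ha : a * a = 1) (hb : b * b = 1) (he : e * e = 1)
    (h : b * a * b⁻¹ = a * e) : a * b * a⁻¹ = b * e := by
  have a1 : a⁻¹ = a := inv_eq_of_mul_eq_one_right ha
  have b1 : b⁻¹ = b := inv_eq_of_mul_eq_one_right hb
  have e1 : e⁻¹ = e := inv_eq_of_mul_eq_one_right he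
  have k : a * b * a⁻¹ = e * b := by
    have : e = a⁻¹ * (b * a * b⁻¹) := by rw [h]; group
    rw [this, a1]; group
  have k2 : (a * b * a⁻¹)⁻¹ = a * b * a⁻¹ := by
    rw [mul_inv_rev, mul_inv_rev, inv_inv, b1, mul_assoc]
  rw [← k2, k, mul_inv_rev, b1, e1]

theorem comm_of {g h m : G} (hg : g * g = 1) (hh : h * h = 1)
    (e : g * (h * m * h⁻¹) * g⁻¹ = h * (g * m * g⁻¹) * h⁻¹) : Commute ⁅g, h⁆ m := by
  have g1 : g⁻¹ = g := inv_eq_of_mul_eq_one_right hg
  have h1 : h⁻¹ = h := inv_eq_of_mul_eq_one_right hh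
  have k : ⁅g, h⁆ = (h * g)⁻¹ * (g * h) := by
    rw [commutatorElement_def, mul_inv_rev, g1, h1]; group
  have k2 : ⁅g, h⁆ * m * ⁅g, h⁆⁻¹ = m := by
    rw [k]
    calc (h * g)⁻¹ * (g * h) * m * ((h * g)⁻¹ * (g * h))⁻¹
        = (h * g)⁻¹ * (g * (h * m * h⁻¹) * g⁻¹) * (h * g) := by group
      _ = m := by rw [e]; group
  exact mul_inv_eq_iff_eq_mul.mp k2

theorem step {k n a b : G} (h : Commute k n) (e : k = ⁅a, b⁆) :
    k = ⁅n * a * n⁻¹, n * b * n⁻¹⁆ := by
  rw [← conjugate_commutatorElement, ← e, ← h.eq, mul_inv_cancel_right]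

end Grp

variable {F E V : Type v} [Field F] [Field E] [AddCommGroup V] [Module E V] {i : F →+* E}
  {σ : E ≃+* E} {B : V →ₛₗ[(σ : E →+* E)] V →ₗ[E] E} {G : Type u} [Group G] {φ : sisom B →* G}
  {L : Subgroup G} {t : G} {y : V → E → G} {ρ : V → V → G}

theorem span_iso (c : UCtx i φ L) {p u z z' : V} (hp : B p p = 0) (hu : B u u = 0)
    (h : B u p = 0) (hz : z ∈ Submodule.span E {p, u}) (hz' : z' ∈ Submodule.span E {p, u}) :
    B z z' = 0 := by
  obtain ⟨a, b, rfl⟩ := Submodule.mem_span_pair.mp hz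
  obtain ⟨a', b', rfl⟩ := Submodule.mem_span_pair.mp hz'
  simp only [map_add, LinearMap.add_apply, sm_left, sm_right, hp, hu, h, c.flip h, mul_zero,
    add_zero]

theorem mem1 (p u : V) : p ∈ Submodule.span E {p, u} := Submodule.subset_span (by simp)

theorem mem2 (p u : V) : u ∈ Submodule.span E {p, u} := Submodule.subset_span (by simp)

theorem mem12 (p u : V) (a b : E) : a • p + b • u ∈ Submodule.span E {p, u} :=
  Submodule.mem_span_pair.mpr ⟨a, b, rfl⟩

theorem mem21 (p u : V) (a b : E) : a • u + b • p ∈ Submodule.span E {p, u} :=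
  Submodule.mem_span_pair.mpr ⟨b, a, add_comm _ _⟩

section Row

variable (c : UCtx i φ L) (r : URow φ t y ρ)
include c r

omit c in
theorem rho_zero {u : V} (hu : Pt B u) : ρ u 0 = 1 := by
  have := r.add u hu 0 0 (map_zero _) (map_zero _)
  rw [add_zero] at this
  exact left_eq_mul.mp this

theorem rho_sq {u w : V} (hu : Pt B u) (h : B u w = 0) : ρ u w * ρ u w = 1 := by
  rw [← r.add u hu w w h h, c.add_self, rho_zero r hu]

theorem bb_act {u w z z' : V} (hu : Pt B u) (hw : B u w = 0) (hz : B z z = 0) (hz' : B z' z' = 0)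
    (h : B z z' = 0) (h1 : B u z = 0) (h2 : B u z' = 0) (a : E) :
    BB y z z' a * ρ u w * (BB y z z' a)⁻¹ = ρ u (w + (a * B z w) • z' + (a * B z' w) • z) := by
  rw [BB, cj_mul, cj_mul, r.act u hu w z' hw hz' h2, r.act u hu _ z _ hz h1,
    r.act u hu _ (z + z') _ (c.iso_add hz hz' h)]
  · congr 1
    simp only [map_add, LinearMap.add_apply, sm_right, hz, hz', h, c.flip h, mul_zero, add_zero]
    linear_combination (norm := module) c.add_self ((a * B z' w) • z' + (a * B z w) • z)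
  · simp only [map_add, h1, h2, add_zero]
  · simp only [map_add, sm_right, hw, h1, h2, mul_zero, add_zero]
  · simp only [map_add, sm_right, hw, h2, mul_zero, add_zero]

/-- Type (1). -/
theorem g1 {x x' u w : V} (hx : Pt B x) (hu : Pt B u) (hx' : B x' x' = 0) (h1 : B x x' = 0)
    (h2 : B u x' = 0) (h3 : B u w = 0) (h4 : B u x = 0) :
    ρ x x' * ρ u w * (ρ x x')⁻¹ = ρ u (w + B x w • x') := by
  obtain ⟨ω, hω⟩ := c.qf.tr
  have e1 : B (ω • x') (ω • x') = 0 := isotropic_smul hx' ω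
  have e2 : B x (ω • x') = 0 := by rw [sm_right, h1, mul_zero]
  have e3 : B u (ω • x') = 0 := by rw [sm_right, h2, mul_zero]
  rw [r.iso x hx x' hx' h1 ω hω, cj_mul, bb_act c r hu h3 hx.1 e1 e2 h4 e3,
    bb_act c r hu _ hx.1 hx' h1 h4 h2]
  · congr 1
    simp only [map_add, sm_left, sm_right, hx.1, hx', h1, c.flip h1, mul_zero, add_zero, hω]
    linear_combination (norm := module) c.add_self ((ω * B x w) • x' + ((ω + 1) * B x' w) • x)
  · simp only [map_add, sm_right, h2, h3, h4, mul_zero, add_zero]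

/-- Type (ii). -/
theorem g2 (p : UPar i φ L t i σ y) {x x' u : V} (hx : Pt B x) (hu : Pt B u) (hx' : B x' x' = 0)
    (h1 : B x x' = 0) (h2 : B u x' = 0) (d : E) :
    ρ x x' * ρ u (d • u) * (ρ x x')⁻¹ = ρ u (d • u + B x (d • u) • x') := by
  by_cases h0 : x' = 0
  · subst h0
    rw [rho_zero r hx, smul_zero, add_zero]; group
  have hp : Pt B x' := ⟨hx', h0⟩
  have hd : B u (d • u) = 0 := by rw [sm_right, hu.1, mul_zero]
  by_cases hb : B x (d • u) = 0
  · by_cases hd0 : d = 0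
    · subst hd0
      rw [hb, zero_smul, zero_smul, add_zero, rho_zero r hu]; group
    have hxu : B x u = 0 := by
      rw [sm_right] at hb
      exact (mul_eq_zero.mp hb).resolve_left hd0
    exact g1 c r hx hu hx' h1 h2 hd (c.flip hxu)
  have e1 : B u (B x (d • u) • x') = 0 := by rw [sm_right, h2, mul_zero]
  have e2 : B x' (σ (B x (d • u)) • u) = 0 := by rw [sm_right, c.flip h2, mul_zero]
  rw [r.add u hu _ _ hd e1, r.res u hu]
  have k := r.act x' hp x u (c.flip h1) hu.1 (c.flip h2) (σ d)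
  have e3 : σ d * B u x = σ (B x (d • u)) := by rw [sm_right, map_mul, c.symm]
  rw [e3, r.add x' hp _ _ (c.flip h1) e2] at k
  have k2 := flip_inv (rho_sq c r hp (c.flip h1))
    (by rw [← p.add u hu.1, ← two_mul, c.qf.two, zero_mul, ← r.res u hu, zero_smul, rho_zero r hu])
    (rho_sq c r hp e2) k
  have k3 : t * (ρ x' x * y u (σ d) * (ρ x' x)⁻¹) * t⁻¹ =
      t * (y u (σ d) * ρ x' (σ (B x (d • u)) • u)) * t⁻¹ := by rw [k2]
  rw [cj_cj, cj_mul' t (y u _), r.swap x' x hp hx (c.flip h1), p.conj u hu.1, c.qf.sq,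
    ← r.smul x' hp u (c.flip h2) _ hb, r.swap _ u (hp.smul hb) hu (c.flip e1)] at k3
  exact k3

/-- Type (i). -/
theorem g3 {x x' u w : V} (hx : Pt B x) (hu : Pt B u) (hx' : B x' x' = 0) (hw : B w w = 0)
    (h1 : B x x' = 0) (h2 : B u x' = 0) (h3 : B u w = 0) (h4 : B x w = 0) (h5 : B x' w = 0) :
    ρ x x' * ρ u w * (ρ x x')⁻¹ = ρ u w := by
  by_cases h0 : x' = 0
  · subst h0
    rw [rho_zero r hx]; group
  by_cases w0 : w = 0
  · subst w0
    rw [rho_zero r hu]; group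
  have hp : Pt B x' := ⟨hx', h0⟩
  have hq : Pt B w := ⟨hw, w0⟩
  have k := g1 c r hp hq hx.1 (c.flip h1) (c.flip h4) (c.flip h3) (c.flip h5)
  rw [c.flip h2, zero_smul, add_zero] at k
  have k3 : t * (ρ x' x * ρ w u * (ρ x' x)⁻¹) * t⁻¹ = t * ρ w u * t⁻¹ := by rw [k]
  rwa [cj_cj, r.swap x' x hp hx (c.flip h1), r.swap w u hq hu (c.flip h3)] at k3

omit c in
theorem radd {x x' u w w' : V} {g : G} (hu : Pt B u) (h2 : B u x' = 0) (h3 : B u w = 0)
    (h3' : B u w' = 0) (e : g * ρ u w * g⁻¹ = ρ u (w + B x w • x'))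
    (e' : g * ρ u w' * g⁻¹ = ρ u (w' + B x w' • x')) :
    g * ρ u (w + w') * g⁻¹ = ρ u (w + w' + B x (w + w') • x') := by
  rw [r.add u hu _ _ h3 h3', cj_mul', e, e', ← r.add u hu]
  · congr 1
    rw [map_add]; module
  · simp only [map_add, sm_right, h2, h3, mul_zero, add_zero]
  · simp only [map_add, sm_right, h2, h3', mul_zero, add_zero]

/-- The action on the elements supported on a totally isotropic line. -/
theorem gs (p : UPar i φ L t i σ y) {x q u z z' : V} (hx : Pt B x) (hq : B q q = 0)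
    (hu : B u u = 0) (h1 : B x q = 0) (h2 : B u q = 0) (a : E) (hz : z ∈ Submodule.span E {q, u})
    (z0 : z ≠ 0) (hz' : z' ∈ Submodule.span E {q, u}) :
    ρ x (a • q) * ρ z z' * (ρ x (a • q))⁻¹ = ρ z (z' + B x z' • a • q) := by
  have sp : ∀ {v v' : V}, v ∈ Submodule.span E {q, u} → v' ∈ Submodule.span E {q, u} →
      B v v' = 0 := fun h h' => span_iso c hq hu h2 h h'
  have ha : a • q ∈ Submodule.span E {q, u} := Submodule.smul_mem _ _ (mem1 q u)
  have hp : Pt B z := ⟨sp hz hz, z0⟩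
  have e1 : B x (a • q) = 0 := by rw [sm_right, h1, mul_zero]
  by_cases hxz : B x z = 0
  · exact g1 c r hx hp (sp ha ha) e1 (sp hz ha) (sp hz hz') (c.flip hxz)
  obtain ⟨α, β, e⟩ := Submodule.mem_span_pair.mp hz
  obtain ⟨α', β', e'⟩ := Submodule.mem_span_pair.mp hz'
  have hβ : β ≠ 0 := by
    rintro rfl
    apply hxz
    rw [← e, zero_smul, add_zero, sm_right, h1, mul_zero]
  have e2 : z' = (β' / β) • z + (α' - β' / β * α) • q := by
    rw [← e, ← e']
    match_scalars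
    · ring
    · field_simp
  have hb : (α' - β' / β * α) • q ∈ Submodule.span E {q, u} := Submodule.smul_mem _ _ (mem1 q u)
  have e3 : B x ((α' - β' / β * α) • q) = 0 := by rw [sm_right, h1, mul_zero]
  rw [e2]
  refine radd r hp (sp hz ha) (sp hz (Submodule.smul_mem _ _ hz)) (sp hz hb)
    (g2 c r p hx hp (sp ha ha) e1 (sp hz ha) _) ?_
  rw [e3, zero_smul, add_zero]
  exact g3 c r hx hp (sp ha ha) (sp hb hb) e1 (sp hz ha) (sp hz hb) e3 (sp ha hb)

omit r in
theorem pt_mv {q u w z : V} (hq : B q q = 0) (hu : B u u = 0) (h2 : B u q = 0) (h1 : B q w = 0)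
    (hz : z ∈ Submodule.span E {q, u}) (z0 : z ≠ 0) :
    z + B w z • q ∈ Submodule.span E {q, u} ∧ Pt B (z + B w z • q) := by
  have m : z + B w z • q ∈ Submodule.span E {q, u} :=
    Submodule.add_mem _ hz (Submodule.smul_mem _ _ (mem1 q u))
  refine ⟨m, span_iso c hq hu h2 m m, fun h => z0 ?_⟩
  have := congrArg (B w) h
  rw [map_add, sm_right, c.flip h1, mul_zero, add_zero, map_zero] at this
  rwa [this, zero_smul, add_zero] at h

/-- The dual action. -/
theorem gd (p : UPar i φ L t i σ y) {q u w z z' : V} (hq : Pt B q) (hu : B u u = 0)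
    (hw : B w w = 0) (h1 : B q w = 0) (h2 : B u q = 0) (hz : z ∈ Submodule.span E {q, u})
    (z0 : z ≠ 0) (hz' : z' ∈ Submodule.span E {q, u}) :
    ρ q w * ρ z z' * (ρ q w)⁻¹ = ρ (z + B w z • q) z' := by
  have sp : ∀ {v v' : V}, v ∈ Submodule.span E {q, u} → v' ∈ Submodule.span E {q, u} →
      B v v' = 0 := fun h h' => span_iso c hq.1 hu h2 h h'
  obtain ⟨m, hm⟩ := pt_mv c hq.1 hu h2 h1 hz z0
  have hp : Pt B z := ⟨sp hz hz, z0⟩
  by_cases w0 : w = 0
  · subst w0
    rw [rho_zero r hq, map_zero, LinearMap.zero_apply, zero_smul, add_zero]; group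
  by_cases z0' : z' = 0
  · subst z0'
    rw [rho_zero r hp, rho_zero r hm]; group
  have hw' : Pt B w := ⟨hw, w0⟩
  have hp' : Pt B z' := ⟨sp hz' hz', z0'⟩
  have k := gs c r p hw' hq.1 hu (c.flip h1) h2 1 hz' z0' hz
  rw [one_smul] at k
  have k3 : t * (ρ w q * ρ z' z * (ρ w q)⁻¹) * t⁻¹ = t * ρ z' (z + B w z • q) * t⁻¹ := by rw [k]
  rwa [cj_cj, r.swap w q hw' hq (c.flip h1), r.swap z' z hp' hp (sp hz' hz),
    r.swap z' _ hp' hm (sp hz' m)] at k3

/-- Row and column operations commute. -/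
theorem kc (p : UPar i φ L t i σ y) {x q u w z z' : V} (hx : Pt B x) (hu : Pt B u)
    (hq : B q q = 0) (hw : B w w = 0) (h1 : B x q = 0) (h2 : B u q = 0) (h3 : B u w = 0) (a : E)
    (hz : z ∈ Submodule.span E {q, u}) (z0 : z ≠ 0) (hz' : z' ∈ Submodule.span E {q, u}) :
    Commute ⁅ρ x (a • q), ρ u w⁆ (ρ z z') := by
  have sw : Submodule.span E {u, q} = Submodule.span E {q, u} := by rw [Set.pair_comm]
  obtain ⟨m, hm⟩ := pt_mv c hu.1 hq (c.flip h2) h3 (sw ▸ hz) z0
  have m' : z' + B x z' • a • q ∈ Submodule.span E {q, u} :=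
    Submodule.add_mem _ hz' (Submodule.smul_mem _ _ (Submodule.smul_mem _ _ (mem1 q u)))
  refine comm_of (rho_sq c r hx (by rw [sm_right, h1, mul_zero])) (rho_sq c r hu h3) ?_
  rw [gd c r p hu hq hw h3 (c.flip h2) (sw ▸ hz) z0 (sw ▸ hz'),
    gs c r p hx hq hu.1 h1 h2 a (sw ▸ m) hm.2 hz', gs c r p hx hq hu.1 h1 h2 a hz z0 hz',
    gd c r p hu hq hw h3 (c.flip h2) (sw ▸ hz) z0 (sw ▸ m')]

/-- Type (α) in a frame. -/
theorem alpha0 (p : UPar i φ L t i σ y) {b1 b2 b3 b4 : V} (f : Fr2 B b1 b4 b2 b3) (a d : E) :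
    ⁅ρ b3 (a • b1), ρ b2 (d • b4)⁆ = 1 := by
  obtain ⟨h11, h44, h14, h22, h33, h23, h12, h13, h42, h43⟩ := f
  have h41 := c.flip1 h14
  have h32 := c.flip1 h23
  have h21 := c.flip h12
  have h31 := c.flip h13
  have h24 := c.flip h42
  have h34 := c.flip h43
  have p1 : Pt B b1 := ⟨h11, by rintro rfl; simp at h14⟩
  have p2 : Pt B b2 := ⟨h22, by rintro rfl; simp at h23⟩
  have p3 : Pt B b3 := ⟨h33, by rintro rfl; simp at h32⟩
  have p4 : Pt B b4 := ⟨h44, by rintro rfl; simp at h41⟩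
  have two := c.qf.two
  set K : E → E → G := fun a d => ⁅ρ b3 (a • b1), ρ b2 (d • b4)⁆ with hK
  have cM : ∀ a d z z', z ∈ Submodule.span E {b1, b2} → z ≠ 0 → z' ∈ Submodule.span E {b1, b2} →
      Commute (K a d) (ρ z z') := fun a d z z' hz z0 hz' =>
    kc c r p p3 p2 h11 (isotropic_smul h44 d) h31 h21 (by rw [sm_right, h24, mul_zero]) a hz z0 hz'
  have cM' : ∀ a d z z', z ∈ Submodule.span E {b4, b3} → z ≠ 0 → z' ∈ Submodule.span E {b4, b3} →
      Commute (K a d) (ρ z z') := fun a d z z' hz z0 hz' => by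
    have := kc c r p p2 p3 h44 (isotropic_smul h11 a) h24 h34 (by rw [sm_right, h31, mul_zero]) d
      hz z0 hz'
    rw [← commutatorElement_inv] at this
    exact Commute.inv_left_iff.mp this
  have y1 : ∀ a d e, Commute (K a d) (y b1 e) := fun a d e => by
    rw [← r.res b1 p1]
    exact cM a d _ _ (mem1 _ _) p1.2 (Submodule.smul_mem _ _ (mem1 _ _))
  have y4 : ∀ a d e, Commute (K a d) (y b4 e) := fun a d e => by
    rw [← r.res b4 p4]
    exact cM' a d _ _ (mem1 _ _) p4.2 (Submodule.smul_mem _ _ (mem1 _ _))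
  have o3 : ∀ α β : E, B b3 (α • b1 + β • b4) = 0 := fun α β => by
    simp only [map_add, sm_right, h31, h34, mul_zero, add_zero]
  have o2 : ∀ α β : E, B b2 (α • b1 + β • b4) = 0 := fun α β => by
    simp only [map_add, sm_right, h21, h24, mul_zero, add_zero]
  -- additivity
  have hadd : ∀ a d d', K a (d + d') = K a d * K a d' := fun a d d' => by
    have k := r.act b2 p2 b1 b4 h21 h44 h24 d
    rw [h41, mul_one, r.add b2 p2 _ _ h21 (by rw [sm_right, h24, mul_zero])] at k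
    have k2 : ρ b2 (d • b4) = (ρ b2 b1)⁻¹ * (y b4 d * ρ b2 b1 * (y b4 d)⁻¹) := by rw [k]; group
    have c1 := cM a d' b2 b1 (mem2 _ _) p2.2 (mem1 _ _)
    have c2 : Commute (K a d') (ρ b2 (d • b4)) := by
      rw [k2]
      exact c1.inv_right.mul_right (((y4 a d' d).mul_right c1).mul_right (y4 a d' d).inv_right)
    have e : K a (d + d') = K a d * (ρ b2 (d • b4) * K a d' * (ρ b2 (d • b4))⁻¹) := by
      simp only [hK]
      rw [add_smul, r.add b2 p2 _ _ (by rw [sm_right, h24, mul_zero])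
        (by rw [sm_right, h24, mul_zero])]
      simp only [commutatorElement_def]
      group
    rw [e, ← c2.eq, mul_inv_cancel_right]
  -- first torus
  have sU : ∀ a d e α β γ δ : E, K a d = ⁅ρ b3 (α • b1 + β • b4), ρ b2 (γ • b1 + δ • b4)⁆ →
      K a d = ⁅ρ b3 ((α + e * β) • b1 + β • b4), ρ b2 ((γ + e * δ) • b1 + δ • b4)⁆ := by
    intro a d e α β γ δ h
    have := step (y1 a d e) h
    rw [r.act b3 p3 _ b1 (o3 _ _) h11 h31, r.act b2 p2 _ b1 (o2 _ _) h11 h21] at this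
    rw [this]
    simp only [map_add, sm_right, h11, h14, mul_zero, zero_add, mul_one]
    congr 2 <;> module
  have sL : ∀ a d e α β γ δ : E, K a d = ⁅ρ b3 (α • b1 + β • b4), ρ b2 (γ • b1 + δ • b4)⁆ →
      K a d = ⁅ρ b3 (α • b1 + (β + e * α) • b4), ρ b2 (γ • b1 + (δ + e * γ) • b4)⁆ := by
    intro a d e α β γ δ h
    have := step (y4 a d e) h
    rw [r.act b3 p3 _ b4 (o3 _ _) h44 h34, r.act b2 p2 _ b4 (o2 _ _) h44 h24] at this
    rw [this]
    simp only [map_add, sm_right, h44, h41, mul_zero, add_zero, mul_one]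
    congr 2 <;> module
  have tA : ∀ a d l : E, l ≠ 0 → K a d = K (l * a) (l⁻¹ * d) := by
    intro a d l hl
    have h0 : K a d = ⁅ρ b3 (a • b1 + (0 : E) • b4), ρ b2 ((0 : E) • b1 + d • b4)⁆ := by
      simp only [hK, zero_smul, add_zero, zero_add]
    have h1 := sU a d 1 _ _ _ _ (sL a d (l + 1) _ _ _ _ (sU a d l⁻¹ _ _ _ _
      (sL a d (l ^ 2 + l) _ _ _ _ h0)))
    rw [h1]
    simp only [hK]
    congr 2
    · match_scalars
      · field_simp
        linear_combination (a * (l ^ 3 + 2 * l ^ 2 + 2 * l)) * two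
      · field_simp
        linear_combination (a * (l ^ 3 + 2 * l ^ 2 + l)) * two
    · match_scalars
      · field_simp
        linear_combination (d * (l + 1)) * two
      · field_simp
        linear_combination (d * l) * two
  -- second torus
  have ne : ∀ γ δ : E, γ ≠ 0 ∨ δ ≠ 0 → γ • b2 + δ • b4 ≠ 0 := by
    intro γ δ h e
    have e1 := congrArg (B b3) e
    have e2 := congrArg (B b1) e
    simp only [map_add, sm_right, h32, h34, h12, h14, mul_zero, mul_one, add_zero, zero_add,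
      map_zero] at e1 e2
    tauto
  have rU : ∀ a d e α β γ δ : E, γ ≠ 0 ∨ δ ≠ 0 →
      K a d = ⁅ρ b3 (α • b1 + β • b3), ρ (γ • b2 + δ • b4) (d • b4)⁆ →
      K a d = ⁅ρ b3 ((α + e * β) • b1 + β • b3), ρ ((γ + σ e * δ) • b2 + δ • b4) (d • b4)⁆ := by
    intro a d e α β γ δ h0 h
    have := step (cM a d b2 (e • b1) (mem2 _ _) p2.2 (Submodule.smul_mem _ _ (mem1 _ _))) h
    rw [gs c r p p2 h11 h33 h21 h31 e (mem2 _ _) p3.2 (mem12 _ _ _ _),
      gd c r p p2 h44 (isotropic_smul h11 e) (by rw [sm_right, h21, mul_zero]) h42 (mem12 _ _ _ _)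
        (ne _ _ h0) (Submodule.smul_mem _ _ (mem2 _ _))] at this
    rw [this]
    simp only [map_add, sm_right, sm_left, h21, h23, h12, h14, mul_zero, zero_add, mul_one]
    congr 2 <;> module
  have rL : ∀ a d e α β γ δ : E, γ ≠ 0 ∨ δ ≠ 0 →
      K a d = ⁅ρ b3 (α • b1 + β • b3), ρ (γ • b2 + δ • b4) (d • b4)⁆ →
      K a d = ⁅ρ b3 (α • b1 + (β + e * α) • b3), ρ (γ • b2 + (δ + σ e * γ) • b4) (d • b4)⁆ := by
    intro a d e α β γ δ h0 h
    have := step (cM' a d b4 (e • b3) (mem1 _ _) p4.2 (Submodule.smul_mem _ _ (mem2 _ _))) h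
    rw [gs c r p p4 h33 h11 h43 h13 e (mem1 _ _) p3.2 (mem21 _ _ _ _),
      gd c r p p4 h22 (isotropic_smul h33 e) (by rw [sm_right, h43, mul_zero]) h24 (mem21 _ _ _ _)
        (ne _ _ h0) (Submodule.smul_mem _ _ (mem1 _ _))] at this
    rw [this]
    simp only [map_add, sm_right, sm_left, h41, h43, h32, h34, mul_zero, add_zero, mul_one]
    congr 2 <;> module
  have tC : ∀ a d l : E, l ≠ 0 → K a d = K (l * a) (l * d) := by
    intro a d l hl
    have h0 : K a d = ⁅ρ b3 (a • b1 + (0 : E) • b3), ρ ((1 : E) • b2 + (0 : E) • b4) (d • b4)⁆ := by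
      simp only [hK, zero_smul, add_zero, one_smul]
    have h1 := rL a d l⁻¹ _ _ _ _ (Or.inr (by simp)) (rU a d (l + 1) _ _ _ _ (Or.inr (by simp))
      (rL a d 1 _ _ _ _ (Or.inl one_ne_zero) h0))
    have hl' : σ l ≠ 0 := (map_ne_zero σ).mpr hl
    have e := r.smul b2 p2 (d • b4) (by rw [sm_right, h24, mul_zero]) _ hl'
    rw [c.qf.sq, smul_smul] at e
    rw [h1]
    simp only [hK]
    rw [← e]
    congr 2
    · match_scalars
      · linear_combination a * two
      · field_simp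
        linear_combination (a * (l + 1)) * two
    · simp only [map_add, map_one, map_inv₀]
      match_scalars
      · linear_combination two
      · field_simp
        linear_combination (σ l + 1) * two
  obtain ⟨ω, hω⟩ := c.qf.tr
  have w0 : ω ≠ 0 := by
    rintro rfl
    simp at hω
  have w1 : 1 + ω ^ 2 ≠ 0 := by
    intro h
    have : ω = 1 := by
      have h2 : (ω - 1) ^ 2 = 0 := by linear_combination h - ω * two
      exact sub_eq_zero.mp (pow_eq_zero_iff two_ne_zero |>.mp h2)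
    subst this
    simp at hω
  have k0 : ∀ a, K a 0 = 1 := fun a => by
    simp only [hK, zero_smul, rho_zero r p2, commutatorElement_one_right]
  have k1 : ∀ a d, K a (ω ^ 2 * d) = K a d := fun a d => by
    have e1 := tA (ω⁻¹ * a) (ω * d) ω w0
    have e2 := tC (ω⁻¹ * a) (ω * d) ω w0
    rw [mul_inv_cancel_left₀ w0, inv_mul_cancel_left₀ w0] at e1
    rw [mul_inv_cancel_left₀ w0, ← mul_assoc, ← sq] at e2
    rw [← e1, e2]
  have e : d = (1 + ω ^ 2)⁻¹ * d + ω ^ 2 * ((1 + ω ^ 2)⁻¹ * d) := by field_simp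
  change K a d = 1
  rw [e, hadd, k1, ← hadd, ← two_mul, two, zero_mul, k0]

/-- Type (α). -/
theorem alpha (p : UPar i φ L t i σ y) {x x' u w : V} (hx : Pt B x) (hu : Pt B u)
    (hx' : B x' x' = 0) (hw : B w w = 0) (h1 : B x x' = 0) (h2 : B u x' = 0) (h3 : B u w = 0)
    (h4 : B x w = 0) (h5 : B u x ≠ 0) : ρ x x' * ρ u w * (ρ x x')⁻¹ = ρ u w := by
  by_cases h6 : B x' w = 0
  · exact g3 c r hx hu hx' hw h1 h2 h3 h4 h6
  have s5 : σ (B u x) ≠ 0 := (map_ne_zero σ).mpr h5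
  have f : Fr2 B x' ((B x' w)⁻¹ • w) ((σ (B u x))⁻¹ • u) x := by
    refine ⟨hx', isotropic_smul hw _, ?_, isotropic_smul hu.1 _, hx.1, ?_, ?_, c.flip h1, ?_, ?_⟩
    · rw [sm_right, inv_mul_cancel₀ h6]
    · rw [sm_left, map_inv₀, c.qf.sq, inv_mul_cancel₀ h5]
    · rw [sm_right, c.flip h2, mul_zero]
    · rw [sm_right, sm_left, c.flip h3, mul_zero, mul_zero]
    · rw [sm_left, c.flip h4, mul_zero]
  have k := alpha0 c r p f 1 (B u x * B x' w)
  rw [one_smul, r.smul u hu _ (by rw [sm_right, sm_right, h3, mul_zero, mul_zero]) _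
    (inv_ne_zero s5), map_inv₀, c.qf.sq, smul_smul, smul_smul,
    show (B u x)⁻¹ * (B u x * B x' w) * (B x' w)⁻¹ = 1 by field_simp, one_smul] at k
  rw [(commutatorElement_eq_one_iff_commute.mp k).eq, mul_inv_cancel_right]

variable [Finite E] [FiniteDimensional E V]

omit r in
theorem split {e f w : V} (he : B e e = 0) (hef : B e f ≠ 0) (h1 : B e w = 0) (h2 : B f w = 0) :
    ∃ w1 w2, B w1 w1 = 0 ∧ B w2 w2 = 0 ∧ B e w1 = 0 ∧ B f w1 = 0 ∧ B e w2 = 0 ∧ B f w2 = 0 ∧
      w = w1 + w2 := by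
  have hf : B e ((B e f)⁻¹ • f) = 1 := by rw [sm_right, inv_mul_cancel₀ hef]
  obtain ⟨k1, k2⟩ := c.perp_pair he hf
  have k : ∀ z, B ((B e f)⁻¹ • f) z = 0 ↔ B f z = 0 := fun z => by
    rw [sm_left, mul_eq_zero, or_iff_right ((map_ne_zero σ).mpr (inv_ne_zero hef))]
  obtain ⟨w1, m1, w2, m2, a1, a2, e⟩ := c.herm.exists_add_isotropic k1
    (by have := c.four; omega) (UCtx.mem_perp_pair.mpr ⟨h1, (k w).mpr h2⟩)
  rw [UCtx.mem_perp_pair, k] at m1 m2
  exact ⟨w1, w2, a1, a2, m1.1, m1.2, m2.1, m2.2, e⟩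

/-- The case of an isotropic vector. -/
theorem giso (p : UPar i φ L t i σ y) {x x' u w : V} (hx : Pt B x) (hu : Pt B u)
    (hx' : B x' x' = 0) (h1 : B x x' = 0) (h2 : B u x' = 0) (h3 : B u w = 0) :
    ρ x x' * ρ u w * (ρ x x')⁻¹ = ρ u (w + B x w • x') := by
  by_cases h4 : B u x = 0
  · exact g1 c r hx hu hx' h1 h2 h3 h4
  have h5 : B x u ≠ 0 := fun h => h4 (c.flip h)
  obtain ⟨w1, w2, a1, a2, b1, b2, b3, b4, e⟩ := split c (w := w - (B x w / B x u) • u) hx.1 h5
    (by rw [map_sub, sm_right, div_mul_cancel₀ _ h5, sub_self])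
    (by rw [map_sub, sm_right, h3, hu.1, mul_zero, sub_self])
  have e2 : w = (B x w / B x u) • u + (w1 + w2) := by rw [← e]; abel
  have k : ∀ z, B z z = 0 → B x z = 0 → B u z = 0 →
      ρ x x' * ρ u z * (ρ x x')⁻¹ = ρ u (z + B x z • x') := fun z z1 z2 z3 => by
    rw [z2, zero_smul, add_zero]
    exact alpha c r p hx hu hx' z1 h1 h2 z3 z2 h4
  have := radd r hu h2 (by rw [sm_right, hu.1, mul_zero]) (by rw [map_add, b2, b4, add_zero])
    (g2 c r p hx hu hx' h1 h2 (B x w / B x u)) (radd r hu h2 b2 b4 (k w1 a1 b1 b2) (k w2 a2 b3 b4))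
  rwa [← e2] at this

/-- The dual relation for orthogonal centres. -/
theorem gdual (p : UPar i φ L t i σ y) {x z u w : V} (hx : Pt B x) (hu : Pt B u) (hz : B z z = 0)
    (h1 : B x z = 0) (h2 : B u x = 0) (h3 : B u w = 0) :
    Pt B (u + B z u • x) ∧ B (u + B z u • x) (w + B x w • z) = 0 ∧
      ρ x z * ρ u w * (ρ x z)⁻¹ = ρ (u + B z u • x) (w + B x w • z) := by
  by_cases z0 : z = 0
  · subst z0
    rw [map_zero, LinearMap.zero_apply, zero_smul, smul_zero, add_zero, add_zero, rho_zero r hx]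
    exact ⟨hu, h3, by group⟩
  have hp : Pt B z := ⟨hz, z0⟩
  have e1 : BB y x z 1 = BB (TT i φ) x z 1 := by
    have : ∀ v, B v v = 0 → y v 1 = TT i φ v 1 := fun v hv => by rw [← p.res v hv, map_one]
    rw [BB, BB, this _ (c.iso_add hx.1 hz h1), this _ hx.1, this _ hz]
  obtain ⟨s, hs, es⟩ := c.ee (v := z) (w := x) (d := 0) hz (c.flip h1)
    (by rw [map_zero, add_zero, hx.1])
  have e2 : ρ x z = φ s * ρ z x := by
    rw [es, ← one_smul E x, ← map_one i, ← c.BB_TT hx.1 hz (c.flip h1), map_one, one_smul, ← e1,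
      ← r.pair x z hx hp h1, mul_assoc, rho_sq c r hp (c.flip h1), mul_one]
  have h4 : B u (w + B z w • x) = 0 := by rw [map_add, sm_right, h2, h3, mul_zero, add_zero]
  have s1 : s.1 u = u + B z u • x := by
    rw [hs, c.flip h2]; simp
  have s2 : s.1 (w + B z w • x) = w + B x w • z := by
    rw [hs]
    simp only [map_add, sm_right, hx.1, c.flip h1, mul_zero, add_zero, zero_mul, zero_smul]
    linear_combination (norm := module) c.add_self (B z w • x)
  refine ⟨s1 ▸ hu.map s, by rw [← s1, ← s2, iso_map, h4], ?_⟩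
  rw [e2, cj_mul, giso c r p hp hu hx.1 (c.flip h1) h2 h3, r.eqv s u hu _ h4, s1, s2]

theorem gc0 (p : UPar i φ L t i σ y) : GC B ρ := by
  intro x u hx hu x' w h1 h2 h3
  by_cases h4 : B u x = 0
  · obtain ⟨f, -, hf⟩ := c.hyp hx
    have hf' := c.flip1 hf
    obtain ⟨w1, w2, a1, a2, b1, -, b3, -, e⟩ := split c (w := x' - B f x' • x) hx.1
      (f := f) (by rw [hf]; exact one_ne_zero) (by rw [map_sub, sm_right, h1, hx.1, mul_zero, sub_self])
      (by rw [map_sub, sm_right, hf', mul_one, sub_self])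
    have e2 : x' = (w1 + B f x' • x) + w2 := by rw [add_right_comm, ← e]; abel
    have a3 : B (w1 + B f x' • x) (w1 + B f x' • x) = 0 :=
      c.iso_add a1 (isotropic_smul hx.1 _) (by rw [sm_right, c.flip b1, mul_zero])
    have b5 : B x (w1 + B f x' • x) = 0 := by rw [map_add, sm_right, b1, hx.1, mul_zero, add_zero]
    generalize w1 + B f x' • x = w3 at e2 a3 b5
    subst e2
    obtain ⟨k1, k2, k3⟩ := gdual c r p hx hu a2 b3 h4 h3
    obtain ⟨-, -, k4⟩ := gdual c r p hx k1 a3 b5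
      (by rw [map_add, LinearMap.add_apply, sm_left, h4, hx.1, mul_zero, add_zero]) k2
    rw [r.add x hx _ _ b5 b3, cj_mul, k3, k4]
    have h5 : B w3 u + B w2 u = 0 := by rw [← LinearMap.add_apply, ← map_add, c.flip h2]
    congr 1
    · simp only [map_add, sm_right, c.flip b5, mul_zero, add_zero]
      rw [add_assoc, ← add_smul, add_comm (B w2 u), h5, zero_smul, add_zero]
    · simp only [map_add, sm_right, b3, mul_zero, add_zero]
      module
  · obtain ⟨w1, w2, a1, a2, b1, b2, b3, b4, e⟩ := split c hu.1 h4 h2 h1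
    subst e
    rw [r.add x hx _ _ b2 b4, cj_mul, giso c r p hx hu a2 b4 b3 h3,
      giso c r p hx hu a1 b2 b1 (by rw [map_add, sm_right, h3, b3, mul_zero, add_zero])]
    congr 1
    simp only [map_add, sm_right, b4, mul_zero, add_zero]
    module

end Row

/-- **U-GC** -/
theorem gc : GCStmt.{u, v} := by
  intro F E V _ _ _ _ _ _ _ _ i σ B G _ _ φ L c _ _ t y ρ _ _ p r
  exact gc0 c r p

end Cfsg.Agent.H77.UGC
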