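import Cfsg.Agent.H77.L3KB1

/-!
# L3-KB, part 2: `KBStmt`
-/

set_option autoImplicit false
set_option linter.unusedSectionVars false

namespace Cfsg.Agent.H77.L3

open Cfsg Cfsg.Agent.H63 Cfsg.Agent.H63.SL Cfsg.Agent.H35.L3 Subgroup
open scoped commutatorElement

universe u v

variable {F : Type v} [Field F] [Finite F] {G : Type u} [Group G] [Finite G] {L : Subgroup G}
  {x : Fin 3 → Fin 3 → F → G}

section

variable (m : M3 L x) (p : Pin3 x)
include m

theorem U_le : U3 x ≤ L := m.syl.le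

theorem cK {k : G} (hk : k ∈ C[L]) : ∀ u ∈ U3 x, Commute u k := fun u hu => hk u (U_le m hu)

theorem K_N : C[L] ≤ N[U3 x] := (centralizer_le (U_le m)).trans (centralizer_le_normalizer _)

include p

theorem j3 {f : G} {ε : Bool} {φ : F ≃+* F} (h : Fr3 x f ε φ) (hne : ε = true ∨ φ ≠ 1)
    (h2 : f * f ∈ C[L]) {u : G} (hu : u ∈ U3 x) (hi : f * u * f⁻¹ = u⁻¹) :
    ∃ w ∈ U3 x, u * f = w * f * w⁻¹ := by
  have two := m.st.two
  suffices ∃ w ∈ U3 x, u * (f * w * f⁻¹) = w by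
    obtain ⟨w, hw, e⟩ := this
    refine ⟨w, hw, ?_⟩
    calc u * f = u * (f * w * f⁻¹) * f * w⁻¹ := by group
      _ = _ := by rw [e]
  obtain ⟨r, s, e, rfl⟩ := (mem_U p).1 hu
  rw [el_inv p m.st] at hi
  cases ε
  · have h1 : φ ≠ 1 := by simpa using hne
    obtain ⟨c1, c2, a⟩ := fr_false h
    obtain ⟨q0, q1, q2⟩ := AF.sq p a (cK m h2)
    rw [a] at hi
    obtain ⟨i1, i2, i3⟩ := el_inj p hi
    obtain ⟨r', hr⟩ := h90 two q0 h1 i1
    obtain ⟨s', hs⟩ := h90 two q0 h1 i2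
    obtain ⟨z, hz⟩ := h90 two q0 h1 (κ := c1 * c2) (s := e + c1 * φ r' * s) (by
      rw [map_add, map_mul, map_mul, q0]
      linear_combination i3 + (r' * c1 * φ c1) * i2 + (r' * s) * q1 - s * hr + (r' * s) * two)
    refine ⟨_, el_mem p r' s' z, ?_⟩
    rw [a, el_mul p]
    exact el_cg (by linear_combination -hr + (c1 * φ r') * two)
      (by linear_combination -hs + (c2 * φ s') * two)
      (by linear_combination -hz + (c1 * c2 * φ z) * two)
  · obtain ⟨c1, c2, a, -⟩ := fr_true p m.st h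
    obtain ⟨q0, q1, q2⟩ := AT.sq p a (cK m h2)
    rw [a] at hi
    obtain ⟨i1, i2, i3⟩ := el_inj p hi
    rw [i1, i2] at i3
    have i4 : c1 * c2 * φ e = e := by linear_combination i3
    by_cases h1 : φ = 1
    · subst h1
      simp only [RingAut.one_apply] at *
      obtain ⟨k, hk⟩ := sq_onto two (c1 * e)
      refine ⟨_, el_mem p (r + c2 * k) k 0, ?_⟩
      rw [a, el_mul p]
      simp only [RingAut.one_apply]
      exact el_cg rfl (by linear_combination i2 + k * q2 + s * two)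
        (by linear_combination (c2 * k) * i2 + (c2 * k * k) * q2 + c2 * hk + e * q1 +
          (e + c2 * k * s) * two)
    · obtain ⟨z, hz⟩ := h90 two q0 h1 i4
      refine ⟨_, el_mem p r 0 z, ?_⟩
      rw [a, el_mul p]
      exact el_cg (by simp) (by linear_combination i2 + s * two)
        (by rw [map_zero]; linear_combination -hz + (c1 * c2 * φ z) * two)

theorem lift {r : G} (hr : r ∈ N[L] ⊓ N[U3 x]) (h2 : r * r ∈ U3 x ⊔ C[L]) :
    ∃ u ∈ U3 x, ∃ ε φ, Fr3 x (u * r) ε φ ∧ u * r * (u * r) ∈ C[L] := by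
  obtain ⟨u, hu, ε, φ, h⟩ := m.nU r hr.1 hr.2
  refine ⟨u, hu, ε, φ, h, ?_⟩
  have h3 : r * r ∈ ((U3 x ⊔ C[L] : Subgroup G) : Set G) := h2
  rw [coe_mul_of_right_le_normalizer_left _ _ (K_N m)] at h3
  obtain ⟨u1, hu1, k, hk, e⟩ := h3
  have e1 : u * r * (u * r) = u * (r * u * r⁻¹) * u1 * k := by
    calc _ = u * (r * u * r⁻¹) * (r * r) := by group
      _ = _ := by rw [← e]; group
  have h4 : u * (r * u * r⁻¹) * u1 ∈ U3 x :=
    mul_mem (mul_mem hu ((mem_normalizer_iff.1 hr.2 u).1 hu)) hu1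
  generalize u * (r * u * r⁻¹) * u1 = u' at e1 h4
  have : u' = 1 := frame_U p m.st h4 fun i j hij => by
    obtain ⟨g, hg⟩ := fr_sq h i j hij 1
    refine ⟨g, ?_⟩
    have c : x i j 1 * k = k * x i j 1 := hk _ (m.gen ▸ subset_closure ⟨i, j, hij, 1, rfl⟩)
    rw [← hg, e1]
    calc _ = u' * (x i j 1 * k) * (u' * k)⁻¹ := by group
      _ = _ := by rw [c]; group
  rw [e1, this, one_mul]
  exact hk

theorem fixG {f : G} (h : Fr3 x f true 1) (h2 : f * f ∈ C[L]) :
    U3 x ⊓ C1[f] = X3 x 0 2 ∧ f ∈ C[X3 x 2 0] := by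
  obtain ⟨c1, c2, a, a'⟩ := fr_true p m.st h
  obtain ⟨-, -, q⟩ := AT.sq p a (cK m h2)
  simp only [RingAut.one_apply] at q a'
  constructor
  · ext g
    rw [mem_inf, mem_Z p m.st, mem_U p, mem_centralizer_singleton_iff]
    constructor
    · rintro ⟨⟨r, s, e, rfl⟩, hc⟩
      have := a r s e
      rw [← hc, mul_inv_cancel_right] at this
      obtain ⟨i1, i2, i3⟩ := el_inj p this
      simp only [RingAut.one_apply] at i1 i2 i3
      rw [← i1, ← i2, q, one_mul] at i3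
      have i4 : r * s = 0 := by linear_combination -i3
      have i5 : r = 0 := by
        rcases mul_eq_zero.1 i4 with e | e
        · exact e
        · rw [i1, e, mul_zero]
      exact ⟨e, by rw [i2, i5, mul_zero]⟩
    · rintro ⟨e, rfl⟩
      refine ⟨⟨0, 0, e, rfl⟩, (mul_inv_eq_iff_eq_mul.1 ?_).symm⟩
      rw [a]
      exact el_cg (by simp) (by simp) (by simp [q])
  · intro g hg
    obtain ⟨b, rfl⟩ := (p.memX 2 0 (by decide) g).1 hg
    refine (mul_inv_eq_iff_eq_mul.1 ?_).symm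
    rw [a', q, inv_one, one_mul]

theorem fixF {f : G} {ε : Bool} {φ : F ≃+* F} (h : Fr3 x f ε φ) (h1 : φ ≠ 1)
    (h2 : f * f ∈ C[L]) : Nat.card ↥(U3 x ⊓ C1[f]) ^ 2 = Nat.card F ^ 3 ∧
      ∃ u ∈ U3 x ⊓ C1[f], ∃ u' ∈ U3 x ⊓ C1[f], ¬ Commute u u' := by
  have two := m.st.two
  have mem : ∀ r s e, el x r s e ∈ U3 x ⊓ C1[f] ↔ f * el x r s e * f⁻¹ = el x r s e :=
    fun r s e => by
      rw [mem_inf, mem_centralizer_singleton_iff, mul_inv_eq_iff_eq_mul, eq_comm]
      exact and_iff_right (el_mem p r s e)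
  cases ε
  · obtain ⟨c1, c2, a⟩ := fr_false h
    obtain ⟨q0, q1, q2⟩ := AF.sq p a (cK m h2)
    have q3 : c1 * c2 * φ (c1 * c2) = 1 := by
      rw [map_mul]; linear_combination (c2 * φ c2) * q1 + q2
    constructor
    · let g : Fx φ c1 × Fx φ c2 × Fx φ (c1 * c2) → ↥(U3 x ⊓ C1[f]) := fun z =>
        ⟨el x z.1.1 z.2.1.1 z.2.2.1, (mem _ _ _).2 (by rw [a, z.1.2, z.2.1.2, z.2.2.2])⟩
      have : Function.Bijective g := by
        constructor
        · intro z z' e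
          obtain ⟨e1, e2, e3⟩ := el_inj p (congrArg Subtype.val e)
          exact Prod.ext (Subtype.ext e1) (Prod.ext (Subtype.ext e2) (Subtype.ext e3))
        · rintro ⟨y, hy⟩
          obtain ⟨r, s, e, rfl⟩ := (mem_U p).1 hy.1
          have := (mem _ _ _).1 hy
          rw [a] at this
          obtain ⟨e1, e2, e3⟩ := el_inj p this
          exact ⟨(⟨r, e1⟩, ⟨s, e2⟩, ⟨e, e3⟩), rfl⟩
      rw [← Nat.card_eq_of_bijective g this, Nat.card_prod, Nat.card_prod, mul_pow, mul_pow,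
        card_Fx two q0 h1 q1, card_Fx two q0 h1 q2, card_Fx two q0 h1 q3, pow_three]
    · obtain ⟨r, hr, er⟩ := Fx_ne two q0 h1 q1
      obtain ⟨s, hs, es⟩ := Fx_ne two q0 h1 q2
      refine ⟨el x r 0 0, (mem _ _ _).2 (by rw [a, er]; simp), el x 0 s 0,
        (mem _ _ _).2 (by rw [a, es]; simp), fun c => ?_⟩
      have := c.eq
      rw [el_mul p, el_mul p] at this
      have := (el_inj p this).2.2
      simp [hr, hs] at this
  · obtain ⟨c1, c2, a, -⟩ := fr_true p m.st h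
    obtain ⟨q0, q1, q2⟩ := AT.sq p a (cK m h2)
    have q3 : c1 * c2 * φ (c1 * c2) = 1 := by
      rw [map_mul]; linear_combination (c1 * φ c2) * q1 + q2
    have k1 : ∀ r, c2 * φ (c1 * φ r) = r := fun r => by
      rw [map_mul, q0, ← mul_assoc, q1, one_mul]
    choose z hz using fun r => h90 two q0 h1 (κ := c1 * c2) (s := r * (c1 * φ r)) (by
      rw [map_mul]; linear_combination (c1 * φ r) * k1 r)
    have mem' : ∀ r y, c1 * c2 * φ y = y → el x r (c1 * φ r) (z r + y) ∈ U3 x ⊓ C1[f] :=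
      fun r y hy => (mem _ _ _).2 (by
        rw [a, k1]
        exact el_cg rfl rfl (by
          rw [map_add]; linear_combination hy - hz r + (c1 * c2 * φ (z r)) * two))
    constructor
    · let g : F × Fx φ (c1 * c2) → ↥(U3 x ⊓ C1[f]) := fun w => ⟨_, mem' w.1 w.2.1 w.2.2⟩
      have : Function.Bijective g := by
        constructor
        · rintro ⟨r, y⟩ ⟨r', y'⟩ e
          obtain ⟨e1, -, e3⟩ := el_inj p (congrArg Subtype.val e)
          dsimp only at e1 e3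
          subst e1
          exact Prod.ext rfl (Subtype.ext (add_left_cancel e3))
        · rintro ⟨y, hy⟩
          obtain ⟨r, s, e, rfl⟩ := (mem_U p).1 hy.1
          have := (mem _ _ _).1 hy
          rw [a] at this
          obtain ⟨e1, e2, e3⟩ := el_inj p this
          rw [e1] at e3
          subst e2
          refine ⟨(r, ⟨z r + e, ?_⟩), Subtype.ext (el_cg rfl rfl ?_)⟩
          · rw [map_add]
            linear_combination e3 + hz r - z r * two
          · linear_combination z r * two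
      rw [← Nat.card_eq_of_bijective g this, Nat.card_prod, mul_pow, card_Fx two q0 h1 q3]
      ring
    · obtain ⟨ω, hω⟩ := ex_moved h1
      refine ⟨_, mem' 1 0 (by simp), _, mem' ω 0 (by simp), fun c => ?_⟩
      have := c.eq
      rw [el_mul p, el_mul p] at this
      have e := (el_inj p this).2.2
      rw [map_one] at e
      apply hω
      linear_combination (-φ ω + ω) * q2 - φ c2 * e

end

section

variable (m : M3 L x) (p : Pin3 x) (ka : KA L x)
include m p ka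

theorem typ_pow {g : G} (h : Typ3 x L g false 1) (n : ℕ) : Typ3 x L (g ^ n) false 1 := by
  induction n with
  | zero => rw [pow_zero]; exact ka.typ_inn _ (one_mem _)
  | succ n ih => simpa [pow_succ] using ka.typ_mul _ _ _ _ _ _ ih h

theorem j3' {r : G} (hr : r ∈ N[L] ⊓ N[U3 x]) (h2 : r * r ∈ C[L]) (hn : r ∉ L ⊔ C[L]) {u : G}
    (hu : u ∈ U3 x) (h3 : u * r * (u * r) ∈ C[L]) : ∃ w ∈ U3 x, u * r = w * r * w⁻¹ := by
  obtain ⟨u0, hu0, ε, φ, h, hf⟩ := lift m p hr (mem_sup_right h2)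
  have hne : ε = true ∨ φ ≠ 1 := by
    by_contra hc
    simp only [not_or, Bool.not_eq_true, ne_eq, not_not] at hc
    obtain ⟨rfl, rfl⟩ := hc
    obtain ⟨a, b, ⟨j, rfl⟩, e⟩ := Nat.exists_eq_two_pow_mul_odd (orderOf_pos r).ne'
    have := ka.typ_one _ (typ_pow m p ka ⟨u0, U_le m hu0, h⟩ (2 * j + 1))
      ⟨a, by rw [← pow_mul, mul_comm, ← e, pow_orderOf_eq_one]⟩
    rw [pow_succ, pow_mul, pow_two] at this
    exact hn ((mul_mem_cancel_left (mem_sup_right (pow_mem h2 j))).1 this)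
  have hfN : u0 * r ∈ N[U3 x] := mul_mem (le_normalizer hu0) hr.2
  have key : ∀ v ∈ U3 x, v * (u0 * r) * (v * (u0 * r)) ∈ C[L] →
      ∃ w ∈ U3 x, v * (u0 * r) = w * (u0 * r) * w⁻¹ := fun v hv h4 => by
    refine j3 m p h hne hf hv (eq_inv_of_mul_eq_one_right ?_)
    have : v * (u0 * r * v * (u0 * r)⁻¹) ∈ U3 x ⊓ C[L] := by
      refine mem_inf.2 ⟨mul_mem hv ((mem_normalizer_iff.1 hfN v).1 hv), ?_⟩
      convert mul_mem h4 (inv_mem hf) using 1
      group
    rwa [ka.UK] at this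
  obtain ⟨w1, hw1, e1⟩ := key _ (inv_mem hu0) (by simpa using h2)
  obtain ⟨w2, hw2, e2⟩ := key _ (mul_mem hu (inv_mem hu0)) (by simpa [mul_assoc] using h3)
  rw [inv_mul_cancel_left] at e1
  refine ⟨_, mul_mem hw2 (inv_mem hw1), ?_⟩
  calc u * r = u * u0⁻¹ * (u0 * r) := by group
    _ = w2 * w1⁻¹ * (w1 * (u0 * r) * w1⁻¹) * (w2 * w1⁻¹)⁻¹ := by rw [e2]; group
    _ = _ := by rw [← e1]

/-- `at2` for groups containing `t`: the inclusion -/
theorem at2_le {t : G} (T : Tc L t) {E : Subgroup G} (hE : E ≤ N[L] ⊓ N[U3 x] ⊓ C1[t])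
    (sq : ∀ e ∈ E, e * e = 1) (ht : t ∈ E) (hc : 2 * Nat.card F ^ 2 ≤ Nat.card E) :
    E ≤ zpowers t ⊔ Row x 0 ∨ E ≤ zpowers t ⊔ Col x 2 := by
  have two := m.st.two
  have four := m.four
  have cE : ∀ a ∈ E, ∀ b ∈ E, a * b * a⁻¹ = b := fun a ha b hb => by
    rw [← inv_eq_of_mul_eq_one_right (sq _ (mul_mem ha hb)), mul_inv_rev,
      inv_eq_of_mul_eq_one_right (sq b hb), mul_assoc, ← mul_inv_rev, sq a ha, inv_one, mul_one]
  have tt := sq t ht
  set B0 : Set G := {e | e ∈ E ∧ e ∈ U3 x} with hB0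
  set B1 : Set G := {e | e ∈ E ∧ Typ3 x L e false 1} with hB1
  set B2 : Set G := {e | e ∈ E ∧ ∃ φ, Typ3 x L e false φ} with hB2
  have dec : ∀ e ∈ B1, e ∈ U3 x ∨ t * e ∈ U3 x := fun e he => by
    have h2 : Is2 e := ⟨1, by rw [pow_one, pow_two, sq e he.1]⟩
    obtain ⟨l, hl, l2, e1⟩ := ka.dec t T e (ka.typ_one e he.2 h2) (sq e he.1)
      (mem_centralizer_singleton_iff.1 (hE he.1).2)
    have h3 : Is2 l := ⟨1, by rw [pow_one, pow_two, l2]⟩
    rcases e1 with rfl | rfl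
    · exact Or.inl (ka.memU _ hl (hE he.1).1.2 h3)
    · right
      rw [← mul_assoc, tt, one_mul]
      exact ka.memU _ hl ((mul_mem_cancel_left (K_N m T.tc)).1 (hE he.1).1.2) h3
  have rs : ∀ r s e, el x r s e ∈ E → r * s = 0 := fun r s e h => by
    have := sq _ h
    rw [el_mul p, ← el_zero m.st] at this
    linear_combination (el_inj p this).2.2 - e * two
  have side : (∀ r s e, el x r s e ∈ E → s = 0) ∨ ∀ r s e, el x r s e ∈ E → r = 0 := by
    by_contra hcon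
    push Not at hcon
    obtain ⟨⟨r, s, e, h1, hs⟩, r', s', e', h2, hr⟩ := hcon
    have e1 : r = 0 := (mul_eq_zero.1 (rs _ _ _ h1)).resolve_right hs
    have e2 : s' = 0 := (mul_eq_zero.1 (rs _ _ _ h2)).resolve_left hr
    have := mul_mem h1 h2
    rw [el_mul p] at this
    have := rs _ _ _ this
    simp [e1, e2, hs, hr] at this
  by_cases hall : ∀ e ∈ E, Typ3 x L e false 1
  · have fin : ∀ V : Subgroup G, V ≤ U3 x → (∀ e ∈ E, e ∈ U3 x → e ∈ V) → E ≤ zpowers t ⊔ V :=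
      fun V hV h e he => (mem_tsup tt fun v hv => (cK m T.tc v (hV hv)).symm).2
        ((dec e ⟨he, hall e he⟩).imp (h e he) (h _ (mul_mem ht he)))
    refine side.imp (fun h => fin _ le_sup_left fun e he hu => ?_)
      fun h => fin _ le_sup_right fun e he hu => ?_
    · obtain ⟨r, s, z, rfl⟩ := (mem_U p).1 hu
      exact (mem_V1 p m.st).2 ⟨r, z, by rw [h r s z he]⟩
    · obtain ⟨r, s, z, rfl⟩ := (mem_U p).1 hu
      exact (mem_V2 p m.st).2 ⟨s, z, by rw [h r s z he]⟩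
  exfalso
  have fr : ∀ e ∈ E, ∃ a b c ε φ, Fr3 x (el x a b c * e) ε φ ∧
      el x a b c * e * (el x a b c * e) ∈ C[L] ∧ Typ3 x L e ε φ ∧ ∀ r s z, el x r s z ∈ E →
        el x a b c * e * el x r s z * (el x a b c * e)⁻¹ = el x r s (z + r * b + a * s) :=
    fun e he => by
      obtain ⟨u, hu, ε, φ, h, h2⟩ := lift m p (hE he).1 (by rw [sq e he]; exact one_mem _)
      obtain ⟨a, b, c, rfl⟩ := (mem_U p).1 hu
      refine ⟨a, b, c, ε, φ, h, h2, ⟨_, U_le m hu, h⟩, fun r s z hz => ?_⟩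
      rw [← el_conj p m.st a b c]
      conv_rhs => rw [← cE e he _ hz]
      group
  have ex : ∀ e ∈ E, ∃ ε φ, Typ3 x L e ε φ := fun e he => ka.typ_ex e (hE he).1.1
  have φ2 : ∀ e ∈ E, ∀ ε φ, Typ3 x L e ε φ → φ * φ = 1 := fun e he ε φ h => by
    have := ka.typ_mul _ _ _ _ _ _ h h
    rw [sq e he] at this
    exact (ka.typ_uniq _ _ _ _ _ this (ka.typ_inn _ (one_mem _))).2
  have i10 : Nat.card B1 ≤ 2 * Nat.card B0 := card_le_two fun a ha b hb ha' hb' => by
    have h1 := (dec a ha).resolve_left fun h => ha' ⟨ha.1, h⟩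
    have h2 := (dec b hb).resolve_left fun h => hb' ⟨hb.1, h⟩
    refine ⟨mul_mem ha.1 hb.1, ?_⟩
    have := mul_mem h1 h2
    have e : t * a * (t * b) = (t * a * t⁻¹) * (t * t) * b := by group
    rwa [e, cE t ht a ha.1, tt, mul_one] at this
  have i21 : Nat.card B2 ≤ 2 * Nat.card B1 := card_le_two fun a ha b hb ha' hb' => by
    obtain ⟨ha, φ, h1⟩ := ha
    obtain ⟨hb, ψ, h2⟩ := hb
    have := ka.typ_mul _ _ _ _ _ _ h1 h2
    rw [aut_two (φ2 a ha _ _ h1) (φ2 b hb _ _ h2) (fun e => ha' ⟨ha, e ▸ h1⟩)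
      fun e => hb' ⟨hb, e ▸ h2⟩] at this
    exact ⟨mul_mem ha hb, this⟩
  have i32 : Nat.card E ≤ 2 * Nat.card B2 := card_le_two (B := (E : Set G)) fun a ha b hb ha' hb' => by
    obtain ⟨ε, φ, h1⟩ := ex a ha
    obtain ⟨ε', ψ, h2⟩ := ex b hb
    cases ε
    · exact (ha' ⟨ha, φ, h1⟩).elim
    cases ε'
    · exact (hb' ⟨hb, ψ, h2⟩).elim
    exact ⟨mul_mem ha hb, _, ka.typ_mul _ _ _ _ _ _ h1 h2⟩
  by_cases hT : ∃ e ∈ E, ∃ φ, Typ3 x L e true φ
  · obtain ⟨e, he, φ, h⟩ := hT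
    have z0 : ∀ r s z, el x r s z ∈ E → r = 0 ∧ s = 0 := fun r s z hz => by
      obtain ⟨a, b, c, ε', φ', h1, h2, h3, h4⟩ := fr e he
      obtain ⟨rfl, rfl⟩ := ka.typ_uniq _ _ _ _ _ h h3
      obtain ⟨c1, c2, A, -⟩ := fr_true p m.st h1
      have := h4 r s z hz
      rw [A] at this
      obtain ⟨i1, i2, -⟩ := el_inj p this
      rcases mul_eq_zero.1 (rs _ _ _ hz) with e0 | e0
      · exact ⟨e0, by rw [← i2, e0]; simp⟩
      · exact ⟨by rw [← i1, e0]; simp, e0⟩
    by_cases hφ : ∃ e ∈ E, ∃ ε φ, Typ3 x L e ε φ ∧ φ ≠ 1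
    · obtain ⟨e', he', ε, ψ, h', hψ⟩ := hφ
      obtain ⟨a, b, c, ε', φ', h1, h2, h3, h4⟩ := fr e' he'
      obtain ⟨rfl, rfl⟩ := ka.typ_uniq _ _ _ _ _ h' h3
      obtain ⟨κ, q0, hκ, hz⟩ : ∃ κ, (∀ a, ψ (ψ a) = a) ∧ κ * ψ κ = 1 ∧
          ∀ z, el x 0 0 z ∈ E → κ * ψ z = z := by
        cases ε
        · obtain ⟨c1, c2, A⟩ := fr_false h1
          obtain ⟨q0, q1, q2⟩ := AF.sq p A (cK m h2)
          refine ⟨c1 * c2, q0, by rw [map_mul]; linear_combination (c2 * ψ c2) * q1 + q2,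
            fun z hz => ?_⟩
          have := h4 _ _ _ hz
          rw [A] at this
          simpa using (el_inj p this).2.2
        · obtain ⟨c1, c2, A, -⟩ := fr_true p m.st h1
          obtain ⟨q0, q1, q2⟩ := AT.sq p A (cK m h2)
          refine ⟨c1 * c2, q0, by rw [map_mul]; linear_combination (c1 * ψ c2) * q1 + q2,
            fun z hz => ?_⟩
          have := h4 _ _ _ hz
          rw [A] at this
          simpa using (el_inj p this).2.2
      have b0 : Nat.card B0 ≤ Nat.card (Fx ψ κ) :=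
        card_le_range (fun z : Fx ψ κ => el x 0 0 z.1) fun g hg => by
          obtain ⟨r, s, z, rfl⟩ := (mem_U p).1 hg.2
          obtain ⟨rfl, rfl⟩ := z0 r s z hg.1
          exact ⟨⟨z, hz z hg.1⟩, rfl⟩
      have b1 := card_Fx two q0 hψ hκ
      generalize Nat.card (Fx ψ κ) = n at b0 b1
      rw [← b1] at hc four
      have n2 : 2 ≤ n := by nlinarith
      have : 2 * (n ^ 2) ^ 2 ≤ 8 * n := by omega
      have : 8 * n ≤ n ^ 3 * n := Nat.mul_le_mul_right _ (Nat.pow_le_pow_left n2 3)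
      nlinarith
    · push Not at hφ
      have b0 : Nat.card B0 ≤ Nat.card F := card_le_range (fun z : F => el x 0 0 z) fun g hg => by
        obtain ⟨r, s, z, rfl⟩ := (mem_U p).1 hg.2
        obtain ⟨rfl, rfl⟩ := z0 r s z hg.1
        exact ⟨z, rfl⟩
      have b2 : Nat.card B2 ≤ Nat.card B1 := card_le_range (fun z : B1 => (z : G)) fun g hg => by
        obtain ⟨hg, ψ, h1⟩ := hg
        exact ⟨⟨g, hg, hφ g hg _ _ h1 ▸ h1⟩, rfl⟩
      nlinarith
  · push Not at hT hall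
    have b3 : Nat.card E ≤ Nat.card B2 := card_le_range (B := (E : Set G)) (fun z : B2 => (z : G))
      fun g hg => by
        obtain ⟨ε, ψ, h1⟩ := ex g hg
        cases ε
        · exact ⟨⟨g, hg, ψ, h1⟩, rfl⟩
        · exact (hT g hg ψ h1).elim
    obtain ⟨e, he, hne⟩ := hall
    obtain ⟨a, b, c, ε, φ, h1, h2, h3, h4⟩ := fr e he
    cases ε
    swap
    · exact hT e he φ h3
    have hφ : φ ≠ 1 := fun e0 => hne (e0 ▸ h3)
    obtain ⟨c1, c2, A⟩ := fr_false h1
    obtain ⟨q0, q1, q2⟩ := AF.sq p A (cK m h2)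
    have q3 : c1 * c2 * φ (c1 * c2) = 1 := by
      rw [map_mul]; linear_combination (c2 * φ c2) * q1 + q2
    have key : ∀ (κ l : F) (g : F → F → G), κ * φ κ = 1 → (∀ y ∈ B0, ∃ r z, y = g r z ∧
        κ * φ r = r ∧ c1 * c2 * φ z = z + r * l) → Nat.card B0 ≤ Nat.card F := by
      intro κ l g hκ hg
      have : ∀ r, ∃ z0, ∀ z, c1 * c2 * φ z = z + r * l →
          c1 * c2 * φ (z0 + z) = z0 + z := fun r => by
        by_cases h : ∃ z, c1 * c2 * φ z = z + r * l
        · obtain ⟨z0, h0⟩ := h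
          exact ⟨z0, fun z hz => by rw [map_add]; linear_combination h0 + hz + r * l * two⟩
        · exact ⟨0, fun z hz => (h ⟨z, hz⟩).elim⟩
      choose z0 hz0 using this
      have b0 := card_le_range (B := B0)
        (fun w : Fx φ κ × Fx φ (c1 * c2) => g w.1.1 (z0 w.1.1 + w.2.1)) fun y hy => by
          obtain ⟨r, z, rfl, i1, i3⟩ := hg y hy
          refine ⟨(⟨r, i1⟩, ⟨_, hz0 r z i3⟩), ?_⟩
          congr 1
          linear_combination -(z0 r) * two
      have b1 := card_Fx two q0 hφ hκ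
      have b2 := card_Fx two q0 hφ q3
      rw [Nat.card_prod, ← (Nat.pow_left_injective two_ne_zero (b1.trans b2.symm) :), ← pow_two,
        b1] at b0
      exact b0
    have b0 : Nat.card B0 ≤ Nat.card F := by
      rcases side with h | h
      · refine key c1 b (fun r z => el x r 0 z) q1 fun y hy => ?_
        obtain ⟨r, s, z, rfl⟩ := (mem_U p).1 hy.2
        obtain rfl := h r s z hy.1
        have := h4 _ _ _ hy.1
        rw [A] at this
        exact ⟨r, z, rfl, (el_inj p this).1, by simpa using (el_inj p this).2.2⟩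
      · refine key c2 a (fun s z => el x 0 s z) q2 fun y hy => ?_
        obtain ⟨r, s, z, rfl⟩ := (mem_U p).1 hy.2
        obtain rfl := h r s z hy.1
        have := h4 _ _ _ hy.1
        rw [A] at this
        exact ⟨s, z, rfl, (el_inj p this).2.1, by simpa [mul_comm s] using (el_inj p this).2.2⟩
    nlinarith

theorem card_V {t : G} (T : Tc L t) : Nat.card ↥(zpowers t ⊔ Row x 0) ≤ 2 * Nat.card F ^ 2 ∧
    Nat.card ↥(zpowers t ⊔ Col x 2) ≤ 2 * Nat.card F ^ 2 := by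
  have tt : t * t = 1 := by rw [← pow_two, ← T.t2, pow_orderOf_eq_one]
  constructor
  · rw [← p.cardR 0]
    exact card_tsup tt fun v hv => (cK m T.tc v (mem_sup_left hv)).symm
  · rw [← p.cardC 2]
    exact card_tsup tt fun v hv => (cK m T.tc v (mem_sup_right hv)).symm

theorem at2 {t : G} (T : Tc L t) {E : Subgroup G} (hE : E ≤ N[L] ⊓ N[U3 x] ⊓ C1[t])
    (sq : ∀ e ∈ E, e * e = 1) (hc : 2 * Nat.card F ^ 2 ≤ Nat.card E) :
    E = zpowers t ⊔ Row x 0 ∨ E = zpowers t ⊔ Col x 2 := by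
  have tt : t * t = 1 := by rw [← pow_two, ← T.t2, pow_orderOf_eq_one]
  have c : ∀ e ∈ E, Commute t e := fun e he => (mem_centralizer_singleton_iff.1 (hE he).2).symm
  have := at2_le m p ka T (E := zpowers t ⊔ E) (sup_le (zpowers_le.2 (mem_inf.2 ⟨mem_inf.2
    ⟨centralizer_le_normalizer _ T.tc, K_N m T.tc⟩, mem_centralizer_singleton_iff.2 rfl⟩)) hE)
    (fun e he => by
      rcases (mem_tsup tt c).1 he with h | h
      · exact sq e h
      · calc e * e = t⁻¹ * (t * e) * (t⁻¹ * (t * e)) := by group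
          _ = 1 := by
            rw [← pow_two, (c _ h).inv_left.mul_pow, pow_two, pow_two, sq _ h, ← mul_inv_rev, tt]
            simp)
    (mem_sup_left (mem_zpowers t)) (hc.trans (card_le_of_le le_sup_right))
  exact this.imp
    (fun h => eq_of_le_of_card_ge (le_sup_right.trans h) ((card_V m p ka T).1.trans hc))
    fun h => eq_of_le_of_card_ge (le_sup_right.trans h) ((card_V m p ka T).2.trans hc)

theorem side {t : G} (T : Tc L t) (g : G) {P : Subgroup G} (hP : P ≤ C1[g * t * g⁻¹])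
    (h2 : IsPGroup 2 P) : ∃ l ∈ L, cj (l * g⁻¹) P ≤ N[L] ⊓ N[U3 x] ⊓ C1[t] := by
  have h1 : cj g⁻¹ P ≤ C1[t] := by
    rintro _ ⟨y, hy, rfl⟩
    have := mem_centralizer_singleton_iff.1 (hP hy)
    refine mem_centralizer_singleton_iff.2 ?_
    change g⁻¹ * y * g⁻¹⁻¹ * t = t * (g⁻¹ * y * g⁻¹⁻¹)
    calc _ = g⁻¹ * (y * (g * t * g⁻¹)) * g := by group
      _ = _ := by rw [this]; group
  obtain ⟨l, hl, h3⟩ := ka.two _ (h1.trans T.cN) (h2.map _)
  refine ⟨l, hl, ?_⟩
  rintro _ ⟨y, hy, rfl⟩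
  have hy' : g⁻¹ * y * g⁻¹⁻¹ ∈ cj g⁻¹ P := ⟨y, hy, rfl⟩
  have e : (MulAut.conj (l * g⁻¹)).toMonoidHom y = l * (g⁻¹ * y * g⁻¹⁻¹) * l⁻¹ := by
    change l * g⁻¹ * y * (l * g⁻¹)⁻¹ = _
    group
  have hlt : l ∈ C1[t] := mem_centralizer_singleton_iff.2 (T.tc l hl)
  have h4 : l * (g⁻¹ * y * g⁻¹⁻¹) * l⁻¹ ∈ C1[t] := mul_mem (mul_mem hlt (h1 hy')) (inv_mem hlt)
  rw [e]
  exact mem_inf.2 ⟨mem_inf.2 ⟨T.cN h4, h3 ⟨_, hy', rfl⟩⟩, h4⟩

theorem rk {t : G} (T : Tc L t) {d : G} (hd : d ∈ Dt t) {E : Subgroup G} (hE : E ≤ C1[d])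
    (sq : ∀ e ∈ E, e * e = 1) : Nat.card E ≤ 2 * Nat.card F ^ 2 := by
  obtain ⟨g, rfl⟩ := hd
  obtain ⟨l, -, h⟩ := side m p ka T g hE fun e => ⟨1, Subtype.ext (by simpa [pow_two] using sq e e.2)⟩
  have hc : Nat.card (cj (l * g⁻¹) E) = Nat.card E :=
    card_map_of_injective (MulAut.conj _).injective
  rw [← hc]
  by_contra hcon
  rcases at2 m p ka T h (by
    rintro _ ⟨e, he, rfl⟩
    rw [← map_mul, sq e he, map_one]) (by omega) with e | e
  · exact hcon (e ▸ (card_V m p ka T).1)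
  · exact hcon (e ▸ (card_V m p ka T).2)

end

/-- **KB** -/
theorem kbStmt (hp : PinStmt3.{u, v}) (ha : KAStmt.{u, v}) : KBStmt.{u, v} := by
  intro F _ _ G _ _ L x m
  have p := hp x m.st
  have ka := ha L x m
  exact ⟨fun f ε φ h hne h2 u hu hi => j3 m p h hne h2 hu hi, fun r hr h2 => lift m p hr h2,
    fun r hr h2 hn u hu h3 => j3' m p ka hr h2 hn hu h3, fun f h h2 => fixG m p h h2,
    fun f ε φ h h1 h2 => fixF m p h h1 h2, fun t T E hE sq hc => at2 m p ka T hE sq hc,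
    fun t T g P hP h2 => side m p ka T g hP h2, fun t T d hd E hE sq => rk m p ka T hd hE sq⟩

end Cfsg.Agent.H77.L3
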