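import Cfsg.Agent.H77.FPSix
import Cfsg.Agent.H53.OCInv
import Cfsg.Agent.H27.OCHat

/-! Project FPF: pushing up and the structure of the pushed up minimal parabolic group. -/

set_option autoImplicit false

namespace Cfsg.Agent.H77.FP

open Subgroup Cfsg Cfsg.Agent.H83
open Cfsg.Agent.H53.OC (factTwo normal_V cj_le_orb)
open Cfsg.Agent.H27.OC3 (exists_aut top_le_norm normal_of_top normal_E pCore_quot card_of_quot
  card_of_hom card_even)
open scoped commutatorElement

universe u

open Cfsg.Agent.H82 in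
theorem inv : H85.FP.InvStmt.{u} := fun G _ _ S M hm A hA => by
  have hM := hm.um
  have hT := hm.syl
  have hH := min_charP hm
  have h0 : S ≠ ⊥ := fun h => hm.nn (h ▸ inferInstance)
  by_cases hd : H85.NoChar ⊤ S
  swap
  · simp only [H85.NoChar, not_forall, not_not] at hd
    obtain ⟨C, a, b, c, d⟩ := hd
    exact ⟨C, b, normalizer_eq_top_iff.1 (top_le_iff.1 d), a, fun α _ x hx =>
      Ch.mem ⟨a, c⟩ α hx⟩
  obtain ⟨X, m, h, hX, hXM⟩ := exists_ti hT hM hH le_rfl le_normalizer (hT.resOf_sup.symm ▸ hT)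
    h0 hd
  have hB := H85.bB_le 2 S
  have hV := h.V_le.trans hB
  have hQ := h.Q_le.trans hB
  have hZ := h.ctr_G_le.trans (inf_le_left.trans hB)
  let I : Subgroup (MulAut S) := (MulAut.conj (G := S)).range
  have : I.Normal := ⟨by
    rintro _ ⟨s, rfl⟩ α
    exact ⟨α s, by ext x; simp⟩⟩
  obtain ⟨D, h1, h2, h3⟩ := exists_inv_between (V := (ZQ 2 X).subgroupOf S)
    (Q := (pCoreOf 2 X).subgroupOf S) (A ⊔ I) fun γ hγ => by
      by_contra hn
      have h1 := (h.lg.subgroupOf hB hZ).swap (by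
        rw [← map_le_map_iff_of_injective S.subtype_injective,
          Subgroup.map_commutator, subgroupOf_map_of_le hQ, subgroupOf_map_of_le hZ]
        exact h.QQ) (characteristic_iff_map_eq.1 (ch_baum 2 S).ch γ) hn
      obtain ⟨a, ha, i, hi, rfl⟩ := mem_sup_of_normal_right.1 hγ
      obtain ⟨t, ht⟩ : (a * i) ^ Nat.card A ∈ I := by
        rw [← QuotientGroup.eq_one_iff, ← QuotientGroup.mk'_apply, map_pow, map_mul,
          QuotientGroup.mk'_apply I i, (QuotientGroup.eq_one_iff i).2 hi, mul_one, ← map_pow,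
          show a ^ Nat.card A = 1 from congrArg Subtype.val (pow_card_eq_one' (x := (⟨a, ha⟩ : A))),
          map_one]
      rw [← map_odd_pow h1 hA, ← ht] at hn
      refine hn ?_
      rintro _ ⟨x, hx, rfl⟩
      exact h.cj_le_Q hH hX (H85.le_norm_bB (le_norm_of_le hT.pCoreOf_le)) (mem_top (t : G))
        (H85.le_norm_bB le_normalizer t.2) ⟨x, hx, rfl⟩
  obtain ⟨h4, h5⟩ := h.norm_between hM hX hXM hB (D := D.map S.subtype)
    (by rw [← subgroupOf_map_of_le hV]; exact map_mono h1) (map_le_iff_le_comap.2 h2)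
    (le_normalizer_of_conj_mem (by
      rintro g hg _ ⟨x, hx, rfl⟩
      exact ⟨_, h3 _ (mem_sup_right ⟨⟨g, hg⟩, rfl⟩) x hx, rfl⟩))
  exact ⟨_, h4, normalizer_eq_top_iff.1 (top_le_iff.1 h5), map_subtype_le _, fun a ha x hx =>
    mem_map_of_mem _ (h3 a (mem_sup_left ha) x
      ((mem_map_iff_mem S.subtype_injective).1 hx))⟩

variable {P : Type u} [Group P] [Finite P] {T M : Subgroup P}

theorem push_aux (h : H85.FP.Min T M) (hd : H85.NoChar ⊤ T) (V : Subgroup P) [V.Normal]
    (hV : V ≤ pCore 2 P) (hc : ¬ resOf 2 (⊤ : Subgroup P) ≤ centralizer (V : Set P)) :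
    ⁅pCore 2 P, resOf 2 (⊤ : Subgroup P)⁆ ≤ V := by
  have := normal_E (P := P)
  have h0 : T ≠ ⊥ := fun e => h.nn (e ▸ inferInstance)
  obtain ⟨X, m, hX, -, hXM⟩ := H82.exists_ti h.syl h.um (min_charP h) le_rfl le_normalizer
    (h.syl.resOf_sup.symm ▸ h.syl) h0 hd
  have hB := H85.bB_le 2 T
  have key : ∀ K : Subgroup P, K.Normal → resOf 2 X ≤ K → resOf 2 (⊤ : Subgroup P) ≤ K :=
    fun K hK h1 => min_res_le h (by
      by_contra h2
      exact hXM (hX.syl.resOf_sup.ge.trans (sup_le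
        (h1.trans (le_sup_left.trans (min_le h le_sup_right h2))) (hB.trans (min_TM h)))))
  have hE : IsPGroup 2 (pCore 2 P) := pCore_isPGroup
  have n1 := top_le_norm (pCore 2 P) X
  have h2 : pCore 2 P ⊓ X ≤ pCoreOf 2 X :=
    le_pCoreOf inf_le_right (le_norm_inf n1 le_normalizer) hE.to_inf_left
  have h3 := (commutator_mono le_rfl (resOf_le (p := 2) X)).trans
    (hX.comm_core_le n1 (H85.le_norm_bB (le_norm_of_le (min_E_le h))))
  have h4 := comm_resOf_comm hE n1
  have h5 : ⁅pCore 2 P, resOf 2 X⁆ ≤ H82.ZQ 2 X :=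
    h4.ge.trans ((commutator_mono (h3.trans h2) le_rfl).trans hX.blk)
  have h6 := hX.V_le_sup (W := ⁅V, resOf 2 X⁆) ((commutator_mono hV le_rfl).trans h5)
    (le_norm_comm (top_le_norm V X) (le_norm_resOf X)) fun h6 => hc (key _ inferInstance
      (resOf_le_cent_of_comm_comm (hE.to_le hV) (top_le_norm V X)
        (commutator_eq_bot_iff_le_centralizer.2
          (h6.trans (inf_le_right.trans (cent_anti (resOf_le X)))))))
  have h7 : ⁅pCore 2 P, resOf 2 X⁆ ≤ V := h4.ge.trans ((commutator_mono (h5.trans h6) le_rfl).trans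
    (comm_sup_left_le ((commutator_mono (commutator_le_left _ _) le_rfl).trans
      (commutator_le_left _ _)) ((commutator_eq_bot_iff_le_centralizer.2
        (inf_le_right.trans (cent_anti (resOf_le X)))).le.trans bot_le) (top_le_norm V _)))
  exact (le_centMod.1 (key (centMod ⊤ (pCore 2 P) V (top_le_norm V ⊤))
    (normal_of_top (le_norm_centMod le_normalizer (top_le_norm _ _) (top_le_norm _ _)))
    (le_centMod.2 ⟨le_top, h7⟩))).2

theorem min_quot (h : H85.FP.Min T M) (D : Subgroup P) [D.Normal] (hD : D ≤ T)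
    (hR : resOf 2 (⊤ : Subgroup P) ≤ centralizer (D : Set P)) :
    H85.FP.Min (T.map (QuotientGroup.mk' D)) (M.map (QuotientGroup.mk' D)) := by
  have hs := QuotientGroup.mk'_surjective D
  have h2 : IsPGroup 2 D := h.syl.isPGroup.to_le hD
  have hT : (T.map (QuotientGroup.mk' D)).comap (QuotientGroup.mk' D) = T :=
    comap_map_eq_self (by rw [QuotientGroup.ker_mk']; exact hD)
  refine ⟨map_top_of_surjective _ hs ▸ h.syl.map _, charP_top.1 (charP_of_eq_one ?_),
    fun h1 => h.nn (hT ▸ h1.comap _), map_mono (min_TM h), lt_top_iff_ne_top.2 fun e => ?_,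
    fun K h1 h3 => ?_⟩
  · intro y _ hy h1
    obtain ⟨x, rfl⟩ := hs y
    obtain ⟨k, hk⟩ := coprime_orderOf_pow_ppow (p := 2) x
    rw [pCoreOf_top, pCore_quot D h2] at h1
    refine eq_one_of_ppow (k := k) ?_ hy
    rw [← map_pow, min_eq_one h hk (mem_cent_of_stable hk h2 (hR (mem_resOf (mem_top _) hk))
      fun r hr => ?_), map_one]
    rw [← QuotientGroup.eq_one_iff, ← QuotientGroup.mk'_apply, map_commutatorElement, map_pow,
      commutatorElement_eq_one_iff_mul_comm]
    exact (pow_mem h1 _) _ (mem_map_of_mem _ hr)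
  · refine min_ne h ?_
    rw [← comap_map_eq_self (f := QuotientGroup.mk' D) (H := M)
      (by rw [QuotientGroup.ker_mk']; exact hD.trans (min_TM h)), e, comap_top]
  · rw [← map_comap_eq_self_of_surjective hs K]
    refine map_mono (min_le h (map_le_iff_le_comap.1 h1) fun e => h3.ne ?_)
    rw [← map_comap_eq_self_of_surjective hs K, e, map_top_of_surjective _ hs]

theorem push : H85.FP.PushStmt.{u} := by
  intro P _ _ T M D h hDn hD hR hC hV
  have := normal_E (P := P)
  have := normal_V (P := P)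
  have hs := QuotientGroup.mk'_surjective D
  have h2 : IsPGroup 2 D := h.syl.isPGroup.to_le hD
  have hk : (QuotientGroup.mk' D).ker = D := QuotientGroup.ker_mk' D
  have hT : (T.map (QuotientGroup.mk' D)).comap (QuotientGroup.mk' D) = T :=
    comap_map_eq_self (hk.le.trans hD)
  have hr : resOf 2 (⊤ : Subgroup (P ⧸ D)) =
      (resOf 2 (⊤ : Subgroup P)).map (QuotientGroup.mk' D) := by
    rw [map_resOf, map_top_of_surjective _ hs]
  have hd : H85.NoChar ⊤ (T.map (QuotientGroup.mk' D)) := by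
    intro R h1 h3 h4 h5
    have := normal_of_top h5
    refine h3 ?_
    rw [← map_comap_eq_self_of_surjective hs R, Subgroup.map_eq_bot_iff, hk]
    refine hC _ inferInstance (hT ▸ comap_mono h1) fun φ hφ c hc => ?_
    obtain ⟨ψ, hψ⟩ := exists_aut ((QuotientGroup.mk' D).subgroupMap T)
      ((QuotientGroup.mk' D).subgroupMap_surjective T) φ fun a ha =>
        Subtype.ext ((QuotientGroup.eq_one_iff _).2 ((hφ a).1
          ((QuotientGroup.eq_one_iff _).1 (congrArg Subtype.val ha))))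
    have h6 := characteristic_iff_le_comap.1 h4 ψ
      (x := (QuotientGroup.mk' D).subgroupMap T c) hc
    rw [mem_comap] at h6
    erw [hψ] at h6
    exact h6
  have : ((OZ 2 (pCore 2 P)).map (QuotientGroup.mk' D)).Normal := Normal.map inferInstance _ hs
  have h7 := push_aux (min_quot h D hD hR) hd ((OZ 2 (pCore 2 P)).map (QuotientGroup.mk' D))
    (by rw [pCore_quot D h2]; exact map_mono (OZ_le _)) fun h7 => hV
      (resOf_le_cent_of_stable h2 hR (by
        rw [hr, ← comm_eq_bot_iff, ← Subgroup.map_commutator, Subgroup.map_eq_bot_iff, hk] at h7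
        exact h7))
  rw [hr, pCore_quot D h2, ← Subgroup.map_commutator, map_le_iff_le_comap, comap_map_eq, hk] at h7
  refine (comm_resOf_comm pCore_isPGroup (top_le_norm _ ⊤)).ge.trans
    ((commutator_mono h7 le_rfl).trans (comm_sup_left_le (commutator_le_left _ _)
      ((comm_eq_bot_iff.2 hR).le.trans bot_le) (top_le_norm _ _)))

theorem hat (hY : H85.FP.SymStmt.{u}) (hL : H85.FP.LinStmt.{u}) : H85.FP.HatStmt.{u} := by
  intro P _ _ T M hP
  obtain ⟨S, rfl⟩ := hP.syl.exists_sylow_top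
  have hE := normal_E (P := P)
  have hV := normal_V (P := P)
  have hpm : IsPMinimal 2 P := (H85.isPMinimal_iff_top S).2 ⟨_, ⟨le_top, S.isPGroup',
    fun Q a b _ => hP.syl.max Q le_top a b⟩, fun h => hP.nn (normal_of_top h), hP.um⟩
  have hne : cStarStarOf 2 (S : Subgroup P) ≠ ⊤ := fun e => min_ne hP.toMin (top_le_iff.1
    (e.ge.trans (sup_le (min_le hP.toMin (le_cent_OZ (p := 2) _) hP.nz) (min_le hP.toMin (le_normalizer.trans
      (H51.normalizer_le_normalizer_thompsonSubgroupOf 2 _))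
      fun e' => hP.nJ (normalizer_eq_top_iff.1 e')))))
  obtain ⟨r, E, h1, h2, h3, h4, h5, h6, h7, h8, h9⟩ := S2981.result hpm hP.chr S hne
  have hC : centralizer (omegaOneCenter 2 (pCore 2 P) : Set P) = pCore 2 P := pushed_cV hP
  change OZ 2 (pCore 2 P) ⊓ _ ⊔ ⨆ i, ⁅OZ 2 (pCore 2 P), E i⁆ = OZ 2 (pCore 2 P) at h7
  change ∀ i j, i ≠ j → ⁅⁅OZ 2 (pCore 2 P), E i⁆, E j⁆ = ⊥ at h8
  rw [hC] at h1 h2 h3 h4 h5
  have hJ := H51.thompsonSubgroup_characteristic 2 P
  obtain ⟨i⟩ : Nonempty (Fin r) := by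
    by_contra h0
    rw [not_nonempty_iff] at h0
    rw [iSup_of_empty] at h3
    have h10 : (S : Subgroup P) = ⊤ := top_le_iff.1 (h2.ge.trans (sup_le (sup_le
      (le_sup_left.trans (h3.ge.trans bot_le)) le_rfl) (min_E_le hP.toMin)))
    exact hP.nn (h10 ▸ inferInstance)
  have hs : E i ⊔ (⨆ j ∈ {j | j ≠ i}, E j) = thompsonSubgroup 2 P ⊔ pCore 2 P := by
    rw [← h3]
    refine le_antisymm (sup_le (le_iSup E i) (iSup₂_le fun j _ => le_iSup E j))
      (iSup_le fun j => ?_)
    by_cases hj : j = i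
    · exact hj ▸ le_sup_left
    · exact le_sup_of_le_right (le_iSup₂_of_le j hj le_rfl)
  have hF : H85.FP.Fac (S : Subgroup P) (E i) (⨆ j ∈ {j | j ≠ i}, E j) := by
    refine ⟨h1 i, hs ▸ inferInstance, by rw [hs, sup_right_comm, h2], (le_centMod
      (hN := top_le_norm (pCore 2 P) ⊤)).1 (iSup₂_le fun j hj => le_centMod.2
        ⟨le_top, h4 i j (Ne.symm hj)⟩) |>.2, h5 i, h7.ge.trans (sup_le (le_sup_of_le_left
          (inf_le_inf_left _ (cent_anti (le_iSup E i)))) (iSup_le fun j => ?_)),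
      le_centralizer_iff.1 (iSup₂_le fun j hj => comm_eq_bot_iff.1 (h8 i j (Ne.symm hj))),
      iSup₂_le fun j _ => ?_⟩
    · by_cases hj : j = i
      · exact hj ▸ le_sup_right
      · exact le_sup_of_le_left (le_inf (commutator_le_left _ _)
          (commutator_eq_bot_iff_le_centralizer.1 (h8 j i hj)))
    · obtain ⟨t, ht, e⟩ := h6 i j
      exact e.ge.trans (cj_le_orb ht)
  have hCX : centralizer (omegaOneCenter 2 (pCore 2 P) : Set P) ≤ E i := hC.le.trans (h1 i)
  obtain ⟨n, hn, ⟨F, _, _, hq, ⟨_, ⟨e⟩⟩, hA⟩ | ⟨-, ⟨_, ⟨e⟩⟩, hA⟩⟩ := h9 i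
  · rcases hn.eq_or_lt with rfl | hn
    · left
      obtain ⟨-, hZ, ρ, ψ, -, hψ, hk, -⟩ := hA
      refine six P _ _ _ _ hP hF ?_ ((card_of_hom hZ ψ hk).trans ?_)
      · rw [card_of_quot hCX e, H28.card_SL2 hq, hC]; norm_num
      · rw [MonoidHom.range_eq_top.2 hψ, card_top, Nat.card_eq_fintype_card, Fintype.card_multiplicative,
          Fintype.card_fun, hq]
        rfl
    · exact Or.inr (hL P _ _ _ _ F n hP hF hq hn hA)
  · rcases hn.eq_or_lt with rfl | hn
    · left
      obtain ⟨-, hZ, ρ, ψ, -, hψ, hψ', hk, -⟩ := hA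
      refine six P _ _ _ _ hP hF ?_ ((card_of_hom hZ ψ hk).trans ?_)
      · rw [card_of_quot hCX e, Nat.card_perm, Nat.card_fin, hC]; rfl
      · rw [← card_even]
        congr 1
        exact Nat.card_congr (Equiv.subtypeEquiv Multiplicative.toAdd fun v =>
          ⟨by rintro ⟨u, rfl⟩; exact hψ u, fun h => hψ' _ h⟩)
    · exact Or.inl (hY P _ _ _ _ _ hP hF (Even.add_one (Nat.even_pow.2 ⟨even_two, by omega⟩))
        (Nat.succ_le_succ (Nat.pow_le_pow_right (by norm_num) hn : 2 ^ 2 ≤ 2 ^ n)) hA)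

end Cfsg.Agent.H77.FP
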