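import Cfsg.Agent.H77.FPSym2
import Cfsg.Agent.H77.FPHat

/-! Project FPF: the symmetric factors of degree at least five. -/

set_option autoImplicit false
set_option linter.unusedSectionVars false

namespace Cfsg.Agent.H77.FP

open Subgroup Equiv Cfsg Cfsg.Agent.H83 Cfsg.Agent.H77.OC
open Cfsg.Agent.H53.OC (factTwo normal_V HatA)
open Cfsg.Agent.H27.OC3 (exists_aut)
open scoped commutatorElement

universe u

variable {α : Type*} [Fintype α] [DecidableEq α]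

theorem swap_tri {S : Subgroup (Perm α)} (hS : IsPGroup 2 S) {a b c d : α} (ab : a ≠ b)
    (cd : c ≠ d) (h1 : swap a b ∈ S) (h2 : swap c d ∈ S) :
    (c = a ∧ d = b ∨ c = b ∧ d = a) ∨ c ≠ a ∧ c ≠ b ∧ d ≠ a ∧ d ≠ b := by
  have h3 := swap_comm a b ▸ h1
  have h4 := swap_comm c d ▸ h2
  by_cases ca : c = a
  · subst ca; exact Or.inl (Or.inl ⟨rfl, swap_eq_of_mem hS cd ab h2 h1⟩)
  by_cases cb : c = b
  · subst cb; exact Or.inl (Or.inr ⟨rfl, swap_eq_of_mem hS cd ab.symm h2 h3⟩)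
  refine Or.inr ⟨ca, cb, ?_, ?_⟩ <;> rintro rfl
  · exact cb (swap_eq_of_mem hS cd.symm ab h4 h1)
  · exact ca (swap_eq_of_mem hS cd.symm ab.symm h4 h3)

theorem conj_tri (π : Perm α) (a b c : α) :
    π * (swap a b * swap a c) * π⁻¹ = swap (π a) (π b) * swap (π a) (π c) := by
  rw [swap_apply_apply, swap_apply_apply]; group

theorem tri_mem {a b c a' b' : α} (ac : a ≠ c) (bc : b ≠ c) (h : a' = a ∧ b' = b ∨ a' = b ∧ b' = a) :
    swap a' b' * swap a' c ∈ zpowers (swap a b * swap a c) := by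
  rcases h with ⟨rfl, rfl⟩ | ⟨rfl, rfl⟩
  · exact mem_zpowers _
  rw [mul_swap_eq_swap_mul (swap a' b'), swap_apply_left, swap_apply_of_ne_of_ne bc.symm ac.symm,
    swap_comm a' b', ← inv_mem_iff, mul_inv_rev, swap_inv, swap_inv]
  exact mem_zpowers _

variable {P : Type u} [Group P] [Finite P]

theorem hatA_of {T M U : Subgroup P} {u x t : P} (h : H85.FP.Min T M) (a1 : U ≤ OZ 2 (pCore 2 P))
    (a2 : Nat.card U = 4) (a3 : u ∈ U) (a4 : u ≠ 1) (a5 : Odd (orderOf x))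
    (a6 : ∀ e ∈ pCore 2 P, ⁅e, x⁆ ∈ U) (a7 : x ∉ centralizer (U : Set P)) (a8 : t ∈ T)
    (a9 : ∀ v ∈ OZ 2 (pCore 2 P), ⁅v, t⁆ = 1 ∨ ⁅v, t⁆ = u) (a10 : t ∉ centralizer (U : Set P))
    (a11 : ∀ g ∈ T, cj g U = U ∨ (U ⊓ cj g U = ⊥ ∧ g * t * g⁻¹ ∈ centralizer (U : Set P)))
    (a12 : x ∉ M) : HatA T U u x t := by
  have nE : (pCore 2 P).Normal := inferInstance
  have VE := OZ_le (p := 2) (pCore 2 P)
  have nrm : ∀ X : Subgroup P, U ≤ X → X ≤ pCore 2 P → T ≤ normalizer (X : Set P) → X.Normal :=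
    fun X' b1 b2 b3 => normalizer_eq_top_iff.1 (min_eq_top' h b3
      (mem_normalizer_fintype fun e he => by
        simpa [commutatorElement_def, mul_assoc] using
          mul_mem (inv_mem (b1 (a6 e (b2 he)))) he) a12)
  refine ⟨a1, a2, a3, a4, a5, a6, a7, a8, a9, a10, a11, fun s hs h1 => ?_, nrm⟩
  have b1 : U ≤ ⨆ g ∈ T, cj g U := le_iSup₂_of_le 1 T.one_mem (cj_one U).ge
  have := nrm _ b1 (iSup₂_le fun g _ => cj_le_of_norm (a1.trans VE) (le_nrm nE ⊤ trivial))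
    fun a ha => mem_normalizer_fintype fun y hy => (show cj a (⨆ g ∈ T, cj g U) ≤ _ by
      simp only [Subgroup.map_iSup]
      exact iSup₂_le fun g hg => le_iSup₂_of_le (a * g) (mul_mem ha hg) (cj_mul a g U).ge)
      (conj_mem_cj hy)
  exact min_nk h (fun e => a7 (cent_anti b1 (e (mem_resOf trivial
    (Nat.coprime_two_right.2 a5))))) ⟨hs, mem_cent_iff_le.2 (iSup₂_le fun g hg =>
      mem_cent_iff_le.1 (h1 g hg))⟩

variable {E V X Y : Subgroup P} {ρ : X →* Perm α} {f : P → α → ZMod 2}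

theorem SD.aut (h : SD E V X Y ρ f) (h6 : Fintype.card α ≠ 6) {g : P}
    (hg : g ∈ normalizer (X : Set P)) :
    ∃ π : Perm α, ∀ y y' : X, (y' : P) = g * y * g⁻¹ → ρ y' = π * ρ y * π⁻¹ := by
  obtain ⟨ψ, hψ⟩ := exists_aut ρ h.surj (X.normalizerMonoidHom ⟨g, hg⟩) fun a ha =>
    (h.ker _).2 (h.nE.conj_mem _ ((h.ker a).1 ha) g)
  obtain ⟨π, hπ⟩ := aut_perm (by have := h.card; omega) h6 ψ
  exact ⟨π, fun y y' e => by rw [← hπ, hψ]; exact congrArg ρ (Subtype.ext e)⟩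

theorem SD.comm_le (h : SD E V X Y ρ f) {x y : X} (h1 : ρ y ∈ zpowers (ρ x)) :
    ⁅V, zpowers (y : P)⁆ ≤ ⁅V, zpowers (x : P)⁆ := by
  refine commutator_le.2 ?_
  rintro v hv _ ⟨k, rfl⟩
  obtain ⟨l, hl⟩ := zpow_mem h1 k
  have e1 := h.cE ((h.ker ((x ^ l)⁻¹ * y ^ k)).1 (by
    rw [map_mul, map_inv, map_zpow, map_zpow, ← hl, inv_mul_cancel])) (inv_mem hv)
  have e : ⁅v, (y : P) ^ k⁆ = ⁅v, (x : P) ^ l⁆ :=
    calc _ = v * x ^ l * (((x : P) ^ l)⁻¹ * y ^ k * v⁻¹) * ((y : P) ^ k)⁻¹ := by group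
      _ = _ := by erw [← e1]; simp [commutatorElement_def, mul_assoc]
  exact e ▸ commutator_mem_commutator hv ⟨l, rfl⟩

theorem SD.fpf (h : SD E V X Y ρ f) {x : P} (hx : (orderOf x).Coprime 2) :
    centralizer (zpowers x : Set P) ⊓ ⁅V, zpowers x⁆ = ⊥ :=
  haveI : IsMulCommutative V := ⟨⟨fun a b => Subtype.ext (EA_le_cent h.eV b.2 a a.2)⟩⟩
  H4.centralizer_inf_commutator_eq_bot (le_nrm h.nV _) (coprime_zpowers hx (EA_isPGroup h.eV))

theorem SD.eq_one_of (h : SD E V X Y ρ f) {x : X} (hx : (orderOf (x : P)).Coprime 2) {w : P}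
    (hw : w ∈ ⁅V, zpowers (x : P)⁆) (c : α) (h1 : ∀ i, i ≠ c → f w i = 0) : w = 1 := by
  have hW := commutator_mono le_rfl (zpowers_le.2 x.2) hw
  refine (h.fpf hx).le ⟨cent_anti (zpowers_le.2 x.2) ((h.zero w hW).1 (funext fun i => ?_)), hw⟩
  by_cases e : i = c
  · rw [e, ← Finset.sum_eq_single c (fun b _ => h1 b) (fun e => (e (Finset.mem_univ c)).elim)]
    exact h.sum w hW
  · exact h1 i e

theorem sym : H85.FP.SymStmt.{u} := fun P _ _ T M X Y n h hF hn h5 hA => by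
  classical
  obtain ⟨nW, -, ρ, ψ, hρ, s1, s2, s3, s4⟩ := hA
  have nE : (pCore 2 P).Normal := inferInstance
  have KX : X ⊔ Y ≤ normalizer (X : Set P) := sup_le le_normalizer fun y hy =>
    mem_normalizer_fintype fun a ha => by
      simpa [commutatorElement_def, mul_assoc] using
        mul_mem (inv_mem (hF.le (hF.comm (commutator_mem_commutator ha hy)))) ha
  have sX : SubnIn X ⊤ := (SubnIn.of_norm le_sup_left KX).trans
    (SubnIn.of_norm le_top (le_nrm hF.nrm _))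
  obtain ⟨f, D⟩ : ∃ f, SD (pCore 2 P) (OZ 2 (pCore 2 P)) X Y ρ f := by
    refine ⟨fun w => if hw : w ∈ ⁅OZ 2 (pCore 2 P), X⁆ then Multiplicative.toAdd (ψ ⟨w, hw⟩) else 0,
      nE, normal_V, pCore_isPGroup, EA_OZ _, pushed_cV h, hF.le, hF.nrm, KX, fun K k1 k2 k3 =>
        pCoreOf_top (p := 2) (G := P) ▸ ((SubnIn.of_norm k1 k2).trans sX).le_pCoreOf k3,
      hF.dec, hF.cy, by simpa using h5, MonoidHom.range_eq_top.1 hρ, fun w hw w' hw' => ?_,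
      fun w hw => ?_, fun v hv => ?_, fun w hw => ?_, fun e w hw i => ?_⟩
    · rw [dif_pos hw, dif_pos hw', dif_pos (mul_mem hw hw'), ← toAdd_mul, ← map_mul]; rfl
    · simpa only [dif_pos hw] using s1 ⟨w, hw⟩
    · obtain ⟨w, e⟩ := s2 v hv
      exact ⟨w, w.2, by rw [dif_pos w.2, e]⟩
    · rw [dif_pos hw, toAdd_eq_zero, s3]
      exact ⟨fun e => e.2, fun e => ⟨hw, e⟩⟩
    · obtain ⟨w', e1, e2⟩ := s4 e ⟨w, hw⟩
      simp only [dif_pos hw, dif_pos (conj_mem nW e.2 hw), ← e2]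
      exact congrArg (fun y => Multiplicative.toAdd (ψ y) i) (Subtype.ext e1.symm)
  have hS : IsSylowIn 2 (((T ⊓ X).subgroupOf X).map ρ) ⊤ :=
    map_top_of_surjective ρ D.surj ▸ (isSylowIn_top (h.syl.inf_subnIn sX).toSylow).map ρ
  have mS : ∀ σ, σ ∈ ((T ⊓ X).subgroupOf X).map ρ ↔ ∃ y : X, (y : P) ∈ T ∧ ρ y = σ := fun σ =>
    ⟨fun ⟨y, a, b⟩ => ⟨y, a.1, b⟩, fun ⟨y, a, b⟩ => ⟨y, ⟨a, y.2⟩, b⟩⟩
  generalize ((T ⊓ X).subgroupOf X).map ρ = S at hS mS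
  obtain ⟨c, hc⟩ := exists_unc hS.isPGroup (by simpa using hn)
  have TM := min_TM h.toMin
  obtain ⟨a, ha⟩ : ∃ a, swap c a ∉ (M.subgroupOf X).map ρ := by
    by_contra hh
    push Not at hh
    exact fac_not_le h.toMin hF (D.gen ((min_E_le h.toMin).trans TM) (eq_top_of_swap hh))
  have ac : a ≠ c := by rintro rfl; exact ha (by rw [swap_self]; exact one_mem _)
  obtain ⟨b, hb, ab⟩ : ∃ b, swap a b ∈ S ∧ a ≠ b := by
    by_contra hh
    push Not at hh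
    exact ac (Unc.unique hS hh hc)
  have bc : b ≠ c := by rintro rfl; exact ac (hc a (swap_comm a b ▸ hb)).symm
  obtain ⟨t, tT, ht⟩ := (mS _).1 hb
  have o3 := (Perm.isThreeCycle_swap_mul_swap_same ab ac bc).orderOf
  obtain ⟨x, xc, hx⟩ : ∃ x : X, (orderOf (x : P)).Coprime 2 ∧ ρ x = swap a b * swap a c := by
    obtain ⟨y, hy⟩ := D.surj (swap a b * swap a c)
    obtain ⟨k, hk⟩ := coprime_orderOf_pow_ppow (p := 2) (y : P)
    refine ⟨(y ^ 2 ^ k) ^ 2 ^ k, hk.coprime_dvd_left (orderOf_pow_dvd _), ?_⟩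
    rw [map_pow, map_pow, hy, ← pow_mul, ← mul_pow, ← pow_mod_orderOf, o3, Nat.pow_mod]
    simp
  have xM : (x : P) ∉ M := fun e => ha (by
    have := mul_mem (inv_mem (mem_map_of_mem ρ (show t ∈ M.subgroupOf X from TM tT)))
      (mem_map_of_mem ρ (show x ∈ M.subgroupOf X from e))
    rwa [ht, hx, inv_mul_cancel_left, swap_comm] at this)
  have fp := D.fpf xc
  have UW : ⁅OZ 2 (pCore 2 P), zpowers (x : P)⁆ ≤ ⁅OZ 2 (pCore 2 P), X⁆ :=
    commutator_mono le_rfl (zpowers_le.2 x.2)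
  have xe : ∀ e ∈ pCore 2 P, ⁅e, (x : P)⁆ ∈ ⁅OZ 2 (pCore 2 P), zpowers (x : P)⁆ := fun e he =>
    (H4.commutator_commutator_eq (le_nrm nE _) (coprime_zpowers xc D.pE)
      (Or.inl (H4.isSolvable_of_isMulCommutative _))).ge.trans (commutator_mono
        ((commutator_mono le_rfl (zpowers_le.2 (mem_resOf (mem_top (x : P)) xc))).trans h.push)
        le_rfl) (commutator_mem_commutator he (mem_zpowers _))
  suffices H : ∃ u, Nat.card ↥⁅OZ 2 (pCore 2 P), zpowers (x : P)⁆ = 4 ∧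
      u ∈ ⁅OZ 2 (pCore 2 P), zpowers (x : P)⁆ ∧ u ≠ 1 ∧
      (x : P) ∉ centralizer ((⁅OZ 2 (pCore 2 P), zpowers (x : P)⁆ : Subgroup P) : Set P) ∧
      (∀ v ∈ OZ 2 (pCore 2 P), ⁅v, (t : P)⁆ = 1 ∨ ⁅v, (t : P)⁆ = u) ∧
      (t : P) ∉ centralizer ((⁅OZ 2 (pCore 2 P), zpowers (x : P)⁆ : Subgroup P) : Set P) ∧
      ∀ g ∈ T, cj g ⁅OZ 2 (pCore 2 P), zpowers (x : P)⁆ = ⁅OZ 2 (pCore 2 P), zpowers (x : P)⁆ ∨
        (⁅OZ 2 (pCore 2 P), zpowers (x : P)⁆ ⊓ cj g ⁅OZ 2 (pCore 2 P), zpowers (x : P)⁆ = ⊥ ∧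
          g * t * g⁻¹ ∈
            centralizer ((⁅OZ 2 (pCore 2 P), zpowers (x : P)⁆ : Subgroup P) : Set P)) by
    obtain ⟨u, a2, a3, a4, a7, a9, a10, a11⟩ := H
    exact ⟨_, u, x, t, hatA_of h.toMin (UW.trans D.WV) a2 a3 a4 (Nat.coprime_two_right.1 xc) xe a7
      tT a9 a10 a11 xM⟩
  clear xe s1 s2 s3 s4 nW ψ
  generalize OZ 2 (pCore 2 P) = V at *
  have cjU : ∀ g, cj g ⁅V, zpowers (x : P)⁆ = ⁅V, zpowers (g * x * g⁻¹)⁆ := fun g => by
    rw [cj_comm, cj_eq_self (le_nrm D.nV ⊤ (mem_top g))]; congr 1; exact MonoidHom.map_zpowers _ _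
  have eqU : ∀ (g : P) (y : X), (y : P) = g * x * g⁻¹ → ρ y ∈ zpowers (ρ x) →
      cj g ⁅V, zpowers (x : P)⁆ = ⁅V, zpowers (x : P)⁆ := fun g y e1 e2 =>
    eq_of_le_of_card_ge (by rw [cjU, ← e1]; exact D.comm_le e2) (card_cj _ _).ge
  have fix : ∀ {a b c i : Fin n}, i ≠ a → i ≠ b → i ≠ c → (swap a b * swap a c) i = i :=
    fun h1 h2 h3 => by rw [Perm.mul_apply, swap_apply_of_ne_of_ne h1 h3, swap_apply_of_ne_of_ne h1 h2]
  have sp : ∀ w ∈ ⁅V, zpowers (x : P)⁆, ∀ i, i ≠ a → i ≠ b → i ≠ c → f w i = 0 :=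
    fun w hw i h1 h2 h3 => D.supp x (hx ▸ fix h1 h2 h3) hw
  have x1 : ρ x ≠ 1 := fun e => by rw [← hx, e, orderOf_one] at o3; omega
  have U0 : ⁅V, zpowers (x : P)⁆ ≠ ⊥ := fun e =>
    x1 ((D.ker x).2 (D.cV.le (comm_eq_bot_iff.1 e (mem_zpowers _))))
  have xU : (x : P) ∉ centralizer ((⁅V, zpowers (x : P)⁆ : Subgroup P) : Set P) := fun e =>
    U0 (eq_bot_iff.2 ((le_inf (mem_cent_iff_le.1 e) le_rfl).trans fp.le))
  have xN : (x : P) ∈ normalizer ((⁅V, zpowers (x : P)⁆ : Subgroup P) : Set P) :=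
    normalizer_commutator_ge_right _ _ (mem_zpowers _)
  have e1 : ρ t * ρ x * (ρ t)⁻¹ = swap b a * swap b c := by
    rw [hx, conj_tri, ht, swap_apply_left, swap_apply_right, swap_apply_of_ne_of_ne ac.symm bc.symm]
  have tN : (t : P) ∈ normalizer ((⁅V, zpowers (x : P)⁆ : Subgroup P) : Set P) :=
    cj_eq_self_iff.1 (eqU t (t * x * t⁻¹) rfl (by
      rw [map_mul, map_mul, map_inv, e1, hx]; exact tri_mem ac bc (Or.inr ⟨rfl, rfl⟩)))
  obtain ⟨v, hv, u1⟩ : ∃ v ∈ ⁅V, zpowers (x : P)⁆, ⁅v, (t : P)⁆ ≠ 1 := by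
    obtain ⟨d, da, db, dc, -⟩ := exists_ne_four D.card a b c c
    obtain ⟨w, hw, e⟩ := D.ex _ (sum_ev a d)
    refine ⟨⁅w, (x : P)⁆, commutator_mem_commutator (D.WV hw) (mem_zpowers _), fun e2 => ?_⟩
    have := (D.comm_cent t (D.comm_mem (D.WV hw) x.2)).1 (e2 ▸ one_mem _) a
    rw [ht, swap_inv, swap_apply_left, D.comm x hw, D.comm x hw, e, hx] at this
    simp [ev_apply, swap_apply_def, bc, ab.symm, ac.symm, da.symm, db.symm, dc.symm] at this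
  obtain ⟨u, hu⟩ := D.tv ab ht
  obtain rfl : ⁅v, (t : P)⁆ = u := (hu v (D.WV (UW hv))).resolve_left u1
  refine ⟨_, ?_, by
    simpa [commutatorElement_def, mul_assoc] using
      mul_mem hv ((mem_normalizer_iff.1 tN _).1 (inv_mem hv)), u1, xU, hu,
    fun e => u1 (commutatorElement_eq_one_iff_mul_comm.2 (e v hv)), fun g hg => ?_⟩
  · let φ : ↥⁅V, zpowers (x : P)⁆ →* Multiplicative (ZMod 2 × ZMod 2) :=
      MonoidHom.mk' (fun w => Multiplicative.ofAdd (f w a, f w b)) fun w w' => by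
        rw [coe_mul, D.mul _ (UW w.2) _ (UW w'.2)]; rfl
    have e2 : Nat.card ↥⁅V, zpowers (x : P)⁆ ∣ 4 := by
      simpa using card_dvd_of_injective φ ((injective_iff_map_eq_one φ).2 fun w e =>
        Subtype.ext (D.eq_one_of xc w.2 c fun i ic => by
          have e3 := Prod.ext_iff.1 (congrArg Multiplicative.toAdd e)
          by_cases ia : i = a
          · exact ia ▸ e3.1
          by_cases ib : i = b
          · exact ib ▸ e3.2
          exact sp _ w.2 i ia ib ic))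
    have e4 : Nat.card ↥⁅V, zpowers (x : P)⁆ ≠ 1 := fun e => U0 (card_eq_one.1 e)
    have e5 : Nat.card ↥⁅V, zpowers (x : P)⁆ ≠ 2 := fun e => by
      obtain ⟨⟨c, hc⟩, c1, c2⟩ := (Nat.card_eq_two_iff' (1 : ↥⁅V, zpowers (x : P)⁆)).1 e
      have c1' : c ≠ 1 := fun e => c1 (Subtype.ext e)
      have := congrArg Subtype.val (c2 ⟨_, (mem_normalizer_iff.1 xN c).1 hc⟩
        fun e => c1' (by simpa using e))
      exact c1' (fp.le ⟨mem_cz (mul_inv_eq_iff_eq_mul.1 this), hc⟩)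
    have e6 := Nat.le_of_dvd four_pos e2
    interval_cases Nat.card ↥⁅V, zpowers (x : P)⁆ <;> omega
  have xc' : (orderOf (g * x * g⁻¹)).Coprime 2 := by
    rwa [← MulAut.conj_apply, MulEquiv.orderOf_eq]
  rcases D.cj_dich g with gX | gX
  swap
  · refine Or.inr ⟨eq_bot_iff.2 fun w hw => (D.fpf xc').le ⟨mem_cent_iff_le.1
      (gX (conj_mem_cj x.2)) (UW hw.1), cjU g ▸ hw.2⟩, cent_anti UW (gX (conj_mem_cj t.2))⟩
  obtain ⟨π, hπ⟩ := D.aut (by rw [Fintype.card_fin]; rintro rfl; exact absurd hn (by decide)) gX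
  have mX : ∀ y : X, g * y * g⁻¹ ∈ X := fun y => (mem_normalizer_iff.1 gX _).1 y.2
  have πc : π c = c := Unc.unique hS (hc.conj fun σ hσ => by
    obtain ⟨y, yT, rfl⟩ := (mS σ).1 hσ
    refine (mS _).2 ⟨⟨g⁻¹ * y * g, (mem_normalizer_iff''.1 gX _).1 y.2⟩,
      mul_mem (mul_mem (inv_mem hg) yT) hg, ?_⟩
    rw [hπ ⟨g⁻¹ * y * g, (mem_normalizer_iff''.1 gX _).1 y.2⟩ y (by simp [mul_assoc])]
    group) hc
  have e2 := hπ t ⟨_, mX t⟩ rfl
  have e3 := hπ x ⟨_, mX x⟩ rfl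
  rw [ht, ← swap_apply_apply] at e2
  rw [hx, conj_tri, πc] at e3
  have ab' := π.injective.ne ab
  refine (swap_tri hS.isPGroup ab ab' hb ((mS _).2 ⟨_, mul_mem (mul_mem hg tT) (inv_mem hg),
    e2⟩)).imp (fun e => eqU g ⟨_, mX x⟩ rfl (by rw [e3, hx]; exact tri_mem ac bc e))
    fun ⟨k1, k2, k3, k4⟩ => ⟨eq_bot_iff.2 fun w hw => D.eq_one_of xc hw.1 c fun i ic => ?_,
      fun w hw => D.tv_cent ab' e2 (UW hw) ?_⟩
  · by_cases ia : i = a ∨ i = b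
    · refine D.supp ⟨_, mX x⟩ (e3 ▸ fix ?_ ?_ ic) (cjU g ▸ hw.2) <;> rcases ia with rfl | rfl
      exacts [k1.symm, k2.symm, k3.symm, k4.symm]
    · exact sp _ hw.1 i (not_or.1 ia).1 (not_or.1 ia).2 ic
  · rw [sp w hw _ k1 k2 (πc ▸ π.injective.ne ac), sp w hw _ k3 k4 (πc ▸ π.injective.ne bc)]

end Cfsg.Agent.H77.FP
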