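import Cfsg.Agent.H77.FPLin1
import Cfsg.Agent.H77.FPSym3
import Cfsg.Agent.H53.FMDefs
import Cfsg.Agent.H3.Cores

/-! Project FPF: the linear factors over fields with more than two elements. -/

set_option autoImplicit false
set_option linter.unusedSectionVars false

namespace Cfsg.Agent.H77.FP

open Subgroup Cfsg Cfsg.Agent.H83 Cfsg.Agent.H77.OC Cfsg.Agent.H7.FB Matrix
open Cfsg.Agent.H53.OC (factTwo normal_V orb cj_le_orb orb_le le_orb norm_orb)
open Cfsg.Agent.H15.OCLin hiding LD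
open scoped commutatorElement MatrixGroups

universe u

variable {P : Type u} [Group P] [Finite P] {F : Type} [Field F] {T M X Y : Subgroup P}
  {ρ : X →* SL(2, F)} {π : P → Fin 2 → F}

local notation:max "Vc " P:max => OZ 2 (pCore 2 P)
local notation:max "Uc " P:max X:max => (⁅OZ 2 (pCore 2 P), X⁆ : Subgroup P)

namespace LD

variable (h : LD T M X Y ρ π)

/-- The preimage of the line. -/
def line : Subgroup P where
  carrier := {v | v ∈ Uc P X ∧ π v 1 = 0}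
  one_mem' := ⟨one_mem _, by rw [h.toPD.one]; rfl⟩
  mul_mem' := fun ha hb => ⟨mul_mem ha.1 hb.1, by
    rw [h.add _ (UV X ha.1) _ (UV X hb.1), Pi.add_apply, ha.2, hb.2, add_zero]⟩
  inv_mem' := fun ha => ⟨inv_mem ha.1, by rw [h.toPD.inv (UV X ha.1), Pi.neg_apply, ha.2, neg_zero]⟩

include h

theorem card_U [Fintype F] : Nat.card ↥(Uc P X) = Fintype.card F * Nat.card h.line := by
  let φ : ↥(Uc P X) →* Multiplicative F := MonoidHom.mk' (fun u => Multiplicative.ofAdd (π u 1))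
    fun a b => by rw [← ofAdd_add, ← Pi.add_apply, ← h.add _ (UV X a.2) _ (UV X b.2)]; rfl
  have h1 : φ.range = ⊤ := MonoidHom.range_eq_top.2 fun x => by
    obtain ⟨u, hu, e⟩ := h.ontoU ![0, Multiplicative.toAdd x]
    exact ⟨⟨u, hu⟩, by show Multiplicative.ofAdd (π u 1) = x; rw [e]; rfl⟩
  have h2 : φ.ker = h.line.subgroupOf (Uc P X) := by
    ext u
    exact ofAdd_eq_one.trans (and_iff_right u.2).symm
  rw [← φ.ker.index_mul_card, index_ker, h1, card_top, h2,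
    card_subgroupOf (show h.line ≤ Uc P X from fun _ a => a.1),
    Nat.card_eq_fintype_card, Fintype.card_multiplicative]

theorem card_R [Fintype F] : Nat.card ↥(T ⊓ X) = Fintype.card F * Nat.card (pCore 2 P) := by
  let φ : ↥(T ⊓ X) →* SL(2, F) := ρ.comp (inclusion inf_le_right)
  have h1 : φ.range = St ![1, 0] := by
    ext A
    constructor
    · rintro ⟨t, rfl⟩
      obtain ⟨c, hc⟩ := (h.memT ⟨t, t.2.2⟩).1 t.2.1
      exact (show φ t = up c from hc) ▸ up_fix c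
    · intro hA
      obtain ⟨c, rfl⟩ := eq_up hA
      obtain ⟨a, ha, e⟩ := h.exT c
      exact ⟨⟨a, ha, a.2⟩, e⟩
  have h2 : φ.ker = (pCore 2 P).subgroupOf (T ⊓ X) := by
    ext t
    exact h.ker ⟨t, t.2.2⟩
  rw [← φ.ker.index_mul_card, index_ker, h1, card_St, h2,
    card_subgroupOf (le_inf (min_E_le h.pu.toMin) h.fac.le)]

theorem EU : pCore 2 P ≤ centralizer (Uc P X : Set P) := (pushed_cV h.pu).ge.trans (cent_anti (UV X))

theorem nF : T ⊓ X ≤ normalizer ((T ⊓ centralizer (Uc P X : Set P) : Subgroup P) : Set P) :=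
  le_norm_inf (le_norm_of_le inf_le_left)
    (inf_le_right.trans (le_norm_cent (normalizer_commutator_ge_right _ _)))

theorem split {t : P} (ht : t ∈ T ⊓ X ⊔ T ⊓ centralizer (Uc P X : Set P)) :
    ∃ (r : X) (c : F), (r : P) ∈ T ∧ ρ r = up c ∧ (∀ v ∈ Uc P X, ⁅v, t⁆ = ⁅v, (r : P)⁆) ∧
      (t ∉ centralizer (Uc P X : Set P) → c ≠ 0) := by
  obtain ⟨r, hr, f, hf, rfl⟩ := (mem_sup_right_norm h.nF).1 ht
  obtain ⟨c, hc⟩ := (h.memT ⟨r, hr.2⟩).1 hr.1
  refine ⟨⟨r, hr.2⟩, c, hr.1, hc, fun v hv => ?_, fun h1 e => h1 (mul_mem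
    (h.EU ((h.ker ⟨r, hr.2⟩).1 (by rw [hc, e, up_zero]))) hf.2)⟩
  calc _ = v * r * (f * v⁻¹) * f⁻¹ * r⁻¹ := by group
    _ = _ := by rw [← hf.2 _ (inv_mem hv)]; group

theorem comm_E : ⁅pCore 2 P, resOf 2 X⁆ ≤ Uc P X := by
  rw [← comm_resOf_comm pCore_isPGroup (le_nrm inferInstance X)]
  exact commutator_mono ((commutator_mono le_rfl (resOf_mono le_top)).trans h.pu.push) (resOf_le X)

theorem exists_up : ∃ t : X, (t : P) ∈ T ∧ ρ t = up 1 ∧ (t : P) ∉ centralizer (Uc P X : Set P) :=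
  (h.exT 1).imp fun t ⟨h1, h2⟩ => ⟨h1, h2, fun e => one_ne_zero (up_inj (h2.symm.trans
    (((h.ker t).2 (h.cent_le t.2 e)).trans up_zero.symm)))⟩

variable (hq : ∃ a : F, a ≠ 0 ∧ a ^ 2 ≠ 1) [Fintype F] [CharP F 2]
include hq

theorem kc : ⁅T ⊓ centralizer (Uc P X : Set P), resOf 2 X⁆ ≤ Uc P X := by
  have h1 : ⁅T ⊓ centralizer (Uc P X : Set P), X⁆ ≤ pCore 2 P := commutator_le.2 fun s hs x hx =>
    h.cent_le (comm_le_right (A := centralizer (Uc P X : Set P)) (fun _ a =>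
      h.norm_X hq (centralizer_le_normalizer _ a)) (commutator_mem_commutator hs.2 hx))
      (comm_le_left (le_norm_cent (normalizer_commutator_ge_right _ _))
        (commutator_mem_commutator hs.2 hx))
  rw [← comm_resOf_comm h.pu.syl.isPGroup.to_inf_left (le_normalizer_iff_commutator_le_left.2
    (h1.trans (le_inf (min_E_le h.pu.toMin) h.EU)))]
  exact (commutator_mono ((commutator_mono le_rfl (resOf_le X)).trans h1) le_rfl).trans h.comm_E

theorem cent_sq :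
    resOf 2 X ≤ centralizer (H53.OC.sq (T ⊓ centralizer (Uc P X : Set P)) : Set P) := by
  refine le_centralizer_iff.1 ((closure_le _).2 ?_)
  rintro _ ⟨e, he, rfl⟩ x hx
  have h1 := h.kc hq (commutator_mem_commutator he hx)
  have h2 := he.2 _ h1
  have h3 := (mem_OZ.1 (UV X h1)).2.2
  symm
  calc e * e * x = e * ⁅e, x⁆ * x * e := by group
    _ = ⁅e, x⁆ ^ 2 * (x * (e * e)) := by rw [← h2, pow_two]; group
    _ = _ := by rw [h3, one_mul]

omit hq in
theorem torus (hq : ∃ a : F, a ≠ 0 ∧ a ^ 2 ≠ 1) : ∃ (d : X) (a : F) (ha : a ≠ 0), a ≠ 1 ∧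
    ρ d = dg a ha ∧ (orderOf (d : P)).Coprime 2 ∧ ∀ b : F, b ≠ 0 → ∃ j : ℕ, a ^ j = b := by
  obtain ⟨a, ha⟩ := IsCyclic.exists_monoid_generator (α := Fˣ)
  obtain ⟨d, hd⟩ := h.surj (dg a a.ne_zero)
  obtain ⟨k, hk⟩ := coprime_orderOf_pow_ppow (p := 2) (d : P)
  have h1 : ∀ b : F, b ≠ 0 → ∃ j : ℕ, ((a : F) ^ 2 ^ k) ^ j = b := fun b hb => by
    obtain ⟨c, rfl⟩ := (bijective_iterateFrobenius F 2 k).2 b
    obtain ⟨j, hj⟩ := ha (Units.mk0 c fun e => hb (by rw [e, map_zero]))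
    exact ⟨j, by rw [← pow_mul, mul_comm, pow_mul, ← Units.val_pow_eq_pow_val,
      show a ^ j = _ from hj]; rfl⟩
  refine ⟨d ^ 2 ^ k, (a : F) ^ 2 ^ k, pow_ne_zero _ a.ne_zero, fun e => ?_,
    by rw [map_pow, hd, dg_pow], hk, h1⟩
  obtain ⟨b, b0, b1⟩ := hq
  obtain ⟨j, rfl⟩ := h1 b b0
  exact b1 (by rw [e, one_pow, one_pow])

theorem hatB : H85.FP.HatB T (T ⊓ X ⊔ T ⊓ centralizer (Uc P X : Set P)) (Uc P X) h.line
    (resOf 2 X) := by
  have nV := normal_V (P := P)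
  have nE : (pCore 2 P).Normal := inferInstance
  have ET := min_E_le h.pu.toMin
  obtain ⟨d, a, ha, a1, hd, ho, -⟩ := h.torus hq
  obtain ⟨t, tT, ht, tU⟩ := h.exists_up
  have cj1 : ∀ g, g ∉ normalizer (Uc P X : Set P) → X ≤ centralizer (cj g (Uc P X) : Set P) :=
    fun g hg => h.le_of_res hq ((pushed_cV h.pu).ge.trans (cent_anti (cj_le_of_norm (UV X)
      (le_nrm nV ⊤ (mem_top g))))) ((h.di g).resolve_left hg)
  have nc : ¬ resOf 2 (⊤ : Subgroup P) ≤ centralizer (Uc P X : Set P) := fun e =>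
    tU (h.le_of_res hq h.EU ((resOf_mono le_top).trans e) t.2)
  have nrm : ∀ X' : Subgroup P, Uc P X ≤ X' → X' ≤ pCore 2 P → T ≤ normalizer (X' : Set P) →
      X'.Normal := fun X' h1 h2 h3 => normalizer_eq_top_iff.1 (min_eq_top h.pu.toMin h3 fun e =>
    fac_not_le h.pu.toMin h.fac (h.le_of_res hq (ET.trans (min_TM h.pu.toMin))
      ((le_normalizer_iff_commutator_le_left.2
        ((commutator_mono h2 le_rfl).trans (h.comm_E.trans h1))).trans e)))
  refine ⟨UV X, fun _ a => a.1, ?_, le_sup_right, sup_le (inf_le_inf_left _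
    (normalizer_commutator_ge_right _ _)) (inf_le_inf_left _ (centralizer_le_normalizer _)), ?_,
    fun s hs h1 v hv h2 => ?_, fun g _ h1 => ⟨t, mem_sup_left ⟨tT, t.2⟩, tU, cj1 g h1 t.2⟩,
    fun g hg h1 => ?_, fun n hn h1 y hy h2 => ?_, fun s hs h1 => ?_, nrm, nc, h.kc hq, fun e => ?_⟩
  · obtain ⟨v, hv, e1⟩ := h.ontoU ![0, 1]
    obtain ⟨w, hw, e2⟩ := h.ontoU ![0, a]
    refine ⟨v, hv, w, hw, fun e => by simpa [e1] using e.2, fun e => ha (by simpa [e2] using e.2),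
      fun e => a1 ?_⟩
    have := e.2
    rw [h.add _ (UV X hv) _ (UV X hw), e1, e2] at this
    exact ((CharTwo.add_eq_zero (R := F)).1 (by simpa using this)).symm
  · have e := H3.card_sup_mul_card_inf_of_le_normalizer h.nF
    rw [show T ⊓ X ⊓ (T ⊓ centralizer (Uc P X : Set P)) = pCore 2 P from le_antisymm
      (fun g hg => h.cent_le hg.1.2 hg.2.2) (le_inf (le_inf ET h.fac.le) (le_inf ET h.EU)),
      h.card_R, mul_right_comm] at e
    rw [Nat.eq_of_mul_eq_mul_right Nat.card_pos e, h.card_U, mul_right_comm]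
  · obtain ⟨r, c, -, hc, e, c0⟩ := h.split hs
    have h3 := h.toPD.fix (UV X (commutator_mem_commutator (UV X hv) r.2))
      (d := d) (e v hv ▸ (h.cent_sq hq (mem_resOf d.2 ho) _ h2).symm)
    rw [hd, act_dg, h.comm_up hc (UV X hv)] at h3
    have h5 : (a - 1) * c * π v 1 = 0 := by
      have h4 := congrFun h3 0
      simp only [cons_val_zero] at h4
      linear_combination -h4
    exact ⟨hv, (mul_eq_zero.1 h5).resolve_left (mul_ne_zero (sub_ne_zero.2 a1) (c0 h1))⟩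
  · have gX := h.norm_X hq hg.2
    exact h.cen gX hg.1 (h.fl_of_comm gX hg.1 fun s hs => h.cent_le (comm_le_left le_rfl
      (commutator_mem_commutator hs.2 gX)) (h1 s hs.1))
  · obtain ⟨r, c, -, hc, e, c0⟩ := h.split hn
    have h3 : ∀ b : F, ∃ w ∈ Uc P X, π w = ![b, 0] ∧ y * w * y⁻¹ = w := fun b => by
      obtain ⟨v, hv, e1⟩ := h.ontoU ![0, -b / c]
      refine ⟨⁅v, (r : P)⁆, commutator_mem_commutator (UV X hv) r.2, ?_, by
        rw [← e v hv, h2 v hv, mul_inv_cancel_right]⟩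
      rw [h.comm_up hc (UV X hv), e1]
      simp [mul_div_cancel₀ _ (c0 h1)]
    have yX : y ∈ normalizer (X : Set P) := h.norm_X hq (by_contra fun h4 => by
      obtain ⟨w, hw, e1, e2⟩ := h3 1
      have := (h.zero w (UV X hw)).2 (le_centralizer_iff.1 (cj1 y h4) (e2 ▸ conj_mem_cj hw))
      simp [e1] at this)
    refine h.cen yX hy fun v hv h0 => ?_
    obtain ⟨w, hw, e1, e2⟩ := h3 (π v 0)
    have e3 : π v = π w := by rw [e1, ← h0]; exact vec_eq _
    rw [h.congr yX hv (UV X hw) e3, e2, e3]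
  · have := nrm (orb T (Uc P X)) (le_orb _ _) (orb_le fun g _ => cj_le_of_norm
      ((UV X).trans (OZ_le _)) (le_nrm nE ⊤ trivial)) (norm_orb _ _)
    exact min_nk h.pu.toMin (fun e => nc (e.trans (cent_anti (le_orb _ _)))) ⟨hs,
      mem_cent_iff_le.2 (orb_le fun g hg => mem_cent_iff_le.1 (h1 g hg))⟩
  · obtain ⟨b, b0, b1⟩ := hq
    have : Group.IsPerfect SL(2, F) := ⟨SL2.commutator_eq_top b0 b1⟩
    have : Nontrivial SL(2, F) := ⟨up 1, up 0, fun e => one_ne_zero (up_inj e)⟩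
    refine Group.IsPerfect.not_isSolvable SL(2, F) (Group.isSolvable_of_surjective
      (f := ρ.comp (inclusion (resOf_le (p := 2) X))) fun A => ?_)
    obtain ⟨x, hx, e⟩ := (h.map_res ⟨b, b0, b1⟩).ge (mem_top A)
    exact ⟨⟨x, hx⟩, e⟩

theorem tor : ∃ H, H53.FM.Tor T (T ⊓ X ⊔ T ⊓ centralizer (Uc P X : Set P)) (Uc P X) H := by
  have nV := normal_V (P := P)
  obtain ⟨d, a, ha, a1, hd, ho, hg⟩ := h.torus hq
  have eJ : ⁅Uc P X, T ⊓ X ⊔ T ⊓ centralizer (Uc P X : Set P)⁆ = ⁅Uc P X, T ⊓ X⁆ :=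
    le_antisymm (commutator_le.2 fun v hv t ht => by
      obtain ⟨r, -, rT, -, e, -⟩ := h.split ht
      exact e v hv ▸ commutator_mem_commutator hv ⟨rT, r.2⟩) (commutator_mono le_rfl le_sup_left)
  have nJ : zpowers (d : P) ≤ normalizer ((⁅Uc P X, T ⊓ X⁆ : Subgroup P) : Set P) :=
    le_norm_comm ((zpowers_le.2 d.2).trans (normalizer_commutator_ge_right _ _))
      (zpowers_le.2 (mem_normalizer_fintype fun r hr => by
        obtain ⟨c, hc⟩ := (h.memT ⟨r, hr.2⟩).1 hr.1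
        exact ⟨(h.memT (d * ⟨r, hr.2⟩ * d⁻¹)).2 ⟨_, by
          rw [map_mul, map_mul, map_inv, hd, hc, dg_conj]⟩, conj_mem le_normalizer d.2 hr.2⟩))
  have JL : ⁅Uc P X, T ⊓ X⁆ ≤ h.line := commutator_le.2 fun v hv r hr => by
    obtain ⟨c, hc⟩ := (h.memT ⟨r, hr.2⟩).1 hr.1
    exact ⟨commutator_mem_commutator (UV X hv) hr.2, by
      rw [show π ⁅v, r⁆ = _ from h.comm_up hc (UV X hv)]; rfl⟩
  have JV : ⁅Uc P X, T ⊓ X⁆ ≤ Vc P := fun _ a => UV X (JL a).1
  have : IsMulCommutative ↥(Vc P) := ⟨⟨fun a b => Subtype.ext (hab a.2 b.2)⟩⟩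
  have fp := H4.centralizer_inf_commutator_eq_bot (le_nrm nV (zpowers (d : P)))
    (coprime_zpowers ho (EA_isPGroup (EA_OZ _)))
  have inj : ∀ v ∈ ⁅⁅Uc P X, T ⊓ X⁆, zpowers (d : P)⁆, ∀ w ∈ ⁅⁅Uc P X, T ⊓ X⁆, zpowers (d : P)⁆,
      π v = π w → w⁻¹ * v = 1 := fun v hv w hw e => fp.le ⟨cent_anti (zpowers_le.2 d.2)
    (h.eq_mul (JV (comm_le_left nJ hv)) (JV (comm_le_left nJ hw)) e),
    commutator_mono JV le_rfl (mul_mem (inv_mem hw) hv)⟩
  refine ⟨zpowers (d : P), by rw [Nat.card_zpowers]; exact Nat.coprime_two_right.1 ho, eJ ▸ nJ,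
    (zpowers_le.2 (mem_resOf d.2 ho)).trans (h.cent_sq hq), eJ ▸ ⟨fun e => ?_, ?_⟩⟩
  · obtain ⟨t, tT, ht, -⟩ := h.exists_up
    obtain ⟨v, hv, e1⟩ := h.ontoU ![0, 1]
    have h1 := commutator_mem_commutator hv (show (t : P) ∈ T ⊓ X from ⟨tT, t.2⟩)
    have h2 := h.toPD.fix (JV h1) (d := d) (comm_eq_bot_iff.1 e (mem_zpowers _) _ h1).symm
    rw [hd, act_dg, h.comm_up ht (UV X hv), e1] at h2
    exact a1 (by simpa using congrFun h2 0)
  intro v hv w hw v1 w1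
  have h0 : ∀ v ∈ ⁅⁅Uc P X, T ⊓ X⁆, zpowers (d : P)⁆, v ≠ 1 → π v 0 ≠ 0 := fun v hv v1 e =>
    v1 (by simpa using inj v hv 1 (one_mem _) (by
      rw [h.toPD.one, vec_eq (π v), e, (JL (comm_le_left nJ hv)).2]; simp))
  obtain ⟨j, hj⟩ := hg (π w 0 / π v 0) (div_ne_zero (h0 w hw w1) (h0 v hv v1))
  have dj : (d : P) ^ j ∈ zpowers (d : P) := pow_mem (mem_zpowers _) j
  refine ⟨_, dj, (inv_mul_eq_one.1 (inj _ (conj_mem (normalizer_commutator_ge_right _ _) dj hv)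
    w hw ?_)).symm⟩
  refine (h.eqv (d ^ j) v (JV (comm_le_left nJ hv))).trans ?_
  rw [map_pow, hd, dg_pow,
    act_dg, hj, div_mul_cancel₀ _ (h0 v hv v1), (JL (comm_le_left nJ hv)).2, mul_zero,
    ← (JL (comm_le_left nJ hw)).2]
  exact (vec_eq _).symm

end LD

theorem lin : H53.FM.LinStmt.{u} := by
  intro P _ _ T M X Y F _ _ n hP hF hc hn hA
  classical
  have : CharP F 2 := charP_of_card_eq_prime_pow hc
  have hq : ∃ a : F, a ≠ 0 ∧ a ^ 2 ≠ 1 := by
    obtain ⟨a, -, ha⟩ := Finset.exists_mem_notMem_of_card_lt_card (s := ({0, 1} : Finset F))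
      (t := Finset.univ) (Finset.card_le_two.trans_lt (by
        rw [Finset.card_univ, hc]
        exact (by norm_num : 2 < 2 ^ 2).trans_le (Nat.pow_le_pow_right (by norm_num) hn)))
    simp only [Finset.mem_insert, Finset.mem_singleton, not_or] at ha
    exact ⟨a, ha.1, fun e => ha.2 (eq_one_of_pow (k := 1) e)⟩
  obtain ⟨ρ, π, h⟩ := exists_LD hc (by omega) hP hF hA
  obtain ⟨H, hH⟩ := h.tor hq
  exact ⟨_, _, _, _, H, h.hatB hq, hH⟩

open Cfsg.Agent.H27.OC3 in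
theorem hatM : H53.FM.HatStmt.{u} := by
  intro P _ _ T M hP
  obtain ⟨S, rfl⟩ := hP.syl.exists_sylow_top
  have hE := normal_E (P := P)
  have hV := normal_V (P := P)
  have hpm : IsPMinimal 2 P := (H85.isPMinimal_iff_top S).2 ⟨_, ⟨le_top, S.isPGroup',
    fun Q a b _ => hP.syl.max Q le_top a b⟩, fun h => hP.nn (normal_of_top h), hP.um⟩
  have hne : cStarStarOf 2 (S : Subgroup P) ≠ ⊤ := fun e => min_ne hP.toMin (top_le_iff.1
    (e.ge.trans (sup_le (min_le hP.toMin (le_cent_OZ (p := 2) _) hP.nz) (min_le hP.toMin (le_normalizer.trans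
      (H51.normalizer_le_normalizer_thompsonSubgroupOf 2 _))
      fun e' => hP.nJ (normalizer_eq_top_iff.1 e')))))
  obtain ⟨r, E, h1, h2, h3, h4, h5, h6, h7, h8, h9⟩ := S2981.result hpm hP.chr S hne
  have hC : centralizer (omegaOneCenter 2 (pCore 2 P) : Set P) = pCore 2 P := pushed_cV hP
  change OZ 2 (pCore 2 P) ⊓ _ ⊔ ⨆ i, ⁅OZ 2 (pCore 2 P), E i⁆ = OZ 2 (pCore 2 P) at h7
  change ∀ i j, i ≠ j → ⁅⁅OZ 2 (pCore 2 P), E i⁆, E j⁆ = ⊥ at h8
  rw [hC] at h1 h2 h3 h4 h5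
  have hJ := H51.thompsonSubgroup_characteristic 2 P
  obtain ⟨i⟩ : Nonempty (Fin r) := by
    by_contra h0
    rw [not_nonempty_iff] at h0
    rw [iSup_of_empty] at h3
    have h10 : (S : Subgroup P) = ⊤ := top_le_iff.1 (h2.ge.trans (sup_le (sup_le
      (le_sup_left.trans (h3.ge.trans bot_le)) le_rfl) (min_E_le hP.toMin)))
    exact hP.nn (h10 ▸ inferInstance)
  have hs : E i ⊔ (⨆ j ∈ {j | j ≠ i}, E j) = thompsonSubgroup 2 P ⊔ pCore 2 P := by
    rw [← h3]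
    refine le_antisymm (sup_le (le_iSup E i) (iSup₂_le fun j _ => le_iSup E j))
      (iSup_le fun j => ?_)
    by_cases hj : j = i
    · exact hj ▸ le_sup_left
    · exact le_sup_of_le_right (le_iSup₂_of_le j hj le_rfl)
  have hF : H85.FP.Fac (S : Subgroup P) (E i) (⨆ j ∈ {j | j ≠ i}, E j) := by
    refine ⟨h1 i, hs ▸ inferInstance, by rw [hs, sup_right_comm, h2], (le_centMod
      (hN := top_le_norm (pCore 2 P) ⊤)).1 (iSup₂_le fun j hj => le_centMod.2
        ⟨le_top, h4 i j (Ne.symm hj)⟩) |>.2, h5 i, h7.ge.trans (sup_le (le_sup_of_le_left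
          (inf_le_inf_left _ (cent_anti (le_iSup E i)))) (iSup_le fun j => ?_)),
      le_centralizer_iff.1 (iSup₂_le fun j hj => comm_eq_bot_iff.1 (h8 i j (Ne.symm hj))),
      iSup₂_le fun j _ => ?_⟩
    · by_cases hj : j = i
      · exact hj ▸ le_sup_right
      · exact le_sup_of_le_left (le_inf (commutator_le_left _ _)
          (commutator_eq_bot_iff_le_centralizer.1 (h8 j i hj)))
    · obtain ⟨t, ht, e⟩ := h6 i j
      exact e.ge.trans (cj_le_orb ht)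
  have hCX : centralizer (omegaOneCenter 2 (pCore 2 P) : Set P) ≤ E i := hC.le.trans (h1 i)
  obtain ⟨n, hn, ⟨F, _, _, hq, ⟨_, ⟨e⟩⟩, hA⟩ | ⟨-, ⟨_, ⟨e⟩⟩, hA⟩⟩ := h9 i
  · rcases hn.eq_or_lt with rfl | hn
    · left
      obtain ⟨-, hZ, ρ, ψ, -, hψ, hk, -⟩ := hA
      refine six P _ _ _ _ hP hF ?_ ((card_of_hom hZ ψ hk).trans ?_)
      · rw [card_of_quot hCX e, H28.card_SL2 hq, hC]; norm_num
      · rw [MonoidHom.range_eq_top.2 hψ, card_top, Nat.card_eq_fintype_card, Fintype.card_multiplicative,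
          Fintype.card_fun, hq]
        rfl
    · exact Or.inr (lin P _ _ _ _ F n hP hF hq hn hA)
  · rcases hn.eq_or_lt with rfl | hn
    · left
      obtain ⟨-, hZ, ρ, ψ, -, hψ, hψ', hk, -⟩ := hA
      refine six P _ _ _ _ hP hF ?_ ((card_of_hom hZ ψ hk).trans ?_)
      · rw [card_of_quot hCX e, Nat.card_perm, Nat.card_fin, hC]; rfl
      · rw [← card_even]
        congr 1
        exact Nat.card_congr (Equiv.subtypeEquiv Multiplicative.toAdd fun v =>
          ⟨by rintro ⟨u, rfl⟩; exact hψ u, fun h => hψ' _ h⟩)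
    · exact Or.inl (sym P _ _ _ _ _ hP hF (Even.add_one (Nat.even_pow.2 ⟨even_two, by omega⟩))
        (Nat.succ_le_succ (Nat.pow_le_pow_right (by norm_num) hn : 2 ^ 2 ≤ 2 ^ n)) hA)

theorem hatP : H85.FP.HatStmt.{u} := hat sym (H53.FM.LinStmt.fp lin)

end Cfsg.Agent.H77.FP
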