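import Cfsg.Agent.H85.FPDefs

/-! Project FPF: small tools for minimal parabolic groups of characteristic two. -/

set_option autoImplicit false

namespace Cfsg.Agent.H77.FP

open Subgroup Cfsg Cfsg.Agent.H83
open Cfsg.Agent.H53.OC (factTwo normal_V orb orb_le)
open Cfsg.Agent.H85.FP
open scoped commutatorElement

variable {P : Type*} [Group P] {T M K X Y : Subgroup P}

theorem min_charP (h : H85.FP.Min T M) : CharP 2 (⊤ : Subgroup P) := charP_top.2 h.chr

theorem min_E_le (h : H85.FP.Min T M) : pCore 2 P ≤ T :=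
  pCoreOf_top (p := 2) (G := P) ▸ h.syl.pCoreOf_le

theorem min_OZ_le (h : H85.FP.Min T M) : OZ 2 T ≤ OZ 2 (pCore 2 P) :=
  pCoreOf_top (p := 2) (G := P) ▸ (min_charP h).OZ_le h.syl

theorem min_TM (h : H85.FP.Min T M) : T ≤ M := h.um.le

theorem min_ne (h : H85.FP.Min T M) : M ≠ ⊤ := h.um.lt.ne

theorem min_le (h : H85.FP.Min T M) (h1 : T ≤ K) (h2 : K ≠ ⊤) : K ≤ M :=
  h.um.le_of_ne h1 le_top h2

theorem min_eq_top (h : H85.FP.Min T M) (h1 : T ≤ K) (h2 : ¬ K ≤ M) : K = ⊤ :=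
  h.um.eq_of_not_le h1 le_top h2

theorem min_eq_top' (h : H85.FP.Min T M) (h1 : T ≤ K) {x : P} (hx : x ∈ K) (hn : x ∉ M) : K = ⊤ :=
  min_eq_top h h1 fun e => hn (e hx)

theorem min_norm_le (h : H85.FP.Min T M) : normalizer (T : Set P) ≤ M :=
  min_le h le_normalizer fun h1 => h.nn (normalizer_eq_top_iff.1 h1)

/-- (NM) a factor does not lie in the maximal subgroup. -/
theorem fac_not_le (h : H85.FP.Min T M) (hF : H85.FP.Fac T X Y) : ¬ X ≤ M := fun h1 =>
  min_ne h (top_le_iff.1 (hF.gen.ge.trans (sup_le (sup_le h1 (hF.yle.trans (orb_le fun _ hg =>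
    cj_le_of_norm h1 (le_normalizer (min_TM h hg))))) (min_TM h))))

variable [Finite P]

omit [Finite P] in
theorem min_res_le (h : H85.FP.Min T M) [K.Normal] (h1 : K ⊔ T = ⊤) :
    resOf 2 (⊤ : Subgroup P) ≤ K :=
  resOf_le_of_pMod (h1 ▸ sup_comm T K ▸ (PMod.of_isPGroup h.syl.isPGroup K).sup_self
    (by simp [normalizer_eq_top]))

/-- A normal subgroup inside `M` meets `T` in the core. -/
theorem min_inf_le (h : H85.FP.Min T M) [hK : K.Normal] (h1 : K ≤ M) : T ⊓ K ≤ pCore 2 P := by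
  have h2 : ∀ H : Subgroup P, H ≤ normalizer (K : Set P) := fun H =>
    normalizer_eq_top_iff.2 hK ▸ le_top
  have h3 := h.syl.inf_normal (N := K) le_top (h2 _)
  refine le_pCore (normalizer_eq_top_iff.1 (min_eq_top h (le_norm_inf le_normalizer (h2 _))
    fun h4 => min_ne h (top_le_iff.1 fun g hg => ?_))) h3.isPGroup
  obtain ⟨n, hn, a, ha, rfl⟩ := h3.frattini (h2 ⊤ hg)
  exact mul_mem (h1 hn) (h4 ha)

theorem min_nk (h : H85.FP.Min T M) [K.Normal] (h1 : ¬ resOf 2 (⊤ : Subgroup P) ≤ K) :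
    T ⊓ K ≤ pCore 2 P :=
  min_inf_le h (le_sup_left.trans (min_le h le_sup_right fun h3 => h1 (min_res_le h h3)))

omit [Finite P] in
theorem min_eq_one (h : H85.FP.Min T M) {x : P} (hx : (orderOf x).Coprime 2)
    (h1 : x ∈ centralizer (pCore 2 P : Set P)) : x = 1 :=
  eq_one_of_mem_pgroup pCore_isPGroup (h.chr h1) hx

theorem pushed_eq_one (h : H85.FP.Pushed T M) {x : P} (hx : (orderOf x).Coprime 2)
    (h1 : x ∈ centralizer (OZ 2 (pCore 2 P) : Set P)) : x = 1 :=
  min_eq_one h.toMin hx (mem_cent_of_stable hx (EA_isPGroup (EA_OZ _)) h1 fun _ he =>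
    h.push (commutator_mem_commutator he (mem_resOf (mem_top x) hx)))

theorem pushed_cV (h : H85.FP.Pushed T M) :
    centralizer (OZ 2 (pCore 2 P) : Set P) = pCore 2 P := by
  have := normal_V (P := P)
  exact le_antisymm (le_pCore inferInstance
    (isPGroup_of_coprime_eq_one fun x hx hc => pushed_eq_one h hc hx)) (le_cent_OZ _)

end Cfsg.Agent.H77.FP
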