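import Cfsg.Agent.H53.OCKit
import Cfsg.Agent.H4.CoprimeAction

/-! Project OC: the factors of order six. -/

set_option autoImplicit false

namespace Cfsg.Agent.H77.OC

open Subgroup Cfsg Cfsg.Agent.H83 Cfsg.Agent.H53.OC
open scoped commutatorElement

universe u

variable {P : Type u} [Group P] [Finite P]

omit [Finite P] in
theorem mem_cz {a b : P} (h : a * b = b * a) : b ∈ centralizer (zpowers a : Set P) := by
  rintro _ ⟨k, rfl⟩
  exact (Commute.zpow_left h k).eq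

omit [Finite P] in
theorem le_nrm {N : Subgroup P} (h : N.Normal) (H : Subgroup P) : H ≤ normalizer (N : Set P) :=
  normalizer_eq_top_iff.2 h ▸ le_top

theorem eq_of_lt_four {C U : Subgroup P} (hU : Nat.card U = 4) (h : C < U) {a b : P} (ha : a ∈ C)
    (hb : b ∈ C) (a1 : a ≠ 1) (b1 : b ≠ 1) : a = b := by
  have h1 : Nat.card C ∣ 4 := hU ▸ card_dvd_of_le h.le
  have h2 : Nat.card C ≠ 4 := fun e => h.ne (eq_of_le_of_card_ge h.le (by omega))
  have h3 : Nat.card C ≠ 1 := fun e => a1 (mem_bot.1 (card_eq_one.1 e ▸ ha))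
  have h4 : Nat.card C = 2 := by
    have := Nat.le_of_dvd four_pos h1
    interval_cases Nat.card C <;> omega
  exact congrArg Subtype.val (((Nat.card_eq_two_iff' (1 : C)).1 h4).unique
    (fun e => a1 (congrArg Subtype.val e) : (⟨a, ha⟩ : C) ≠ 1)
    (fun e => b1 (congrArg Subtype.val e) : (⟨b, hb⟩ : C) ≠ 1))

theorem eq_bot_of_fpf {C U : Subgroup P} (hU : Nat.card U = 4) (h : C < U) {x : P}
    (hx : centralizer (zpowers x : Set P) ⊓ U = ⊥) (hn : ∀ c ∈ C, x * c * x⁻¹ ∈ C) : C = ⊥ :=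
  eq_bot_iff.2 fun c hc => by_contra fun c1 => c1 (hx.le ⟨mem_cz (mul_inv_eq_iff_eq_mul.1
    (eq_of_lt_four hU h (hn c hc) hc (fun e => c1 (by simpa using e)) c1)), h.le hc⟩)

omit [Finite P] in
theorem card_mul_relIndex {H K : Subgroup P} (h : H ≤ K) :
    Nat.card H * H.relIndex K = Nat.card K := by
  rw [← card_subgroupOf h]; exact card_mul_index _

theorem six : SixStmt.{u} := fun P _ _ T X Y h hF h6 h4 => by
  have : Fact (Nat.Prime 3) := ⟨Nat.prime_three⟩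
  have nV : (OZ 2 (pCore 2 P)).Normal := normal_V
  have nK := hF.nrm
  have cV := h.cV
  have ET := h.E_le
  have pE : IsPGroup 2 (pCore 2 P) := pCore_isPGroup
  have push := h.push
  have dec := hF.dec
  have EX := hF.le
  have VE := OZ_le (p := 2) (pCore 2 P)
  have eV := EA_OZ (p := 2) (pCore 2 P)
  have nk := fun (K : Subgroup P) (_ : K.Normal) => h.toMin.nk (K := K)
  have nE : (pCore 2 P).Normal := inferInstance
  have KX : X ⊔ Y ≤ normalizer (X : Set P) := sup_le le_normalizer fun y hy =>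
    mem_normalizer_fintype fun a ha => by
      simpa [commutatorElement_def, mul_assoc] using
        mul_mem (inv_mem (EX (hF.comm (commutator_mem_commutator ha hy)))) ha
  have i6 : (pCore 2 P).relIndex X = 6 := Nat.eq_of_mul_eq_mul_left Nat.card_pos
    ((card_mul_relIndex EX).trans (h6.trans (mul_comm _ _)))
  suffices H : ∃ U u x t, U ≤ OZ 2 (pCore 2 P) ∧ Nat.card U = 4 ∧ u ∈ U ∧ u ≠ 1 ∧
      Odd (orderOf x) ∧ (∀ e ∈ pCore 2 P, ⁅e, x⁆ ∈ U) ∧ x ∉ centralizer (U : Set P) ∧ t ∈ T ∧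
      (∀ v ∈ OZ 2 (pCore 2 P), ⁅v, t⁆ = 1 ∨ ⁅v, t⁆ = u) ∧ t ∉ centralizer (U : Set P) ∧
      (∀ g ∈ T, cj g U = U ∨ (U ⊓ cj g U = ⊥ ∧ g * t * g⁻¹ ∈ centralizer (U : Set P))) ∧
      x ∉ normalizer (T : Set P) by
    obtain ⟨U, u, x, t, a1, a2, a3, a4, a5, a6, a7, a8, a9, a10, a11, a12⟩ := H
    have nrm : ∀ X : Subgroup P, U ≤ X → X ≤ pCore 2 P → T ≤ normalizer (X : Set P) → X.Normal :=
      fun X' b1 b2 b3 => normalizer_eq_top_iff.1 (h.toMin.eq_top b3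
        (mem_normalizer_fintype fun e he => by
          simpa [commutatorElement_def, mul_assoc] using
            mul_mem (inv_mem (b1 (a6 e (b2 he)))) he) a12)
    refine ⟨U, u, x, t, a1, a2, a3, a4, a5, a6, a7, a8, a9, a10, a11, fun s hs h1 => ?_, nrm⟩
    have b1 : U ≤ ⨆ g ∈ T, cj g U := le_iSup₂_of_le 1 T.one_mem (cj_one U).ge
    have := nrm _ b1 (iSup₂_le fun g _ => cj_le_of_norm (a1.trans VE) (le_nrm nE ⊤ trivial))
      fun a ha => mem_normalizer_fintype fun y hy => (show cj a (⨆ g ∈ T, cj g U) ≤ _ by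
        simp only [Subgroup.map_iSup]
        exact iSup₂_le fun g hg => le_iSup₂_of_le (a * g) (mul_mem ha hg) (cj_mul a g U).ge)
        (conj_mem_cj hy)
    exact nk _ inferInstance (fun e => a7 (cent_anti b1 (e (mem_resOf trivial
      (Nat.coprime_two_right.2 a5))))) ⟨hs, mem_cent_iff_le.2 (iSup₂_le fun g hg =>
        mem_cent_iff_le.1 (h1 g hg))⟩
  generalize pCore 2 P = E at *
  generalize OZ 2 E = V at *
  have cmV := EA_le_cent eV
  have : IsMulCommutative V := ⟨⟨fun a b => Subtype.ext (cmV b.2 a a.2)⟩⟩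
  have cE : ∀ e ∈ E, ∀ v ∈ V, v * e = e * v := fun e he => cV.ge he
  obtain ⟨x, hx, x3⟩ : ∃ x ∈ X, orderOf x = 3 := by
    obtain ⟨x, e⟩ := exists_prime_orderOf_dvd_card' (G := X) 3 (h6 ▸ ⟨2 * Nat.card E, by ring⟩)
    exact ⟨x, x.2, (Subgroup.orderOf_coe x).trans e⟩
  have xc : (orderOf x).Coprime 2 := by rw [x3]; norm_num
  have x1 : x ≠ 1 := by rintro rfl; simp at x3
  have xE : x ∉ E := fun e => x1 (eq_one_of_mem_pgroup pE e xc)
  have i3 : E.relIndex (zpowers x ⊔ E) = 3 := by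
    rw [relIndex_sup_right, ← inf_relIndex_right, (eq_bot_iff (a := E ⊓ zpowers x)).2 fun a ha =>
      mem_bot.2 (eq_one_of_mem_pgroup pE ha.1 (xc.coprime_dvd_left
        (orderOf_dvd_of_mem_zpowers ha.2))), relIndex_bot_left, Nat.card_zpowers, x3]
  have X0 : zpowers x ⊔ E ≤ X := sup_le (zpowers_le.2 hx) EX
  have i2 : ((zpowers x ⊔ E).subgroupOf X).index = 2 := by
    have := relIndex_mul_relIndex _ _ _ (le_sup_right : E ≤ zpowers x ⊔ E) X0
    rw [i3, i6] at this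
    change (zpowers x ⊔ E).relIndex X = 2
    omega
  have m0 : ∀ g, g ∈ zpowers x ⊔ E ↔ g ∈ X ∧ g ^ 3 ∈ E := fun g =>
    ⟨fun hg => ⟨X0 hg, i3 ▸ pow_relIndex_mem E hg⟩, fun hg => by
      simpa [pow_three'] using mul_mem (mem_sup_right hg.2)
        (inv_mem (mul_self_mem_of_index_two i2 ⟨g, hg.1⟩ : g * g ∈ zpowers x ⊔ E))⟩
  have m1 : ∀ g ∈ T, g ∈ zpowers x ⊔ E → g ∈ E := fun g hg h1 => by
    obtain ⟨k, hk⟩ := isPGroup_iff.1 h.syl.isPGroup g hg
    exact mem_of_pelt_of_pow_mem hk ((m0 g).1 h1).2 (by norm_num)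
  have KX0 : X ⊔ Y ≤ normalizer ((zpowers x ⊔ E : Subgroup P) : Set P) := fun k hk =>
    mem_normalizer_fintype fun g hg => (m0 _).2 ⟨conj_mem KX hk (X0 hg), by
      rw [conj_pow]; exact nE.conj_mem _ ((m0 g).1 hg).2 k⟩
  obtain ⟨t, ⟨tT, tX⟩, tE⟩ : ∃ t ∈ T ⊓ X, t ∉ E := by
    by_contra hh
    push Not at hh
    have := (h.syl.inf_subnIn ((SubnIn.of_norm le_sup_left KX).trans
      (SubnIn.of_norm le_top (le_nrm nK _)))).not_dvd_relIndex
    rw [le_antisymm hh (le_inf ET EX), i6] at this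
    omega
  have tX0 : t ∉ zpowers x ⊔ E := fun e => tE (m1 t tT e)
  have m2 : ∀ s ∈ T, s ∈ X → s ∉ E → s * t ∈ E := fun s h1 h2 h3 => m1 _ (mul_mem h1 tT)
    ((mul_mem_iff_of_index_two i2 (a := ⟨s, h2⟩) (b := ⟨t, tX⟩)).2
      (iff_of_false (fun e => h3 (m1 s h1 e)) tX0))
  have nV' : ∀ H : Subgroup P, H ≤ normalizer (V : Set P) := le_nrm nV
  have eU : ⁅V, zpowers x ⊔ E⁆ = ⁅V, zpowers x⁆ :=
    le_antisymm (commutator_le.2 fun v hv g hg => by
      obtain ⟨a, ha, n, hn, rfl⟩ := (mem_sup_right_norm (le_nrm nE _)).1 hg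
      have e : ⁅v, a * n⁆ = ⁅v, a⁆ :=
        calc _ = v * a * (n * v⁻¹) * n⁻¹ * a⁻¹ := by group
          _ = _ := by rw [← cE n hn _ (inv_mem hv)]; group
      exact e ▸ commutator_mem_commutator hv ha) (commutator_mono le_rfl le_sup_left)
  have KU : X ⊔ Y ≤ normalizer ((⁅V, zpowers x⁆ : Subgroup P) : Set P) :=
    eU ▸ le_norm_comm (nV' _) KX0
  have cop : ∀ W ≤ V, (Nat.card (zpowers x)).Coprime (Nat.card W) := fun W hW =>
    coprime_zpowers xc ((EA_isPGroup eV).to_le hW)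
  have sv : Group.IsSolvable (zpowers x) := H4.isSolvable_of_isMulCommutative _
  have fp := H4.centralizer_inf_commutator_eq_bot (nV' _) (cop V le_rfl)
  have UV : ⁅V, zpowers x⁆ ≤ V := commutator_le_left _ _
  have WV : ⁅V, X⁆ ≤ V := commutator_le_left _ _
  have UW : ⁅V, zpowers x⁆ ≤ ⁅V, X⁆ := commutator_mono le_rfl (zpowers_le.2 hx)
  have nW : zpowers x ≤ normalizer ((⁅V, X⁆ : Subgroup P) : Set P) :=
    le_norm_comm (nV' _) (le_norm_of_le (zpowers_le.2 hx))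
  have sW : ⁅V, zpowers x⁆ ⊔ ⁅V, X⁆ ⊓ centralizer (zpowers x : Set P) = ⁅V, X⁆ :=
    le_antisymm (sup_le UW inf_le_left) ((H4.commutator_sup_centralizer nW (cop _ WV)
      (Or.inl sv)).ge.trans (sup_le_sup_right (commutator_mono WV le_rfl) _))
  have U0 : ⁅V, zpowers x⁆ ≠ ⊥ := fun e => xE (cV.le (comm_eq_bot_iff.1 e (mem_zpowers x)))
  have xe : ∀ e ∈ E, ⁅e, x⁆ ∈ ⁅V, zpowers x⁆ := fun e he =>
    (H4.commutator_commutator_eq (le_nrm nE _) (coprime_zpowers xc pE)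
      (Or.inl sv)).ge.trans (commutator_mono ((commutator_mono le_rfl (zpowers_le.2
        (mem_resOf (mem_top x) xc))).trans push) le_rfl) (commutator_mem_commutator he (mem_zpowers x))
  have cjU : ∀ g, cj g ⁅V, zpowers x⁆ = ⁅V, zpowers (g * x * g⁻¹)⁆ := fun g => by
    rw [cj_comm, cj_eq_self (nV' ⊤ (mem_top g))]; congr 1; exact MonoidHom.map_zpowers _ _
  have UX : ∀ g, g * x * g⁻¹ ∈ X → cj g ⁅V, zpowers x⁆ = ⁅V, zpowers x⁆ := fun g hg =>
    eq_of_le_of_card_ge (by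
      rw [cjU, ← eU]
      exact commutator_mono le_rfl (zpowers_le.2 ((m0 _).2 ⟨hg, by
        rw [conj_pow, ← x3, pow_orderOf_eq_one]; simp⟩))) (card_cj _ _).ge
  generalize ⁅V, zpowers x⁆ = U at *
  have xU : ∀ c ∈ U, x * c * x⁻¹ ∈ U := fun c => conj_mem KU (mem_sup_left hx)
  obtain ⟨c4, dZ⟩ : Nat.card U = 4 ∧
      ⁅V, X⁆ ⊓ centralizer (zpowers x : Set P) ≤ centralizer (X : Set P) := by
    have e1 := H4.card_sup_of_le_normalizer (K := U) (A := ⁅V, X⁆ ⊓ centralizer (zpowers x : Set P))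
      (le_norm_of_le_cent ((inf_le_left.trans WV).trans (cmV.trans (cent_anti UV))))
      (disjoint_iff.2 (eq_bot_iff.2 fun a ha => fp.le ⟨ha.2.2, ha.1⟩))
    have e2 : ⁅V, X⁆ ⊓ centralizer (X : Set P) ≤ ⁅V, X⁆ ⊓ centralizer (zpowers x : Set P) :=
      inf_le_inf_left _ (cent_anti (zpowers_le.2 hx))
    obtain ⟨k, hk⟩ := card_dvd_of_le e2
    rw [sW, h4, hk, mul_left_comm, mul_comm 4] at e1
    have e3 := Nat.eq_of_mul_eq_mul_left Nat.card_pos e1
    have e4 : Nat.card U ≠ 1 := fun e => U0 (card_eq_one.1 e)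
    have e5 : Nat.card U ≠ 2 := fun e => by
      obtain ⟨⟨c, hc⟩, c1, c2⟩ := (Nat.card_eq_two_iff' (1 : U)).1 e
      have c1' : c ≠ 1 := fun e => c1 (Subtype.ext e)
      have := congrArg Subtype.val (c2 ⟨_, xU c hc⟩ fun e => c1' (by simpa using e))
      exact c1' (fp.le ⟨mem_cz (mul_inv_eq_iff_eq_mul.1 this), hc⟩)
    have e6 := Nat.le_of_dvd four_pos ⟨k, e3⟩
    have e7 : Nat.card U = 4 := by
      have : 0 < Nat.card U := Nat.card_pos
      interval_cases Nat.card U <;> omega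
    rw [e7] at e3
    exact ⟨e7, (eq_of_le_of_card_ge e2 (by rw [hk, show k = 1 by omega, mul_one])).ge.trans
      inf_le_right⟩
  have dV : V ≤ U ⊔ V ⊓ centralizer (X : Set P) := dec.trans (sup_le le_sup_right
    (sW.ge.trans (sup_le_sup_left (le_inf (inf_le_left.trans WV) dZ) _)))
  have tU : t ∉ centralizer (U : Set P) := fun e => tE (cV.le (mem_cent_iff_le.2 (dV.trans
    (sup_le (mem_cent_iff_le.1 e) (inf_le_right.trans (cent_anti (zpowers_le.2 tX)))))))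
  obtain ⟨v, hv, u1⟩ : ∃ v ∈ U, ⁅v, t⁆ ≠ 1 := by
    by_contra hh
    push Not at hh
    exact tU fun v hv => commutatorElement_eq_one_iff_mul_comm.1 (hh v hv)
  have tC : ∀ w ∈ U, ⁅w, t⁆ ∈ U ⊓ centralizer (zpowers t : Set P) := fun w hw => by
    have e1 : t * w⁻¹ * t⁻¹ ∈ U := conj_mem KU (mem_sup_left tX) (inv_mem hw)
    have sq' : ∀ a ∈ V, a⁻¹ = a := fun a ha =>
      inv_eq_of_mul_eq_one_left ((sq a).symm.trans ((isEA_iff.1 eV).2 a ha))
    refine ⟨by simpa [commutatorElement_def, mul_assoc] using mul_mem hw e1, mem_cz ?_⟩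
    have e2 := cE _ (m2 t tT tX tE) w (UV hw)
    have e3 := cmV (UV hw) _ (UV e1)
    rw [sq' w (UV hw)] at e3
    rw [commutatorElement_def, sq' w (UV hw)]
    calc _ = t * w * t⁻¹ * (t * t * w) * t⁻¹ := by group
      _ = t * w * t⁻¹ * w * t := by rw [← e2]; group
      _ = _ := by rw [e3]; group
  have tV : ∀ w ∈ V, ⁅w, t⁆ = 1 ∨ ⁅w, t⁆ = ⁅v, t⁆ := fun w hw => by
    obtain ⟨a, ha, c, hc, rfl⟩ := (mem_sup_left_norm (le_norm_of_le_cent
      (inf_le_left.trans (cmV.trans (cent_anti UV))))).1 (dV hw)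
    rw [H4.commutatorElement_mul_of_mem_centralizer hc.2 tX]
    exact or_iff_not_imp_left.2 fun e => eq_of_lt_four c4 (lt_of_le_of_ne inf_le_left fun e =>
      tU (mem_cent_iff_le.2 (e.ge.trans inf_le_right))) (tC a ha) (tC v hv) e u1
  refine ⟨U, ⁅v, t⁆, x, t, UV, c4, (tC v hv).1, u1, by rw [x3]; decide, xe, fun e =>
    U0 (eq_bot_iff.2 ((le_inf (mem_cent_iff_le.1 e) le_rfl).trans fp.le)), tT, tV, tU,
    fun g hg => ?_, fun e => ?_⟩
  · refine or_iff_not_imp_left.2 fun h1 => ⟨?_, ?_⟩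
    · refine eq_bot_of_fpf c4 (lt_of_le_of_ne inf_le_left fun e => h1 (eq_of_le_of_card_ge
        (e.ge.trans inf_le_right) (card_cj _ _).le).symm) fp fun c hc => ⟨xU c hc.1, ?_⟩
      have := conj_mem KU (nK.conj_mem _ (mem_sup_left hx) g⁻¹) (mem_cj.1 hc.2)
      exact mem_cj.2 (by simpa [mul_assoc] using this)
    have h2 : g⁻¹ * x * g⁻¹⁻¹ ∉ X := fun e => h1 (by rw [← UX g⁻¹ e, cj_cj_inv, UX g⁻¹ e])
    have sK : g * t * g⁻¹ ∈ X ⊔ Y := nK.conj_mem _ (mem_sup_left tX) g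
    have h3 : ⁅g * t * g⁻¹, x⁆ ∈ E := by
      have e1 : ⁅g * t * g⁻¹, x⁆ ∈ zpowers x ⊔ E := mul_mem (conj_mem KX0 sK
        (mem_sup_left (mem_zpowers x))) (inv_mem (mem_sup_left (mem_zpowers x)))
      have e2 : ⁅g * t * g⁻¹, x⁆ ∈ cj g X := mem_cj.2 (by
        have := mul_mem tX (conj_mem KX (nK.conj_mem _ (mem_sup_left hx) g⁻¹) (inv_mem tX))
        simpa [commutatorElement_def, mul_assoc] using this)
      obtain ⟨a, ha, n, hn, e⟩ := (mem_sup_right_norm (le_nrm nE _)).1 e1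
      rw [← e] at e2 ⊢
      have e3 : a ∈ cj g X := (mul_mem_cancel_right (mem_cj.2 (EX (nE.conj_mem' _ hn g)))).1 e2
      by_contra e4
      have : zpowers a = zpowers x := (eq_bot_or_eq_top_of_prime_card
        ((zpowers a).subgroupOf (zpowers x)) (hp := ⟨by rw [Nat.card_zpowers, x3]; norm_num⟩)).elim
        (fun e => absurd (by
          rw [show a = 1 from congrArg Subtype.val (mem_bot.1 (e.le (show (⟨a, ha⟩ : zpowers x) ∈ _
            from mem_zpowers a))), one_mul]; exact hn) e4)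
        fun e => le_antisymm (zpowers_le.2 ha) (subgroupOf_eq_top.1 e)
      exact h2 (by simpa using mem_cj.1 (zpowers_le.2 e3 (this.ge (mem_zpowers x))))
    have sT : g * t * g⁻¹ ∈ T := mul_mem (mul_mem hg tT) (inv_mem hg)
    generalize g * t * g⁻¹ = s at sK h3 sT
    by_contra h5
    refine inf_centralizer_ne_bot ((EA_isPGroup eV).to_le UV)
      (h.syl.isPGroup.to_le (zpowers_le.2 sT)) (zpowers_le.2 (KU sK)) U0 (eq_bot_of_fpf c4
      (lt_of_le_of_ne inf_le_left fun e => h5 (mem_cent_iff_le.2 (e.ge.trans inf_le_right))) fp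
      fun c hc => ⟨xU c hc.1, mem_cz ?_⟩)
    calc _ = ⁅s, x⁆ * (x * (s * c) * s⁻¹ * x⁻¹) * ⁅s, x⁆⁻¹ * s := by group
      _ = ⁅s, x⁆ * (x * c * x⁻¹) * ⁅s, x⁆⁻¹ * s := by
        rw [hc.2 s (mem_zpowers s), ← mul_assoc x, mul_inv_cancel_right]
      _ = _ := by rw [← cE _ h3 _ (UV (xU c hc.1)), mul_inv_cancel_right]
  · have e1 : x * t * x⁻¹ * t * (t * t)⁻¹ ∈ E := mul_mem (m2 _ ((mem_normalizer_iff.1 e t).1 tT)
      (mul_mem (mul_mem hx tX) (inv_mem hx)) fun e1 => tE (by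
        simpa [mul_assoc] using nE.conj_mem' _ e1 x)) (inv_mem (m2 t tT tX tE))
    have e2 := UV (xU v hv)
    have e3 : x * ⁅v, t⁆ * x⁻¹ = ⁅x * v * x⁻¹, t⁆ :=
      calc _ = x * v * x⁻¹ * (x * t * x⁻¹ * t * (t * t)⁻¹ * (t * (x * v * x⁻¹)⁻¹ * t⁻¹)) *
            (x * t * x⁻¹ * t * (t * t)⁻¹)⁻¹ := by group
        _ = _ := by rw [← cE _ e1 _ (nV.conj_mem _ (inv_mem e2) t)]; group
    rcases tV _ e2 with e4 | e4
    · exact u1 (by simpa [e4] using e3)
    · exact u1 (fp.le ⟨mem_cz (mul_inv_eq_iff_eq_mul.1 (e3.trans e4)), (tC v hv).1⟩)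

end Cfsg.Agent.H77.OC
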