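import Cfsg.Agent.H30.OUDefs

/-!
Scalars in `SU_n(q)` are commutators: monomial matrices on a cyclic index set.
-/

set_option autoImplicit false

namespace Cfsg.Agent.H77.OU

open Matrix Cfsg.Agent.H30.OU

universe u

section
variable {F : Type u} [Field F] [StarRing F] {ι : Type} [Fintype ι] [DecidableEq ι]

theorem to_std [Finite F] (h : ∃ a : F, star a ≠ a) {J A B : Matrix ι ι F} {c : F} (hJ : Jᴴ = J)
    (hd : J.det ≠ 0) (hA : Aᴴ * J * A = J) (hB : Bᴴ * J * B = J) (dA : A.det = 1) (dB : B.det = 1)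
    (hc : A * B = c • (B * A)) :
    ∃ A B : Matrix ι ι F, Aᴴ * A = 1 ∧ Bᴴ * B = 1 ∧ A.det = 1 ∧ B.det = 1 ∧
      A * B = c • (B * A) := by
  obtain ⟨Q, hQ⟩ := exists_gram h hJ hd
  have dQ : IsUnit Q.det := by
    rw [← hQ, det_mul] at hd
    exact (right_ne_zero_of_mul hd).isUnit
  have e1 : Q * Q⁻¹ = 1 := mul_nonsing_inv Q dQ
  have e2 : Q⁻¹ * Q = 1 := nonsing_inv_mul Q dQ
  have e3 : Q⁻¹ᴴ * Qᴴ = 1 := by rw [← conjTranspose_mul, e1, conjTranspose_one]
  have u : ∀ X : Matrix ι ι F, Xᴴ * J * X = J → (Q * X * Q⁻¹)ᴴ * (Q * X * Q⁻¹) = 1 := fun X hX => by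
    calc (Q * X * Q⁻¹)ᴴ * (Q * X * Q⁻¹) = Q⁻¹ᴴ * (Xᴴ * (Qᴴ * Q) * X) * Q⁻¹ := by
          simp only [conjTranspose_mul, Matrix.mul_assoc]
      _ = (Q⁻¹ᴴ * Qᴴ) * (Q * Q⁻¹) := by rw [hQ, hX, ← hQ]; simp only [Matrix.mul_assoc]
      _ = 1 := by rw [e1, e3, Matrix.mul_one]
  have d : ∀ X : Matrix ι ι F, X.det = 1 → (Q * X * Q⁻¹).det = 1 := fun X hX => by
    rw [det_mul, det_mul, hX, mul_one, ← det_mul, e1, det_one]
  have m : ∀ X Y : Matrix ι ι F, Q * X * Q⁻¹ * (Q * Y * Q⁻¹) = Q * (X * Y) * Q⁻¹ := fun X Y => by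
    calc Q * X * Q⁻¹ * (Q * Y * Q⁻¹) = Q * X * (Q⁻¹ * Q) * Y * Q⁻¹ := by
          simp only [Matrix.mul_assoc]
      _ = _ := by rw [e2]; simp only [Matrix.mul_assoc, Matrix.mul_one]
  refine ⟨_, _, u A hA, u B hB, d A dA, d B dB, ?_⟩
  rw [m, m, hc, Matrix.mul_smul, Matrix.smul_mul]

variable [AddCommGroup ι]

/-- monomial matrix of the translation by `a` -/
def mon (a : ι) (d : ι → F) : Matrix ι ι F := Matrix.of fun i j => if i + a = j then d i else 0

omit [StarRing F] in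
theorem mon_mul (a b : ι) (d e : ι → F) :
    mon a d * mon b e = mon (a + b) fun i => d i * e (i + a) := by
  ext i j
  simp only [mon, Matrix.mul_apply, of_apply, ite_mul, zero_mul, Finset.sum_ite_eq,
    Finset.mem_univ, if_true]
  simp only [add_assoc, mul_ite, mul_zero]

omit [Fintype ι] in
theorem mon_ct (a : ι) (d : ι → F) : (mon a d)ᴴ = mon (-a) fun i => star (d (i + -a)) := by
  ext i j
  simp only [mon, conjTranspose_apply, of_apply]
  by_cases e : j + a = i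
  · subst e; simp
  · rw [if_neg e, if_neg (fun e' => e (by rw [← e']; abel)), star_zero]

omit [StarRing F] in
theorem det_mon (a : ι) (d : ι → F) :
    (mon a d).det = (∏ i, d i) * ((Equiv.Perm.sign (Equiv.addRight a : Equiv.Perm ι) : ℤ) : F) := by
  rw [← det_diagonal, ← det_permutation, ← det_mul]
  congr 1
  ext i j
  rw [diagonal_mul]
  simp [mon, PEquiv.toMatrix_apply, eq_comm]

theorem mon_pres (h a : ι) {d : ι → F} (hd : ∀ i, star (d i) * d (i + h) = 1) :
    (mon a d)ᴴ * mon h (1 : ι → F) * mon a d = mon h 1 := by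
  rw [mon_ct, mon_mul, mon_mul, show -a + h + a = h by abel]
  congr 1
  funext i
  rw [Pi.one_apply, mul_one, ← add_assoc, hd, Pi.one_apply]

theorem core [Finite F] (hs : ∃ a : F, star a ≠ a) {χ : ι → F} {a h : ι} {c : F} (hh : h + h = 0)
    (hχ : ∀ i, χ (i + a) = c * χ i) (h1 : ∀ i, star (χ i) * χ (i + h) = 1) (h2 : ∏ i, χ i = 1) :
    ∃ A B : Matrix ι ι F, Aᴴ * A = 1 ∧ Bᴴ * B = 1 ∧ A.det = 1 ∧ B.det = 1 ∧
      A * B = c • (B * A) := by
  obtain ⟨t, t0, ht⟩ : ∃ t : F, t ≠ 0 ∧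
      t * (star t)⁻¹ * ((Equiv.Perm.sign (Equiv.addRight a : Equiv.Perm ι) : ℤ) : F) = 1 := by
    rcases Int.units_eq_one_or (Equiv.Perm.sign (Equiv.addRight a : Equiv.Perm ι)) with e | e
    · exact ⟨1, one_ne_zero, by simp [e]⟩
    · obtain ⟨b, hb⟩ := hs
      have b0 : b - star b ≠ 0 := sub_ne_zero.2 hb.symm
      refine ⟨b - star b, b0, ?_⟩
      rw [e, star_sub, star_star, ← neg_sub b, inv_neg, mul_neg, mul_inv_cancel₀ b0]
      simp
  have nh : -h = h := neg_eq_of_add_eq_zero_left hh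
  refine to_std hs (J := mon h 1) (A := mon a (Pi.mulSingle 0 t * Pi.mulSingle h (star t)⁻¹))
    (B := mon 0 χ) ?_ ?_ (mon_pres h a fun i => ?_) (mon_pres h 0 h1) ?_ ?_ ?_
  · rw [mon_ct, nh]; simp [Pi.one_def]
  · rw [det_mon]
    rcases Int.units_eq_one_or (Equiv.Perm.sign (Equiv.addRight h : Equiv.Perm ι)) with e | e <;>
      simp [e]
  · have e1 : i + h = 0 ↔ i = h := by rw [add_eq_zero_iff_eq_neg, nh]
    have e2 : i + h = h ↔ i = 0 := add_eq_right
    have s0 : star t ≠ 0 := star_ne_zero.2 t0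
    simp only [Pi.mul_apply, Pi.mulSingle_apply, e1, e2]
    split_ifs <;> simp [s0, t0]
    field_simp
  · rw [det_mon]
    simp only [Pi.mul_apply, Finset.prod_mul_distrib, Fintype.prod_pi_mulSingle']
    exact ht
  · rw [det_mon, h2]; simp
  · rw [mon_mul, mon_mul, add_zero, zero_add]
    ext i j
    simp only [mon, of_apply, Matrix.smul_apply, smul_eq_mul, add_zero, hχ]
    split_ifs
    · ring
    · rw [mul_zero]

end

theorem scalStmt : ScalStmt.{u} := by
  intro F _ _ _ hs n c hn hc n1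
  obtain ⟨m, rfl⟩ : ∃ m, n = m + 1 := ⟨n - 1, by omega⟩
  have c0 : c ≠ 0 := left_ne_zero_of_mul_eq_one hc
  have add : ∀ i j : Fin (m + 1), c ^ (i + j).val = c ^ i.val * c ^ j.val := fun i j => by
    rw [Fin.val_add, ← pow_eq_pow_mod _ hn, pow_add]
  have one : c ^ (1 : Fin (m + 1)).val = c := by
    rw [Fin.val_one', ← pow_eq_pow_mod _ hn, pow_one]
  have key : ∀ (z : F) (h : Fin (m + 1)), h + h = 0 → star z * z * c ^ h.val = 1 →
      z ^ (m + 1) * c ^ (∑ i : Fin (m + 1), i.val) = 1 →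
      ∃ A B : Matrix (Fin (m + 1)) (Fin (m + 1)) F, Aᴴ * A = 1 ∧ Bᴴ * B = 1 ∧ A.det = 1 ∧
        B.det = 1 ∧ A * B = c • (B * A) := fun z h hh h1 h2 => by
    refine core hs (χ := fun i => z * c ^ i.val) (a := 1) hh (fun i => ?_) (fun i => ?_) ?_
    · rw [add, one]; ring
    · rw [add, star_mul, star_pow]
      calc star c ^ i.val * star z * (z * (c ^ i.val * c ^ h.val)) =
          (c * star c) ^ i.val * (star z * z * c ^ h.val) := by ring
        _ = 1 := by rw [hc, h1, one_pow, mul_one]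
    · rw [Finset.prod_mul_distrib, Finset.prod_const, Finset.prod_pow_eq_pow_sum, Finset.card_univ,
        Fintype.card_fin, h2]
  have S : (∑ i : Fin (m + 1), i.val) * 2 = (m + 1) * m := by
    rw [Fin.sum_univ_eq_sum_range (fun i => i), Finset.sum_range_id_mul_two, Nat.add_sub_cancel]
  obtain ⟨r, rfl | rfl⟩ := Nat.even_or_odd' m
  · refine key 1 0 (add_zero _) (by simp) ?_
    rw [show (∑ i : Fin (2 * r + 1), i.val) = (2 * r + 1) * r by nlinarith, pow_mul, hn]
    simp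
  · have S' : (∑ i : Fin (2 * r + 1 + 1), i.val) = (r + 1) * (2 * r + 1) := by nlinarith
    have sq : c ^ (r + 1) * c ^ (r + 1) = 1 := by rw [← pow_add, ← hn]; congr 1; ring
    by_cases e : c ^ (r + 1) = 1
    · refine key 1 0 (add_zero _) (by simp) ?_
      rw [S', pow_mul, e]
      simp
    have e' : c ^ (r + 1) = -1 := (mul_self_eq_one_iff.1 sq).resolve_left e
    obtain ⟨z, hz⟩ : IsSquare c := by
      by_cases h2 : ringChar F = 2
      · exact FiniteField.isSquare_of_char_two h2 c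
      obtain ⟨q, hq, hst⟩ := exists_q hs
      have od := FiniteField.odd_card_of_char_ne_two h2
      rw [FiniteField.isSquare_iff h2 c0]
      obtain ⟨s, rfl | rfl⟩ := Nat.even_or_odd' q
      · rw [hq, show (2 * s) ^ 2 = 2 * (2 * s * s) by ring] at od; omega
      · rw [hq, show (2 * s + 1) ^ 2 = 2 * ((1 + (2 * s + 1)) * s) + 1 by ring,
          show (2 * ((1 + (2 * s + 1)) * s) + 1) / 2 = (1 + (2 * s + 1)) * s by omega, pow_mul,
          pow_add, pow_one, ← hst, hc, one_pow]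
    have hd : z ^ (2 * r + 1 + 1) * c ^ (∑ i : Fin (2 * r + 1 + 1), i.val) = 1 := by
      rw [S', pow_mul, show 2 * r + 1 + 1 = 2 * (r + 1) by ring, pow_mul, pow_two, ← hz, e',
        ← pow_succ', show 2 * r + 1 + 1 = 2 * (r + 1) by ring, pow_mul]
      simp
    have zz : star z * z * (star z * z) = 1 := by
      rw [← hc, hz, star_mul]; ring
    rcases mul_self_eq_one_iff.1 zz with e1 | e1
    · exact key z 0 (add_zero _) (by simp [e1]) hd
    · refine key z ⟨r + 1, by omega⟩ ?_ (by rw [e1, e']; simp) hd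
      rw [Fin.ext_iff, Fin.val_add, Fin.val_zero, show r + 1 + (r + 1) = 2 * r + 1 + 1 by ring,
        Nat.mod_self]

end Cfsg.Agent.H77.OU
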