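import Cfsg.Agent.H27.F4Root

/-!
Root facts in type `F₄` used for the centralizer facts.
-/

set_option autoImplicit false
set_option maxRecDepth 100000

namespace Cfsg.Agent.H77.F4

open Cfsg.Agent.H27.F4

/-- the sum of two roots, when it is a root -/
def sf (r s : Φ4) : Φ4 := Fin.ofNat 48 ((smN >>> (6 * (48 * r.1 + s.1))) % 64)

theorem eq_sf {r s k : Φ4} (h : Sm r s k) : k = sf r s := by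
  rw [sf, h]; simp

theorem kinds_neg : ∀ r s, ip r s < 0 → s ≠ ng r → Sm r s (sf r s) ∧ ((lg r ∧ lg s) ∨
    (¬ lg r ∧ ¬ lg s ∧ ¬ lg (sf r s)) ∨ (lg r ∧ ¬ lg s ∧ Sm (sf r s) s (sf (sf r s) s)) ∨
    (¬ lg r ∧ lg s ∧ Sm (sf r s) r (sf (sf r s) r))) := by decide +kernel

theorem kinds_pos : ∀ r s, 0 ≤ ip r s →
    Cm r s ∨ (¬ lg r ∧ ¬ lg s ∧ lg (sf r s) ∧ Sm r s (sf r s)) := by decide +kernel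

theorem lev2 : ∀ s, ¬ lg s → ∀ β, ((β = s ∨ (lg β ∧ 0 < ip s β)) ↔ 2 ≤ ip s β) ∧ ip s β ≤ 2 ∧
    -2 ≤ ip s β := by decide +kernel

theorem lev1 : ∀ s, ¬ lg s → ∀ δ, ip s δ = 1 → ¬ lg δ ∧ ¬ lg (sf s (ng δ)) ∧
    ip s (sf s (ng δ)) = 1 ∧ Sm δ (sf s (ng δ)) s ∧ ip δ (sf s (ng δ)) < 0 := by decide +kernel

theorem ex_lev1 : ∀ s, ¬ lg s → ∃ δ, ip s δ = 1 := by decide +kernel

theorem qq : ∀ s, ¬ lg s → ∀ β, 0 < ip s β → ∀ γ, 0 < ip s γ → ip β γ < 0 →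
    ¬ lg β ∧ ¬ lg γ ∧ Sm β γ s := by decide +kernel

theorem k_cv : ∀ s, ¬ lg s → ∀ δ, ip s δ = 0 → ∃ β, 2 ≤ ip s β ∧ ip δ β < 0 := by decide +kernel

theorem k_cw : ∀ s, ¬ lg s → ∀ δ, ip s δ = 0 → ∃ β, ip s β = 1 ∧ ip δ β < 0 := by decide +kernel

theorem k_f1 : ∀ s, ¬ lg s → ∀ δ, 0 < ip s δ → δ ≠ s →
    ∃ β, ip δ β < 0 ∧ (0 < ip s β ∨ lg β ∧ 0 ≤ ip s β) := by decide +kernel

theorem perf_l : ∀ s, ¬ lg s → ∀ β, 0 ≤ ip s β → lg β → ∃ r, lg r ∧ 0 ≤ ip s r ∧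
    lg (sf β (ng r)) ∧ 0 ≤ ip s (sf β (ng r)) ∧ Sm r (sf β (ng r)) β := by decide +kernel

theorem perf_s : ∀ s, ¬ lg s → ∀ β, 0 ≤ ip s β → ¬ lg β → ∃ γ, ¬ lg γ ∧ 0 ≤ ip s γ ∧
    lg (sf β (ng γ)) ∧ 0 ≤ ip s (sf β (ng γ)) ∧ Sm (sf β (ng γ)) γ β ∧ Sm β γ (sf β γ) ∧
    lg (sf β γ) := by decide +kernel

theorem sp2_0 : ∀ s, ¬ lg s → ∀ k, ip s k = 0 → ∃ r, 2 ≤ ip s r ∧ ip s (sf k (ng r)) ≤ -2 ∧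
    Sm r (sf k (ng r)) k ∧ ip r (sf k (ng r)) < 0 := by decide +kernel

theorem sp2_1 : ∀ s, ¬ lg s → ∀ γ, ip s γ = 1 → ¬ lg γ ∧ ∃ η, lg η ∧ ip s η = 0 ∧
    Sm η γ (sf η γ) ∧ Sm (sf η γ) γ (sf (sf η γ) γ) := by decide +kernel

theorem sp1_s : ∀ s, ¬ lg s → ∀ k, ¬ lg k → ip s k = 0 ∨ ip s k = 2 → ∃ r, ip s r = 1 ∧
    (ip s (sf k (ng r)) = 1 ∨ ip s (sf k (ng r)) = -1) ∧
    Sm r (sf k (ng r)) k ∧ ip r (sf k (ng r)) < 0 := by decide +kernel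

theorem sp1_l : ∀ η, lg η → ∃ γ, ¬ lg γ ∧ ¬ lg (sf η γ) ∧ Sm η γ (sf η γ) := by decide +kernel

/-- the roots in the hypothesis of `f2` -/
def H2 (s s' β : Φ4) : Prop :=
  0 ≤ ip s β ∧ 0 ≤ ip s' β ∧ (lg β ∨ (0 < ip s β ∧ 0 < ip s' β))

instance (s s' β : Φ4) : Decidable (H2 s s' β) := inferInstanceAs (Decidable (_ ∧ _))

theorem f2_a : ∀ s, ¬ lg s → ∀ s', ¬ lg s' → ip s s' = 1 → ∀ β,
    (2 ≤ ip s β + ip s' β → H2 s s' β) ∧ (2 ≤ ip s β → 0 ≤ ip s' β) ∧ ip s β + ip s' β ≤ 4 ∧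
    (ip s β + ip s' β = 3 ↔ β = s ∨ β = s') := by decide +kernel

theorem f2_b : ∀ s, ¬ lg s → ∀ s', ¬ lg s' → ip s s' = 1 → ∀ δ, ip s δ + ip s' δ = 0 →
    ∃ β, ip δ β < 0 ∧ 0 < ip s β + ip s' β ∧ H2 s s' β := by decide +kernel

theorem f2_c : ∀ s, ¬ lg s → ∀ s', ¬ lg s' → ip s s' = 1 → ∀ δ, 0 < ip s δ + ip s' δ →
    ip s δ + ip s' δ ≠ 3 → ∃ β, ip δ β < 0 ∧ H2 s s' β ∧
      (0 < ip s β + ip s' β ∨ lg β ∧ 0 ≤ ip s β + ip s' β) := by decide +kernel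

/-- the roots in the hypothesis of `f4` -/
def H4 (r s α β : Φ4) : Prop := 0 ≤ ip r β ∧ 0 ≤ ip s β ∧ (lg β ∨ 0 < ip α β)

instance (r s α β : Φ4) : Decidable (H4 r s α β) := inferInstanceAs (Decidable (_ ∧ _))

theorem f4_a : ∀ r, ¬ lg r → ∀ s, ¬ lg s → Sm r s (sf r s) → ¬ lg (sf r s) →
    ip (sf r s) r = 1 ∧ ip (sf r s) s = 1 ∧ r ≠ s ∧
    ∀ β, 0 < ip (sf r s) β → β = r ∨ β = s ∨ H4 r s (sf r s) β := by decide +kernel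

theorem f4_b : ∀ r, ¬ lg r → ∀ s, ¬ lg s → Sm r s (sf r s) → ¬ lg (sf r s) →
    ∀ δ, 0 < ip (sf r s) δ → δ ≠ r → δ ≠ s → δ ≠ sf r s → ∃ β, ip δ β < 0 ∧ H4 r s (sf r s) β ∧
      (0 < ip (sf r s) β ∨ lg β ∧ 0 ≤ ip (sf r s) β) := by decide +kernel

theorem cR_a : ∀ β, lg β → ∀ γ, ¬ lg γ → 0 < ip β γ → ip β β + ip γ β = 6 ∧
    ip β γ + ip γ γ = 4 ∧ ∀ δ, ip β δ + ip γ δ ≤ 6 ∧ (0 < ip β δ + ip γ δ → δ ≠ β → δ ≠ γ →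
      ip β δ + ip γ δ ≤ 4 ∧ ∃ ε, ip δ ε < 0 ∧ 0 < ip β ε + ip γ ε) := by decide +kernel

theorem ht_bd : ∀ r, co r 0 + co r 1 + co r 2 + co r 3 ≠ 0 ∧
    -11 ≤ co r 0 + co r 1 + co r 2 + co r 3 ∧ co r 0 + co r 1 + co r 2 + co r 3 ≤ 11 := by
  decide +kernel

end Cfsg.Agent.H77.F4
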