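import Cfsg.Agent.H77.FsR3a

/-!
# FS2-R3, part 2: `RT → RU`
-/

set_option autoImplicit false
set_option linter.unusedSectionVars false

namespace Cfsg.Agent.H77.FS

open Cfsg Cfsg.Agent.H30 Cfsg.Agent.H71.FS2 QuadraticMap Module Polynomial

universe u

variable {F V : Type u} [Field F] [Finite F] [CharP F 2] [AddCommGroup V] [Module F V]
  [FiniteDimensional F V] {Q : QuadraticForm F V} (hQ : (polarBilin Q).Nondegenerate)
  {g : O Q} {M : ℕ}

theorem invOn_of_flip {U : Submodule F V} {γ h : O Q} (h1 : ∀ v ∈ perp Q U, γ.1 v = v)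
    (h2 : ∀ u ∈ U, g.1 (γ.1 (g.1 u)) = γ.1 u) (k1 : ∀ v ∈ perp Q U, h.1 v = v)
    (k2 : ∀ u ∈ U, h.1 (g.1 u) = g.1 (h.1 u)) (k4 : dickson hQ h = -1) : InvOn hQ g U := by
  by_cases e : dickson hQ γ = (-1) ^ (finrank F U / 2)
  · exact ⟨γ, h1, h2, e⟩
  have k3 : ∀ u ∈ U, h.1 u ∈ U := fun u hu => by
    rw [← perp_perp hQ U, mem_perp]
    intro z hz
    rw [← k1 z hz, O_polar]
    exact mem_perp'.1 hz u hu
  refine ⟨γ * h, fun v hv => by rw [O_mul_apply, k1 v hv, h1 v hv], fun u hu => ?_, ?_⟩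
  · rw [O_mul_apply, O_mul_apply, k2 u hu, h2 _ (k3 u hu)]
  · rw [map_mul, k4, Int.units_ne_iff_eq_neg.1 e]
    simp

theorem key1 {x y : V} (hx : ph g (ν F ^ (M + 1)) x = 0)
    (hb : polar Q (ph g (ν F ^ M) x) y ≠ 0) {r : F[X]}
    (h : ∀ p, polar Q (ph g r x) (ph g p y) = 0) : ν F ^ (M + 1) ∣ r := by
  suffices ∀ i ≤ M + 1, ν F ^ i ∣ r from this _ le_rfl
  intro i hi
  induction i with
  | zero => simp
  | succ i ih =>
    obtain ⟨q, rfl⟩ := ih (by omega)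
    have := h (ν F ^ (M - i))
    rw [ph_mul, pair (M := M) (by rw [ph_comm, hx, map_zero]) (by omega), top_ph hx,
      polar_smul_left', mul_eq_zero] at this
    rw [pow_succ]
    exact mul_dvd_mul_left _ (ν_dvd (this.resolve_right hb))

theorem key2 {x y : V} (hx : ph g (ν F ^ (M + 1)) x = 0) (hy : ph g (ν F ^ (M + 1)) y = 0)
    (bxy : polar Q (ph g (ν F ^ M) x) y = 1) (byx : polar Q (ph g (ν F ^ M) y) x = 1)
    (bxx : polar Q (ph g (ν F ^ M) x) x = 0) (byy : polar Q (ph g (ν F ^ M) y) y = 0)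
    {r s : F[X]} (h1 : ∀ p, polar Q (ph g r x + ph g s y) (ph g p x) = 0)
    (h2 : ∀ p, polar Q (ph g r x + ph g s y) (ph g p y) = 0) :
    ν F ^ (M + 1) ∣ r ∧ ν F ^ (M + 1) ∣ s := by
  suffices ∀ i ≤ M + 1, ν F ^ i ∣ r ∧ ν F ^ i ∣ s from this _ le_rfl
  intro i hi
  induction i with
  | zero => simp
  | succ i ih =>
    obtain ⟨⟨q, rfl⟩, q', rfl⟩ := ih (by omega)
    have e1 := h1 (ν F ^ (M - i))
    have e2 := h2 (ν F ^ (M - i))
    rw [polar_add_left, ph_mul, ph_mul, pair (M := M) (by rw [ph_comm, hx, map_zero]) (by omega),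
      pair (M := M) (by rw [ph_comm, hy, map_zero]) (by omega), top_ph hx, top_ph hy,
      polar_smul_left', polar_smul_left'] at e1 e2
    rw [bxx, byx] at e1
    rw [bxy, byy] at e2
    rw [pow_succ]
    exact ⟨mul_dvd_mul_left _ (ν_dvd (by simpa using e2)),
      mul_dvd_mul_left _ (ν_dvd (by simpa using e1))⟩

theorem ph_inv_g (g : O Q) (p : F[X]) (v : V) : g.1 (ph g⁻¹ (X * p) v) = ph g⁻¹ p v := by
  rw [ph_mul, ph_X, O_apply_inv]

theorem cyc {v : V} (h0 : ph g (ν F ^ (M + 1)) v = 0) (hb : polar Q (ph g (ν F ^ M) v) v ≠ 0) :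
    NondegOn Q (Cy g v) ∧ InvOn hQ g (Cy g v) := by
  have nd : NondegOn Q (Cy g v) := by
    rintro _ ⟨r, rfl⟩ h
    exact ph_of_dvd h0 (key1 h0 hb fun p => h _ (ph_mem_Cy g v p))
  refine ⟨nd, ?_⟩
  have dec := nd.orthDec
  obtain ⟨γ, hγ⟩ := graph hQ ((ev g v).coprod (perp Q (Cy g v)).subtype)
    ((ev g⁻¹ v).coprod (perp Q (Cy g v)).subtype) (fun w => by
      obtain ⟨_, ⟨p, rfl⟩, z, hz, rfl⟩ := dec.exists_add w
      exact ⟨(p, ⟨z, hz⟩), rfl⟩) fun w => by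
      simp only [LinearMap.coprod_apply, ev_apply, Submodule.subtype_apply]
      rw [dec.Q_add (inv_mem_Cy g v _) w.2.2, dec.Q_add (ph_mem_Cy g v _) w.2.2, Q_ph]
  have γ1 : ∀ p, γ.1 (ph g p v) = ph g⁻¹ p v := fun p => by simpa using hγ (p, 0)
  let h : O Q := orthSum dec (restrictO g _ (Cy_inv g v), 1)
  have hl : ∀ u ∈ Cy g v, h.1 u = g.1 u := fun u hu => orthSum_apply_left dec _ ⟨u, hu⟩
  have hr : ∀ z ∈ perp Q (Cy g v), h.1 z = z := fun z hz => orthSum_apply_right dec _ ⟨z, hz⟩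
  refine invOn_of_flip hQ (γ := γ) (h := h) (fun z hz => by simpa using hγ (0, ⟨z, hz⟩)) ?_ hr
    (fun u hu => by rw [hl _ (Cy_inv g v u hu), hl u hu]) ?_
  · rintro _ ⟨p, rfl⟩
    rw [ev_apply, ← ph_X g (ph g p v), ← ph_mul, γ1, γ1, ph_inv_g]
  · have e : movSp h = Cy g (ph g (ν F) v) := by
      ext w
      rw [mem_movSp, mem_Cy]
      constructor
      · rintro ⟨w, rfl⟩
        obtain ⟨_, ⟨p, rfl⟩, z, hz, rfl⟩ := dec.exists_add w
        refine ⟨p, ?_⟩
        rw [map_add, hr z hz, ev_apply, hl _ (ph_mem_Cy g v p), ph_comm, ph_ν']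
        abel
      · rintro ⟨p, rfl⟩
        exact ⟨ph g p v, by rw [hl _ (ph_mem_Cy g v p), ph_comm, ph_ν']⟩
    obtain ⟨j, rfl | rfl⟩ := Nat.even_or_odd' M
    · exact absurd ((pair h0 (two_mul j).symm v).symm.trans (pol_self _)) hb
    rw [dickson_apply, e, finrank_Cy (M := 2 * j) (by rw [← ph_mul, ← pow_succ, h0])
      (by rw [← ph_mul, ← pow_succ]; intro e; rw [e, polar_zero_left] at hb; exact hb rfl)]
    exact Odd.neg_one_pow ⟨j, rfl⟩

include hQ in
theorem partner {W : Submodule F V} (hW : ∀ v ∈ W, g.1 v ∈ W) (nd : NondegOn Q W) {x : V}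
    (hx : x ∈ W) (h0 : ph g (ν F ^ (M + 1)) x = 0) (h1 : ph g (ν F ^ M) x ≠ 0) :
    ∃ y ∈ W, polar Q (ph g (ν F ^ M) x) y = 1 ∧
      ∀ k : ℤ, polar Q ((g ^ k).1 x) y = polar Q ((g ^ ((M + 1 : ℕ) - k)).1 x) y := by
  have li := (degreeLT.basis F (M + 1)).linearIndependent.map' _ (ev_inj h0 h1)
  obtain ⟨y0, hy0⟩ := exists_polar_eq_of_linearIndependent hQ li fun i => if i = 0 then 1 else 0
  obtain ⟨y, hy, z, hz, rfl⟩ := nd.orthDec.exists_add y0
  have c : ∀ i < M + 1, polar Q ((g ^ i).1 x) y = if i = 0 then 1 else 0 := fun i hi => by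
    have := hy0 ⟨i, hi⟩
    simp only [Function.comp, LinearMap.comp_apply, Submodule.subtype_apply, degreeLT.basis_val,
      ev_apply, Fin.ext_iff, Fin.val_zero] at this
    rw [polar_add_right, mem_perp.1 hz _ (ph_mem hW _ hx), add_zero, ph_X_pow] at this
    exact this
  have ex : ∀ (p : F[X]) (n : ℕ), p.natDegree < n → polar Q (ph g p x) y =
      ∑ i ∈ Finset.range n, p.coeff i * polar Q ((g ^ i).1 x) y := fun p n hp => by
    conv_lhs => rw [p.as_sum_range' n hp, map_sum, LinearMap.sum_apply, polar_sum_left]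
    simp only [ph_monomial, polar_smul_left']
  have c0 : ∀ p : F[X], ∑ i ∈ Finset.range (M + 1), p.coeff i * polar Q ((g ^ i).1 x) y =
      p.coeff 0 := fun p => by
    rw [Finset.sum_congr rfl fun i hi => by rw [c i (Finset.mem_range.1 hi)]]
    simp
  have ν0 : ∀ n, (ν F ^ n).coeff 0 = 1 := fun n => by simp [ν, coeff_zero_eq_eval_zero]
  have cm : polar Q ((g ^ (M + 1)).1 x) y = 1 := by
    have := ex (ν F ^ (M + 1)) (M + 2) (by rw [ν_natDegree]; omega)
    have e : (ν F ^ (M + 1)).coeff (M + 1) = 1 := by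
      have := (ν_monic (F := F)).pow (M + 1)
      rwa [Monic, leadingCoeff, ν_natDegree] at this
    rw [h0, polar_zero_left, Finset.sum_range_succ, c0, ν0, e, one_mul] at this
    linear_combination -this - CharTwo.two_eq_zero (R := F)
  have D : ∀ p : F[X], polar Q (ph g p x) y = polar Q ((g ^ (M + 1)).1 (ph g⁻¹ p x)) y := by
    let φ : F[X] →ₗ[F] F := (polarBilin Q y).comp
      (ev g x - ((g ^ (M + 1)).1 : V →ₗ[F] V).comp (ev g⁻¹ x))
    have hφ : ∀ p, φ p = polar Q (ph g p x) y - polar Q ((g ^ (M + 1)).1 (ph g⁻¹ p x)) y :=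
      fun p => by
        simp only [φ, LinearMap.comp_apply, LinearMap.sub_apply, ev_apply, polarBilin_apply_apply,
          polar_sub_left, LinearEquiv.coe_coe, polar_comm Q y]
    have low : degreeLT F (M + 1) ≤ LinearMap.ker φ := by
      classical
      rw [degreeLT_eq_span_X_pow, Submodule.span_le]
      intro p hp
      simp only [Finset.coe_image, Set.mem_image, Finset.coe_range, Set.mem_Iio] at hp
      obtain ⟨i, hi, rfl⟩ := hp
      change φ _ = 0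
      rw [hφ, ph_X_pow, ph_X_pow, ← O_mul_apply, inv_pow, ← pow_sub g hi.le, c i hi]
      by_cases e : i = 0
      · rw [if_pos e, e, Nat.sub_zero, cm, sub_self]
      · rw [if_neg e, c _ (by omega), if_neg (by omega), sub_self]
    intro p
    rw [← sub_eq_zero, ← hφ, ← modByMonic_add_div p (ν F ^ (M + 1)), map_add,
      low (mod_lt p (M + 1)), hφ, ph_of_dvd h0 (dvd_mul_right _ _), mul_comm, ph_mul, ph_inv_ν, h0]
    simp
  have nat : ∀ a : ℕ, polar Q ((g ^ (a : ℤ)).1 x) y =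
      polar Q ((g ^ ((M + 1 : ℕ) - (a : ℤ))).1 x) y := fun a => by
    have := D (X ^ a)
    rwa [ph_X_pow, ph_X_pow, ← O_mul_apply, inv_pow, ← zpow_natCast g a, ← zpow_natCast g (M + 1),
      ← zpow_sub] at this
  refine ⟨y, hy, by rw [ex _ (M + 1) (by rw [ν_natDegree]; omega), c0, ν0], fun k => ?_⟩
  rcases Int.eq_nat_or_neg k with ⟨a, rfl | rfl⟩
  · exact nat a
  · have := nat (M + 1 + a)
    rw [show ((M + 1 : ℕ) : ℤ) - ((M + 1 + a : ℕ) : ℤ) = -(a : ℤ) by push_cast; ring] at this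
    rw [← this]
    congr 4
    push_cast; ring

theorem bicyc (rt : RT.{u}) {x y : V} (hx : ph g (ν F ^ (M + 1)) x = 0)
    (hy : ph g (ν F ^ (M + 1)) y = 0) (bxy : polar Q (ph g (ν F ^ M) x) y = 1)
    (bxx : polar Q (ph g (ν F ^ M) x) x = 0) (byy : polar Q (ph g (ν F ^ M) y) y = 0)
    (sym : ∀ k : ℤ, polar Q ((g ^ k).1 x) y = polar Q ((g ^ (((M + 1) % 2 : ℕ) - k)).1 x) y) :
    NondegOn Q (Cy g x ⊔ Cy g y) ∧ InvOn hQ g (Cy g x ⊔ Cy g y) := by
  have byx : polar Q (ph g (ν F ^ M) y) x = 1 := by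
    have := pair hx (zero_add M) y
    rw [pow_zero, map_one, End.one_apply, bxy] at this
    rw [polar_comm, this]
  have mem : ∀ w ∈ Cy g x ⊔ Cy g y, ∃ r s, w = ph g r x + ph g s y := fun w hw => by
    obtain ⟨_, ⟨r, rfl⟩, _, ⟨s, rfl⟩, rfl⟩ := Submodule.mem_sup.1 hw
    exact ⟨r, s, rfl⟩
  have mx : ∀ p, ph g p x ∈ Cy g x ⊔ Cy g y := fun p => Submodule.mem_sup_left (ph_mem_Cy g x p)
  have my : ∀ p, ph g p y ∈ Cy g x ⊔ Cy g y := fun p => Submodule.mem_sup_right (ph_mem_Cy g y p)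
  have nd : NondegOn Q (Cy g x ⊔ Cy g y) := fun w hw h => by
    obtain ⟨r, s, rfl⟩ := mem w hw
    obtain ⟨e1, e2⟩ := key2 hx hy bxy byx bxx byy (fun p => h _ (mx p)) fun p => h _ (my p)
    rw [ph_of_dvd hx e1, ph_of_dvd hy e2, add_zero]
  refine ⟨nd, ?_⟩
  have dec := nd.orthDec
  set y1 := (g ^ (-(((M + 1) % 2 : ℕ) : ℤ))).1 y with hy1
  have my1 : ∀ p, ph g⁻¹ p y1 ∈ Cy g y := fun p => by
    obtain ⟨q, e⟩ := exists_inv g p
    obtain ⟨q', e'⟩ := zpow_eq g (-(((M + 1) % 2 : ℕ) : ℤ))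
    rw [e, hy1, e', ← ph_mul]
    exact ph_mem_Cy _ _ _
  have pl := pol_ext (g := g) (x := x) (y := y) (x' := x) (y' := y1) fun a b => by
    rw [hy1, ← O_mul_apply, inv_pow, inv_pow, ← zpow_natCast, ← zpow_natCast, ← zpow_neg,
      ← zpow_neg, ← zpow_add, pol_zpow, pol_zpow, sym]
    congr 4
    ring
  obtain ⟨γ, hγ⟩ := graph hQ (((ev g x).coprod (ev g y)).coprod (perp Q (Cy g x ⊔ Cy g y)).subtype)
    (((ev g⁻¹ x).coprod (ev g⁻¹ y1)).coprod (perp Q (Cy g x ⊔ Cy g y)).subtype) (fun w => by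
      obtain ⟨u, hu, z, hz, rfl⟩ := dec.exists_add w
      obtain ⟨r, s, rfl⟩ := mem u hu
      exact ⟨((r, s), ⟨z, hz⟩), rfl⟩) fun w => by
      simp only [LinearMap.coprod_apply, ev_apply, Submodule.subtype_apply]
      rw [dec.Q_add (Submodule.add_mem_sup (inv_mem_Cy g x _) (my1 _)) w.2.2,
        dec.Q_add (add_mem (mx _) (my _)) w.2.2, Q_add, Q_add, pl, Q_ph, Q_ph, hy1,
        ← ph_O_comm (by group), O_map]
  have γ1 : ∀ r s, γ.1 (ph g r x + ph g s y) = ph g⁻¹ r x + ph g⁻¹ s y1 := fun r s => by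
    simpa only [LinearMap.coprod_apply, ev_apply, map_zero, add_zero] using hγ ((r, s), 0)
  have γ2 : ∀ z ∈ perp Q (Cy g x ⊔ Cy g y), γ.1 z = z := fun z hz => by
    simpa using hγ (0, ⟨z, hz⟩)
  have γ3 : ∀ u ∈ Cy g x ⊔ Cy g y, g.1 (γ.1 (g.1 u)) = γ.1 u := fun u hu => by
    obtain ⟨r, s, rfl⟩ := mem u hu
    rw [map_add g.1, ← ph_X g (ph g r x), ← ph_X g (ph g s y), ← ph_mul, ← ph_mul, γ1, γ1,
      map_add, ph_inv_g, ph_inv_g]
  have hx1 : ph g (ν F ^ M) x ≠ 0 := fun e => by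
    rw [e, polar_zero_left] at bxy; exact zero_ne_one bxy
  have hy1' : ph g (ν F ^ M) y ≠ 0 := fun e => by
    rw [e, polar_zero_left] at byx; exact zero_ne_one byx
  obtain ⟨j, rfl | rfl⟩ := Nat.even_or_odd' M
  · have fin : ∀ v ∈ Cy g x ⊔ Cy g y, ph g (ν F ^ (2 * j + 1)) v = 0 →
        ph g (ν F ^ (2 * j)) v ≠ 0 → Q (ph g (ν F ^ j) v) ≠ 0 → InvOn hQ g (Cy g x ⊔ Cy g y) := by
      intro v hv a b c
      rw [ph_ν_pow] at a b c
      obtain ⟨h, c1, c2, c3⟩ := rt hQ g v j a b c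
      refine invOn_of_flip hQ γ2 γ3 (fun z hz => c3 z (perp_anti ?_ hz))
        (fun u _ => by rw [← O_mul_apply, c1, O_mul_apply]) c2
      refine Submodule.span_le.2 ?_
      rintro _ ⟨_, ⟨k, rfl⟩, _, rfl, rfl⟩
      obtain ⟨q, e⟩ := zpow_eq g k
      obtain ⟨r, s, rfl⟩ := mem _ hv
      change (g ^ k).1 _ ∈ Cy g x ⊔ Cy g y
      rw [e, map_add, ← ph_mul, ← ph_mul]
      exact add_mem (mx _) (my _)
    have e := pair hx (two_mul j).symm y
    rw [bxy] at e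
    have x0 : x ∈ Cy g x ⊔ Cy g y := Submodule.mem_sup_left (self_mem_Cy g x)
    have y0 : y ∈ Cy g x ⊔ Cy g y := Submodule.mem_sup_right (self_mem_Cy g y)
    rcases exists_Q_ne_zero_of_polar (e ▸ one_ne_zero) with h | h | h
    · exact fin x x0 hx hx1 h
    · exact fin y y0 hy hy1' h
    · refine fin _ (add_mem x0 y0) (by rw [map_add, hx, hy, add_zero]) (fun e0 => ?_)
        (by rwa [map_add])
      have : polar Q (ph g (ν F ^ (2 * j)) (x + y)) y = 0 := by rw [e0, polar_zero_left]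
      rw [map_add, polar_add_left, bxy, byy, add_zero] at this
      exact one_ne_zero this
  · have e1 : y1 = y := by rw [hy1, show (2 * j + 1 + 1) % 2 = 0 by omega]; simp
    rw [e1] at γ1
    have dis : Cy g x ⊓ Cy g y = ⊥ := by
      rw [eq_bot_iff]
      rintro _ ⟨⟨r, rfl⟩, s, e⟩
      have e0 : ph g r x + ph g (-s) y = 0 := by
        rw [map_neg, LinearMap.neg_apply, ← ev_apply g y, e, ev_apply, add_neg_cancel]
      exact ph_of_dvd hx (key2 hx hy bxy byx bxx byy (fun p => by rw [e0, polar_zero_left])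
        fun p => by rw [e0, polar_zero_left]).1
    have dU := Submodule.finrank_sup_add_finrank_inf_eq (Cy g x) (Cy g y)
    rw [dis, finrank_bot, add_zero, finrank_Cy hx hx1, finrank_Cy hy hy1'] at dU
    have mv : movSp γ = LinearMap.range (ev g⁻¹ x - ev g x) ⊔
        LinearMap.range (ev g⁻¹ y - ev g y) := by
      ext w
      rw [mem_movSp, Submodule.mem_sup]
      constructor
      · rintro ⟨w, rfl⟩
        obtain ⟨u, hu, z, hz, rfl⟩ := dec.exists_add w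
        obtain ⟨r, s, rfl⟩ := mem u hu
        refine ⟨_, ⟨r, rfl⟩, _, ⟨s, rfl⟩, ?_⟩
        rw [map_add γ.1, γ1, γ2 z hz]
        simp only [LinearMap.sub_apply, ev_apply]
        abel
      · rintro ⟨_, ⟨r, rfl⟩, _, ⟨s, rfl⟩, rfl⟩
        refine ⟨ph g r x + ph g s y, ?_⟩
        rw [γ1]
        simp only [LinearMap.sub_apply, ev_apply]
        abel
    have le : ∀ v, LinearMap.range (ev g⁻¹ v - ev g v) ≤ Cy g v := by
      rintro v _ ⟨r, rfl⟩
      exact sub_mem (inv_mem_Cy g v r) (ph_mem_Cy g v r)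
    have ker : LinearMap.ker (ev g⁻¹ x - ev g x) = LinearMap.ker (ev g⁻¹ y - ev g y) := by
      ext p
      obtain ⟨q, e⟩ := exists_inv g p
      simp only [LinearMap.mem_ker, LinearMap.sub_apply, ev_apply, e]
      rw [← LinearMap.sub_apply, ← LinearMap.sub_apply, ← map_sub]
      exact ⟨fun h => ph_of_dvd hy (ann hx hx1 h), fun h => ph_of_dvd hx (ann hy hy1' h)⟩
    have eq : finrank F (LinearMap.range (ev g⁻¹ x - ev g x)) =
        finrank F (LinearMap.range (ev g⁻¹ y - ev g y)) :=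
      (((LinearMap.quotKerEquivRange _).symm.trans (Submodule.quotEquivOfEq _ _ ker)).trans
        (LinearMap.quotKerEquivRange _)).finrank_eq
    have dS := Submodule.finrank_sup_add_finrank_inf_eq (LinearMap.range (ev g⁻¹ x - ev g x))
      (LinearMap.range (ev g⁻¹ y - ev g y))
    rw [eq_bot_iff.2 ((inf_le_inf (le x) (le y)).trans dis.le), finrank_bot, add_zero, eq,
      ← mv] at dS
    refine ⟨γ, γ2, γ3, ?_⟩
    rw [dickson_apply, dS, dU, Even.neg_one_pow ⟨_, rfl⟩, Even.neg_one_pow ⟨j + 1, by omega⟩]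

/-- **R3** -/
theorem ru_of_rt (rt : RT.{u}) : RU.{u} := by
  intro F V _ _ _ _ _ _ Q hQ g W h0 hW nd hm
  classical
  simp only [← ph_ν_pow] at hm
  obtain ⟨M, hM⟩ : ∃ M, Nat.find hm = M + 1 := by
    refine Nat.exists_eq_succ_of_ne_zero fun e => h0 (eq_bot_iff.2 fun v hv => ?_)
    have := Nat.find_spec hm v hv
    rw [e] at this
    simpa using this
  have top := Nat.find_spec hm
  rw [hM] at top
  have low := Nat.find_min hm (show M < Nat.find hm by omega)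
  push Not at low
  obtain ⟨x, hx, hx1⟩ := low
  by_cases hc : ∃ v ∈ W, polar Q (ph g (ν F ^ M) v) v ≠ 0
  · obtain ⟨v, hv, hb⟩ := hc
    obtain ⟨a, b⟩ := cyc hQ (top v hv) hb
    refine ⟨_, Cy_le hW hv, fun e => hb ?_, Cy_inv g v, a, b⟩
    have : v = 0 := (Submodule.eq_bot_iff _).1 e v (self_mem_Cy g v)
    rw [this, polar_zero_right]
  push Not at hc
  obtain ⟨y0, hy0, b0, s0⟩ := partner hQ hW nd hx (top x hx) hx1
  obtain ⟨q, hq⟩ := zpow_eq g (-(((M + 1) / 2 : ℕ) : ℤ))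
  set y := (g ^ (-(((M + 1) / 2 : ℕ) : ℤ))).1 y0 with hy
  have hyW : y ∈ W := by rw [hy, hq]; exact ph_mem hW _ hy0
  obtain ⟨a, b⟩ := bicyc hQ rt (top x hx) (top y hyW) (by
    rw [← b0, hy, ← zpow_fix (top_fix (top x hx)) (-(((M + 1) / 2 : ℕ) : ℤ)), O_polar,
      zpow_fix (top_fix (top x hx))]) (hc x hx) (hc y hyW) fun k => by
    rw [hy, pol_zpow, pol_zpow, s0]
    congr 4
    omega
  refine ⟨_, sup_le (Cy_le hW hx) (Cy_le hW hyW), fun e => hx1 ?_, fun u hu => ?_, a, b⟩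
  · have : x = 0 := (Submodule.eq_bot_iff _).1 e x (Submodule.mem_sup_left (self_mem_Cy g x))
    rw [this, map_zero]
  · obtain ⟨a, ha, b, hb, rfl⟩ := Submodule.mem_sup.1 hu
    rw [map_add]
    exact Submodule.add_mem_sup (Cy_inv g x a ha) (Cy_inv g y b hb)

end Cfsg.Agent.H77.FS
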