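import Cfsg.Agent.H77.C3T

/-!
Orthogonal field extension subgroups, dimension three over the extension field: orthogonal
extremal pairs produce long root elements.
-/

set_option autoImplicit false
set_option linter.unusedSectionVars false

namespace Cfsg.Agent.H77

open Module H26 H26.PForm H27

variable {F K : Type*} [Field F] [Field K] [Algebra F K] {V : Type*} [AddCommGroup V]
  [Module F V] [Module K V] [IsScalarTower F K V]

namespace C3T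

variable {P : PForm F V} {P₁ : PForm K V} {lam : K →ₗ[F] F} {M : Subgroup (V ≃ₗ[F] V)}
  (X : C3T P P₁ lam M)
include X

variable [FiniteDimensional K V] [FiniteDimensional F V] [Finite F] [Finite K]

theorem sing_of_mem_orb {U : Submodule F V} (hU : U ∈ orb P₁ M) {u : V} (hu : u ∈ U) :
    P.Sing u := by
  obtain ⟨g, hg, v, hv, -, rfl⟩ := hU
  obtain ⟨a, ha⟩ := mem_kline.1 (mem_act.1 hu)
  have := (X.sing (hv.smul a)).map (X.isom hg)
  rwa [ha, apply_inv_apply] at this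

theorem le_perp_of_mem_orb {U : Submodule F V} (hU : U ∈ orb P₁ M) : U ≤ P.perp U := by
  obtain ⟨g, hg, v, hv, -, rfl⟩ := hU
  rw [act_perp (X.isom hg)]
  intro u hu
  rw [mem_act] at hu ⊢
  obtain ⟨a, ha⟩ := mem_kline.1 hu
  rw [X.mem_perp_kline, ← ha, P₁.f_smul_left, hv.f_self, mul_zero]

theorem ei_of_star (hS : C3O.Star P P₁ M) {U : Submodule F V} (hU : U ∈ orb P₁ M) {u u' : V}
    (hu : u ∈ U) (hu' : u' ∈ U) : P.Ei M u u' 0 := by
  obtain ⟨g, hg, v, hv, -, rfl⟩ := hU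
  obtain ⟨a, ha⟩ := mem_kline.1 (mem_act.1 hu)
  obtain ⟨b, hb⟩ := mem_kline.1 (mem_act.1 hu')
  have := (hS v hv a b).conj hg (X.isom hg)
  rwa [ha, hb, apply_inv_apply, apply_inv_apply] at this

theorem star_of_rank_one' {s : V ≃ₗ[F] V} (hs : s ∈ M) {W : Submodule F V} (hW : W ∈ orb P₁ M)
    {δ y₀ : V} (hδ : δ ∈ W) (hδ0 : δ ≠ 0) (hy : y₀ ∈ P.perp W) (hyW : y₀ ∉ W)
    (h : ∀ z ∈ P.perp W, s z = z + P.f z y₀ • δ) : C3O.Star P P₁ M := by
  obtain ⟨g, hg, v, hv, hv0, rfl⟩ := hW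
  rw [act_perp (X.isom hg)] at hy h
  rw [mem_act] at hδ hy hyW
  obtain ⟨d, hd⟩ := mem_kline.1 hδ
  refine X.star_of_rank_one (s := g⁻¹ * s * g)
    (M.mul_mem (M.mul_mem (M.inv_mem hg) hs) hg) hv hv0 (d := d) ?_ (X.mem_perp_kline.1 hy) hyW
    fun z hz => ?_
  · rintro rfl
    rw [zero_smul, eq_comm, LinearEquiv.map_eq_zero_iff] at hd
    exact hδ0 hd
  · rw [mul_apply', mul_apply', h _ (apply_mem_act.2 (X.mem_perp_kline.2 hz)), map_add,
      inv_apply_apply, map_smul, hd, isom_f_left (X.isom hg)]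

theorem exists_radical {W : Submodule F V} (hW : W ∈ orb P₁ M) {b u : V} (hb : b ∈ P.perp W)
    (hbW : b ∉ W) (hu : u ∈ W) :
    ∃ n ∈ M, (∀ z ∈ P.perp W, z - n z ∈ W) ∧ (∀ u ∈ W, n u = u) ∧ b - n b = u := by
  obtain ⟨g, hg, v, hv, hv0, rfl⟩ := hW
  rw [act_perp (X.isom hg)] at hb ⊢
  rw [mem_act] at hb hbW hu
  obtain ⟨c, hc⟩ := mem_kline.1 hu
  obtain ⟨y, hy, h1⟩ := P₁.exists_perp_f_right (W := K ∙ v) hbW c
  have hn := EV.of_h hv (mem_perp_span_singleton.1 hy)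
  have h2 : ∀ z, P₁.f (g⁻¹ z) v = 0 →
      z - (g * resHom F hn.equiv * g⁻¹) z = g (P₁.f (g⁻¹ z) y • v) := fun z hz => by
    rw [mul_apply', mul_apply', resHom_apply, EV.equiv_apply, eich_apply_of_orth _ _ hz, map_sub,
      apply_inv_apply, ε_eq_one_of_Λ X.Λ₁, one_mul, sub_sub_cancel]
  refine ⟨_, M.mul_mem (M.mul_mem hg (X.res _ _ _ hn)) (M.inv_mem hg), fun z hz => ?_,
    fun u hu => ?_, ?_⟩
  · rw [h2 z (X.mem_perp_kline.1 (mem_act.1 hz))]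
    exact apply_mem_act.2 (smul_mem_kline _ _)
  · rw [mul_apply', mul_apply', C3O.eich_kline hn (mem_act.1 hu), apply_inv_apply]
  · rw [h2 b (X.mem_perp_kline.1 hb), h1, hc, apply_inv_apply]

theorem E_le_of_star' (hS : C3O.Star P P₁ M) {U U' : Submodule F V} (hE : Extr (orb P₁ M) U U')
    (h0 : U ⊓ U' ≠ ⊥) : P.E ≤ M := by
  obtain ⟨g, -, v, W, hv, -, hE', rfl, rfl⟩ := exists_std hE
  obtain ⟨δ, hδ, hδ0⟩ := Submodule.exists_mem_ne_zero_of_ne_bot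
    (show kline F K v ⊓ W ≠ ⊥ from fun h => h0 (by rw [← act_inf, h]; exact Submodule.map_bot _))
  obtain ⟨x, hx, hxv⟩ := exists_notMem_of_extr hE'
  obtain ⟨a, rfl⟩ := mem_kline.1 hδ.1
  refine X.E_le_of_star hS (hv.smul a) (X.ei_of_star hS hE'.right hδ.2 hx) hδ0 (fun h => hxv ?_)
  obtain ⟨c, rfl⟩ := Submodule.mem_span_singleton.1 h
  rw [smul_smul]
  exact smul_mem_kline _ _

theorem eich_mem_of_extr {v w : V} {μ : K} (hv : P₁.EV v w μ) {W : Submodule F V}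
    (hE : Extr (orb P₁ M) (kline F K v) W) {x : V} (hx : x ∈ W) (hxv : x ∉ kline F K v)
    (h : P₁.eich v w μ x ∈ W) : ∀ y ∈ W, P₁.eich v w μ y ∈ W := by
  have h1 := hE.act_eq (act_mem_orb hE.right (X.res _ _ _ hv)) (fun u hu _ => C3O.eich_kline hv hu) hx h
    fun h' => hxv (by
      have h2 := C3O.eich_kline hv.neg h'
      rw [resHom_apply, resHom_apply, EV.equiv_apply, EV.equiv_apply, hv.eich_neg_eich] at h2
      rw [h2]
      exact h')
  intro y hy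
  rw [← h1]
  exact apply_mem_act.2 hy

/-- The shape of an orthogonal extremal pair. -/
theorem orth_shape {v : V} (hv : P₁.Sing v) {W : Submodule F V}
    (hE : Extr (orb P₁ M) (kline F K v) W) (h0 : kline F K v ⊓ W ≠ ⊥)
    (ho : ∀ x ∈ W, P₁.f x v = 0) {x : V} (hx : x ∈ W) (hxv : x ∉ kline F K v) :
    W ≤ (kline F K v ⊓ W) ⊔ F ∙ x := by
  let D : Submodule F K := W.comap ((LinearMap.toSpanSingleton K V v).restrictScalars F)
  have hD : ∀ a, a ∈ D ↔ a • v ∈ W := fun a => Iff.rfl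
  obtain ⟨δ, ⟨hδ1, hδ2⟩, hδ0⟩ := Submodule.exists_mem_ne_zero_of_ne_bot h0
  obtain ⟨a₀, rfl⟩ := mem_kline.1 hδ1
  obtain ⟨v₀, hv₀, hv₀'⟩ := exists_notMem_of_extr hE.symm
  obtain ⟨c₀, rfl⟩ := mem_kline.1 hv₀
  have key : ∀ w, P₁.f w v = 0 → P₁.f x w ∈ D → ∀ y ∈ W, P₁.f y w ∈ D := by
    intro w hw h y hy
    have := X.eich_mem_of_extr (EV.of_h hv hw) hE hx hxv (by
      rw [eich_apply_of_orth _ _ (ho x hx), ε_eq_one_of_Λ X.Λ₁, one_mul]
      exact W.sub_mem hx h) y hy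
    rw [eich_apply_of_orth _ _ (ho y hy), ε_eq_one_of_Λ X.Λ₁, one_mul] at this
    rw [hD]
    simpa using W.sub_mem hy this
  intro y hy
  obtain ⟨s, hs, e, rfl⟩ : ∃ s ∈ K ∙ v, ∃ e : K, y = s + e • x := by
    rw [← mem_sup_span]
    by_contra h
    obtain ⟨w, hw, h1⟩ := P₁.exists_perp_f_right h c₀
    rw [mem_perp_sup_span, mem_perp_span_singleton] at hw
    have := key w hw.1 (by rw [f_symm_zero hw.2]; exact D.zero_mem) y hy
    rw [h1] at this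
    exact hv₀' this
  obtain ⟨η, rfl⟩ := exists_algebraMap_of_stabilizes X.prime ((hD a₀).2 hδ2)
    (left_ne_zero_of_smul hδ0) (fun h => hv₀' ((hD c₀).1 (h ▸ Submodule.mem_top))) (e := e)
    fun a ha => by
      obtain ⟨w, hw, h1⟩ := P₁.exists_perp_f_right (W := K ∙ v) hxv a
      have := key w (mem_perp_span_singleton.1 hw) (h1 ▸ ha) _ hy
      rwa [P₁.f_add_left, P₁.f_smul_left, h1, f_of_mem_perp' hw hs, zero_add] at this
  rw [algebraMap_smul] at hy ⊢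
  refine mem_sup_span.2 ⟨s, ⟨hs, ?_⟩, η, rfl⟩
  simpa using W.sub_mem hy (W.smul_mem η hx)

theorem orth_data {v : V} (hv : P₁.Sing v) (hv0 : v ≠ 0) {W : Submodule F V}
    (hE : Extr (orb P₁ M) (kline F K v) W) (h0 : kline F K v ⊓ W ≠ ⊥)
    (ho : ∀ x ∈ W, P₁.f x v = 0) :
    ∃ v' x, P₁.Sing v' ∧ v' ≠ 0 ∧ x ∈ W ∧ P₁.f x v' = 0 ∧ x ∉ K ∙ v' ∧
      (∀ c : K, c • v' ∈ W ↔ lam c = 0) ∧
      ∀ u ∈ W, ∃ (c : K) (μ : F), lam c = 0 ∧ u = c • v' + μ • x := by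
  obtain ⟨x, hx, hxv⟩ := exists_notMem_of_extr hE
  have h1 := X.orth_shape hv hE h0 ho hx hxv
  obtain ⟨v₀, hv₀, hv₀'⟩ := exists_notMem_of_extr hE.symm
  have h2 : (kline F K v ⊓ W) ⊔ F ∙ v₀ = kline F K v := by
    refine Submodule.eq_of_le_of_finrank_le
      (sup_le inf_le_left ((Submodule.span_singleton_le_iff_mem _ _).2 hv₀)) ?_
    rw [finrank_sup_span_of_notMem (S := kline F K v ⊓ W) fun h => hv₀' h.2, finrank_of_mem_orb hE.left,
      ← finrank_of_mem_orb hE.right]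
    exact (Submodule.finrank_mono h1).trans (finrank_sup_span_le _ _)
  obtain ⟨z, hz, h3⟩ := P.exists_perp_f_right (W := kline F K v ⊓ W) (fun h => hv₀' h.2) 1
  have h4 : ∀ c : K, c • v ∈ W ↔ lam (c * P₁.f v z) = 0 := fun c => by
    rw [← X.f_smul']
    refine ⟨fun h => f_of_mem_perp' hz ⟨smul_mem_kline _ _, h⟩, fun h => ?_⟩
    obtain ⟨s, hs, μ, h5⟩ := mem_sup_span.1 (h2.ge (smul_mem_kline c v))
    rw [h5, P.f_add_left, P.f_smul_left, h3, f_of_mem_perp' hz hs, zero_add, mul_one] at h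
    rw [h5, h, zero_smul, add_zero]
    exact hs.2
  have h5 : P₁.f v z ≠ 0 := fun h => by
    obtain ⟨c, rfl⟩ := mem_kline.1 hv₀
    exact hv₀' ((h4 c).2 (by rw [h, mul_zero, map_zero]))
  have h6 : ∀ c : K, c • (P₁.f v z)⁻¹ • v ∈ W ↔ lam c = 0 := fun c => by
    rw [smul_smul, h4, inv_mul_cancel_right₀ h5]
  refine ⟨_, x, hv.smul _, smul_ne_zero (inv_ne_zero h5) hv0, hx,
    by rw [f_smul_right, ho x hx, mul_zero], fun h => hxv ?_, h6, fun u hu => ?_⟩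
  · rwa [Submodule.span_singleton_smul_eq (IsUnit.mk0 _ (inv_ne_zero h5))] at h
  · obtain ⟨s, hs, μ, rfl⟩ := mem_sup_span.1 (h1 hu)
    obtain ⟨c, rfl⟩ := mem_kline.1 hs.1
    have h7 : c • v = (c * P₁.f v z) • (P₁.f v z)⁻¹ • v := by
      rw [smul_smul, mul_inv_cancel_right₀ h5]
    exact ⟨c * P₁.f v z, μ, (h4 c).1 hs.2, by rw [← h7]⟩

theorem star_of_orth_data {v x : V} {W : Submodule F V} (hW : W ∈ orb P₁ M) (hv : P₁.Sing v)
    (hv0 : v ≠ 0) (hx : x ∈ W) (hxv : P₁.f x v = 0) (hxv' : x ∉ K ∙ v)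
    (hD : ∀ c : K, c • v ∈ W ↔ lam c = 0)
    (hW' : ∀ u ∈ W, ∃ (c : K) (μ : F), lam c = 0 ∧ u = c • v + μ • x) : C3O.Star P P₁ M := by
  obtain ⟨a₀, ha₀⟩ := X.exists_lam_eq one_ne_zero 1
  rw [mul_one] at ha₀
  obtain ⟨e, he, hxe⟩ := P.exists_perp_f_right (W := kline F K v) hxv' 1
  rw [X.mem_perp_kline] at he
  have hWp := X.le_perp_of_mem_orb hW
  have h1 : ∀ c : K, c • v - lam c • a₀ • v ∈ W := fun c => by
    rw [← smul_assoc, ← sub_smul, hD, map_sub, map_smul, ha₀, smul_eq_mul, mul_one, sub_self]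
  have h2 : ∀ z ∈ P.perp W, P₁.f z v = algebraMap F K (P.f z (a₀ • v)) := fun z hz =>
    eq_of_forall_map_mul_eq X.lam_ne fun c => by
      have := hz _ (h1 c)
      rw [f_sub_right, f_smul_right_Λ X.Λ₀, X.f_smul, sub_eq_zero] at this
      rw [this, mul_comm c, ← Algebra.smul_def, map_smul, smul_eq_mul, mul_comm]
  have h3 : ∀ b, P₁.f b v = 0 → ∀ μ, ∀ u ∈ W,
      P₁.eich v b μ u = u - P.f u e • P₁.f x b • v := fun b hb μ u hu => by
    obtain ⟨c, μ', -, rfl⟩ := hW' u hu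
    rw [eich_apply_of_orth _ _ (by rw [P₁.f_add_left, P₁.f_smul_left, f_smul_F', hv.f_self, hxv,
      mul_zero, smul_zero, add_zero]), ε_eq_one_of_Λ X.Λ₁, one_mul, P₁.f_add_left, P₁.f_smul_left,
      f_smul_F', f_symm_zero hb, P.f_add_left, X.f_smul', f_symm_zero he, P.f_smul_left, hxe]
    simp
  have h4 : ∀ b, ∀ z ∈ P.perp W, P₁.eich v b (P₁.h b) z - (z + P.f z (a₀ • v) • b -
      (P.f z b + P.h b * P.f z (a₀ • v)) • a₀ • v) ∈ W := fun b z hz => by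
    have := W.neg_mem (h1 (P₁.f z b + P₁.h b * P₁.f z v))
    rw [map_add, ← X.f_tr, h2 z hz, mul_comm, ← Algebra.smul_def, map_smul, ← X.h_tr, smul_eq_mul,
      mul_comm] at this
    rw [eich_apply_Λ X.Λ₁, h2 z hz, algebraMap_smul, mul_comm, ← Algebra.smul_def]
    convert this using 1
    abel
  have h5 : ∀ b, P₁.f b v = 0 → lam (P₁.f x b) = 0 → b ∈ P.perp W := fun b hb h =>
    mem_perp'.2 fun u hu => by
      obtain ⟨c, μ', -, rfl⟩ := hW' u hu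
      rw [P.f_add_left, X.f_smul', f_symm_zero hb, P.f_smul_left, X.f_tr, h]
      simp
  have h6 : a₀ • v ∈ P.perp W :=
    h5 _ (by rw [P₁.f_smul_left, hv.f_self, mul_zero]) (by rw [f_smul_right, hxv, mul_zero, map_zero])
  have h7 : a₀ • v ∉ W := by rw [hD, ha₀]; exact one_ne_zero
  have h8 : ∀ b (hb : P₁.f b v = 0) z, (resHom F (EV.of_h hv hb).equiv)⁻¹ z =
      P₁.eich v (-b) (P₁.h (-b)) z := fun b hb z => by
    rw [← map_inv, resHom_apply, EV.equiv_inv_apply, ε_eq_one_of_Λ X.Λ₁, σ_eq_of_Λ X.Λ₁, one_mul,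
      h_neg_Λ X.Λ₁]
  have h9 : ∀ b (hb : P₁.f b v = 0), lam (P₁.f x b) = 0 → ∀ u ∈ W,
      (resHom F (EV.of_h hv hb).equiv)⁻¹ u ∈ W := fun b hb h u hu => by
    rw [h8 b hb, h3 _ (by rw [f_neg_left, hb, neg_zero]) _ u hu]
    exact W.sub_mem hu (W.smul_mem _ ((hD _).2 (by rw [f_neg_right, map_neg, h, neg_zero])))
  have h10 : ∀ n ∈ M, ∀ z, P.f (z - n z) e = P.f z (e - n⁻¹ e) := fun n hn z => by
    rw [f_sub_left, f_sub_right, isom_f_left (X.isom hn)]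
  have hsx := (sing_iff_of_Λ X.Λ₀).1 (X.sing_of_mem_orb hW hx)
  have hx0 : P₁.h x ≠ 0 := X.h_ne_of_perp hv hv0 hxv hxv'
  have k1 : lam (P₁.f x x) = 0 := by rw [← X.f_tr, f_self_Λ X.Λ₀, hsx, mul_zero]
  obtain ⟨n, hn, n1, n2, n3⟩ := X.exists_radical hW h6 h7 hx
  refine X.star_of_rank_one' (M.mul_mem (M.mul_mem (M.mul_mem (X.res _ _ _ (EV.of_h hv hxv)) hn)
    (M.inv_mem (X.res _ _ _ (EV.of_h hv hxv)))) (M.inv_mem hn)) hW ((hD _).2 k1)
    (smul_ne_zero (by rw [f_self_Λ X.Λ₁]; exact mul_ne_zero X.two hx0) hv0) (y₀ := e - n⁻¹ e)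
    (mem_perp'.2 fun u hu => by rw [← h10 n hn, n2 u hu, sub_self, f_zero_left]) (fun h => ?_)
    fun z hz => ?_
  · have j1 := h6 _ h
    rw [← h10 n hn, n3, hxe] at j1
    exact one_ne_zero j1
  · have j1 := h4 (-x) z hz
    rw [← h8 x hxv, h_neg_Λ X.Λ₀, hsx, f_neg_right, hz x hx, neg_zero, zero_mul, add_zero,
      zero_smul, sub_zero] at j1
    have j2 : (resHom F (EV.of_h hv hxv).equiv)⁻¹ z - z ∈ W := by
      convert W.add_mem j1 (W.smul_mem (P.f z (a₀ • v)) (W.neg_mem hx)) using 1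
      abel
    rw [comm_apply_of_flag n1 n2 (h9 x hxv k1) hz j2, resHom_apply, EV.equiv_apply,
      h3 x hxv _ _ (n1 z hz), h10 n hn]
    abel

theorem E_le_of_orth {v : V} (hv : P₁.Sing v) (hv0 : v ≠ 0) {W : Submodule F V}
    (hE : Extr (orb P₁ M) (kline F K v) W) (h0 : kline F K v ⊓ W ≠ ⊥)
    (ho : ∀ x ∈ W, P₁.f x v = 0) : P.E ≤ M := by
  obtain ⟨v', x, k1, k2, k3, k4, k5, k6, k7⟩ := X.orth_data hv hv0 hE h0 ho
  exact X.E_le_of_star' (X.star_of_orth_data hE.right k1 k2 k3 k4 k5 k6 k7) hE h0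

end C3T

end Cfsg.Agent.H77
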