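import Cfsg.Agent.H96.D4Defs

/-!
Automorphisms of the subgroup `Q = q^{1+8}` of the Sylow subgroup of `³D₄(q)`: semilinearity and
rigidity of the reflection `wa`.
-/

set_option autoImplicit false

namespace Cfsg.Agent.H77.D4Aq

open Cfsg.Agent.H97 Cfsg.Agent.H96.VB Cfsg.Agent.H96.CP Cfsg.Agent.H96.DF Subgroup
open scoped commutatorElement

universe u

variable {F K : Type u} [Field F] [Field K] [Algebra F K] {C : Tri F K}

variable (C) in
/-- a lift of a vector -/
def lv (v : V F K) : U C := ⟨0, v.2.2.2, v.2.2.1, v.2.1, v.1, 0⟩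

theorem lv_mem (v : V F K) : lv C v ∈ Q C := rfl

theorem br_lv (v : V F K) : br (lv C v) = v := rfl

theorem xz_mem (z : F) : xz C z ∈ Q C := rfl

theorem xz_memZ (z : F) : xz C z ∈ Z C := ⟨rfl, rfl, rfl, rfl, rfl⟩

theorem br_xz (z : F) : br (xz C z) = 0 := rfl

theorem xz_add (z z' : F) : xz C (z + z') = xz C z * xz C z' := by
  ext <;> simp [xz]

theorem xz_inj {z z' : F} (h : xz C z = xz C z') : z = z' := congrArg U.z h

theorem eq_xz {g : U C} (h : g ∈ Z C) : g = xz C g.z := by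
  obtain ⟨h1, h2, h3, h4, h5⟩ := h
  ext <;> simp [xz, *]

theorem xz_comm (z : F) (g : U C) : xz C z * g = g * xz C z := by
  ext <;> simp [xz] <;> ring

theorem mul_xz_z (g : U C) (z : F) : (g * xz C z).z = g.z + z := by simp [xz]

theorem br_mul_xz (g : U C) (z : F) : br (g * xz C z) = br g := by simp [xz, br]

theorem eq_of_br {g h : U C} (hg : g ∈ Q C) (hh : h ∈ Q C) (e : br g = br h) :
    g = h * xz C (g.z - h.z) := by
  have h1 := mem_Q.1 hg
  have h2 := mem_Q.1 hh
  simp only [br, Prod.mk.injEq] at e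
  obtain ⟨e1, e2, e3, e4⟩ := e
  ext <;> simp [xz, *]

theorem om_add (v w w' : V F K) : om C v (w + w') = om C v w + om C v w' := by
  simp only [om, Prod.fst_add, Prod.snd_add, mul_add, map_add]; ring

theorem om_smul (c : F) (v w : V F K) : om C v (c • w) = c * om C v w := by
  simp only [om, Prod.smul_fst, Prod.smul_snd, mul_smul_comm, map_smul, smul_eq_mul]; ring

theorem add_om (v v' w : V F K) : om C (v + v') w = om C v w + om C v' w := by
  simp only [om, Prod.fst_add, Prod.snd_add, add_mul, map_add]; ring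

theorem smul_om (c : F) (v w : V F K) : om C (c • v) w = c * om C v w := by
  simp only [om, Prod.smul_fst, Prod.smul_snd, smul_mul_assoc, map_smul, smul_eq_mul]; ring

variable (C) in
/-- the commutator form as a bilinear map -/
def omL : V F K →ₗ[F] V F K →ₗ[F] F :=
  LinearMap.mk₂ F (om C) add_om smul_om om_add om_smul

theorem om_nd [Finite K] {v : V F K} (h : ∀ w, om C v w = 0) : v = 0 := by
  have h1 := h (0, 0, 0, 1)
  have h2 := h (1, 0, 0, 0)
  have h3 : v.2.1 = 0 := C.T_nd fun b => by simpa [om] using h (0, 0, b, 0)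
  have h4 : v.2.2.1 = 0 := C.T_nd fun b => by simpa [om] using h (0, b, 0, 0)
  simp only [om, mul_zero, mul_one, map_zero, sub_zero, add_zero, zero_sub, neg_eq_zero] at h1 h2
  exact Prod.ext h1 (Prod.ext h3 (Prod.ext h4 h2))

theorem om_inj [Finite K] {v v' : V F K} (h : ∀ w, om C v w = om C v' w) : v = v' :=
  sub_eq_zero.1 (om_nd fun w => by
    change omL C (v - v') w = 0
    rw [map_sub, LinearMap.sub_apply]
    exact sub_eq_zero.2 (h w))

theorem om_rep [Finite K] (f : V F K →ₗ[F] F) : ∃ e, ∀ v, f v = om C e v := by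
  haveI : Finite F := Finite.of_injective _ (algebraMap F K).injective
  have hi : Function.Injective (omL C) := fun v v' h => om_inj fun w => LinearMap.congr_fun h w
  obtain ⟨e, he⟩ := (LinearMap.injective_iff_surjective_of_finrank_eq_finrank
    (Subspace.dual_finrank_eq (K := F) (V := V F K)).symm).1 hi f
  exact ⟨e, fun v => (LinearMap.congr_fun he v).symm⟩

theorem om_wV (v w : V F K) : om C (wV v) (wV w) = om C v w := by
  simp only [om, wV_apply, neg_mul, mul_neg, map_neg]; ring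

theorem comm_lv (v w : V F K) : ⁅lv C v, lv C w⁆ = xz C (om C v w) := comm_Q (lv_mem v) (lv_mem w)

theorem conj_Q {e g : U C} (he : e ∈ Q C) (hg : g ∈ Q C) :
    e * g * e⁻¹ = g * xz C (om C (br e) (br g)) := by
  rw [← xz_comm, ← comm_Q he hg, commutatorElement_def]; group

/-- The action on `V`. -/
noncomputable def act (α : MulAut (Q C)) (v : V F K) : V F K := br (ext α (lv C v))

theorem ext_xz (h : ChS C) (α : MulAut (Q C)) (z : F) : ext α (xz C z) = xz C (ext α (xz C z)).z :=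
  eq_xz (h.qz.2 α _ (xz_mem z) (xz_memZ z))

theorem ac_act (h : ChS C) (α : MulAut (Q C)) : Ac α (act α) := fun g hg => by
  conv_lhs => rw [eq_of_br hg (lv_mem (br g)) rfl, ext_map_mul α (lv_mem _) (xz_mem _), ext_xz h,
    br_mul_xz]
  rfl

theorem act_add (h : ChS C) (α : MulAut (Q C)) (v w : V F K) :
    act α (v + w) = act α v + act α w := by
  have := ac_act h α _ (mul_mem (lv_mem v) (lv_mem w))
  rw [br_mul (lv_mem v), br_lv, br_lv, ext_map_mul α (lv_mem v) (lv_mem w),
    br_mul (ext_mem α (lv_mem v))] at this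
  exact this.symm

theorem act_inv (h : ChS C) (α : MulAut (Q C)) (v : V F K) : act α⁻¹ (act α v) = v := by
  rw [act.eq_1 α, ← ac_act h α⁻¹ _ (ext_mem α (lv_mem v)), ext_inv_ext, br_lv]

/-- **AQ1** -/
theorem aq1 [Finite K] (h : ChS C) : AQ1Stmt C := by
  intro α
  haveI : Finite F := Finite.of_injective _ (algebraMap F K).injective
  let f : V F K ≃+ V F K :=
    { toFun := act α
      invFun := act α⁻¹
      left_inv := act_inv h α
      right_inv := fun v => by simpa using act_inv h α⁻¹ v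
      map_add' := act_add h α }
  let ψ : F → F := fun z => (ext α (xz C z)).z
  have hψ : ∀ z, ext α (xz C z) = xz C (ψ z) := ext_xz h α
  have ψadd : ∀ z z', ψ (z + z') = ψ z + ψ z' := fun z z' => xz_inj (C := C) (by
    rw [← hψ, xz_add, ext_map_mul α (xz_mem z) (xz_mem z'), hψ, hψ, xz_add])
  have ψinj : Function.Injective ψ := fun z z' e =>
    xz_inj (C := C) (ext_injective α (by rw [hψ, hψ, e]))
  have ψ0 : ψ 0 = 0 := by
    have := ψadd 0 0
    rw [add_zero] at this
    exact left_eq_add.1 this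
  have hom : ∀ v w, om C (f v) (f w) = ψ (om C v w) := fun v w => xz_inj (C := C) (by
    rw [← hψ, ← comm_lv v w, ext_map_comm α (lv_mem v) (lv_mem w),
      comm_Q (ext_mem α (lv_mem v)) (ext_mem α (lv_mem w))]
    rfl)
  have key : ∀ (c : F) v r, om C (f v) r = 0 → om C (f (c • v)) r = 0 := fun c v r e => by
    obtain ⟨w, rfl⟩ := f.surjective r
    rw [hom] at e ⊢
    rw [smul_om, ψinj (e.trans ψ0.symm), mul_zero, ψ0]
  have m0 : ψ 1 ≠ 0 := fun e => one_ne_zero (ψinj (e.trans ψ0.symm))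
  have ψmul : ∀ c s, ψ 1 * ψ (c * s) = ψ c * ψ s := fun c s => by
    have e1 : om C (e0 : V F K) e3 = 1 := by simp [om, e0, e3]
    have := key c e0 (ψ 1 • f (s • e3) + (-ψ s) • f e3) (by
      rw [om_add, om_smul, om_smul, hom, hom, om_smul, e1, mul_one]; ring)
    rw [om_add, om_smul, om_smul, hom, hom, om_smul, smul_om, e1, mul_one, mul_comm s c] at this
    linear_combination this
  let φ0 : F →+* F :=
    { toFun := fun c => (ψ 1)⁻¹ * ψ c
      map_one' := inv_mul_cancel₀ m0
      map_zero' := by rw [ψ0, mul_zero]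
      map_add' := fun c d => by rw [ψadd, mul_add]
      map_mul' := fun c d => by
        field_simp
        exact ψmul c d }
  let φ : RingAut F := RingEquiv.ofBijective φ0 (Finite.injective_iff_bijective.1 φ0.injective)
  have hφ : ∀ c, φ c = (ψ 1)⁻¹ * ψ c := fun _ => rfl
  refine ⟨φ, ψ 1, f, m0, fun z => by rw [hφ, mul_inv_cancel_left₀ m0, hψ], fun c v => ?_,
    ac_act h α⟩
  refine om_inj (C := C) fun r => ?_
  obtain ⟨w, rfl⟩ := f.surjective r
  rw [smul_om, hom, hom, smul_om, hφ, mul_assoc, ← ψmul, inv_mul_cancel_left₀ m0]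

theorem exists_N_ne [Finite K] {c : F} (h0 : c ≠ 0) (h1 : c ≠ 1) : ∃ l : Kˣ, C.N l ≠ 1 := by
  by_contra! hN
  have hN' : ∀ l : K, l ≠ 0 → C.N l = 1 := fun l hl => hN (Units.mk0 l hl)
  obtain ⟨t, ht⟩ := C.exists_not_fix
  have t0 : t ≠ 0 := by
    rintro rfl
    exact ht (map_zero _)
  have k : ∀ d : F, d ≠ 0 → d * C.T t + d ^ 2 * C.T (C.sh t) + 1 = 0 := fun d hd => by
    have e1 : 1 + d • t ≠ 0 := fun e => ht (by
      have e2 : t = algebraMap F K (-d⁻¹) := by
        rw [← one_smul F t, ← inv_mul_cancel₀ hd, mul_smul, eq_neg_of_add_eq_zero_right e,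
          Algebra.algebraMap_eq_smul_one, smul_neg, neg_smul]
      rw [e2, AlgEquiv.commutes])
    have := C.N_add 1 (d • t)
    rw [hN' _ e1, hN' _ (smul_ne_zero hd t0), C.N_one, C.sh_one, one_mul, one_mul, C.sh_smul,
      map_smul, map_smul, smul_eq_mul, smul_eq_mul] at this
    linear_combination -this
  have c3 : c ^ 3 = 1 := by rw [← C.N_alg, hN' _ (by simpa using h0)]
  have c2 : c ^ 2 + c + 1 = 0 :=
    mul_left_cancel₀ (sub_ne_zero.2 h1) (by linear_combination c3)
  have k1 := k 1 one_ne_zero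
  have k2 := k c h0
  have k3 := k (c ^ 2) (pow_ne_zero 2 h0)
  have three : (3 : F) = 0 := by
    linear_combination k1 + k2 + k3 - (C.T t + C.T (C.sh t)) * c2 - c * C.T (C.sh t) * c3
  have : (c - 1) ^ 2 = 0 := by linear_combination c2 - c * three
  exact h1 (sub_eq_zero.1 (pow_eq_zero_iff two_ne_zero |>.1 this))

theorem exists_res {G : Type u} [Group G] {N : Subgroup G} (β : MulAut G) (h1 : ∀ g ∈ N, β g ∈ N)
    (h2 : ∀ g ∈ N, β⁻¹ g ∈ N) : ∃ α : MulAut N, ∀ x ∈ N, ext α x = β x :=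
  ⟨{ toFun := fun x => ⟨β x, h1 x x.2⟩
     invFun := fun x => ⟨β⁻¹ x, h2 x x.2⟩
     left_inv := fun x => Subtype.ext (by simp)
     right_inv := fun x => Subtype.ext (by simp)
     map_mul' := fun x y => Subtype.ext (by simp) }, fun x hx => by rw [ext_apply _ hx]; rfl⟩

theorem wa_mul_xz {g : U C} (hg : g ∈ Q C) (z : F) : wa (g * xz C z) = wa g * xz C z := by
  rw [wa_mul hg (xz_mem z)]
  congr 1
  ext <;> simp [wa, xz]

theorem wa_tor (l : Kˣ) (m : Fˣ) {g : U C} (hg : g ∈ Q C) :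
    wa (tor C (l, m) g) = tor C (l⁻¹, Nu C l * m) (wa g) := by
  obtain ⟨_, _, _, _, _, _⟩ := g
  obtain rfl := mem_Q.1 hg
  have h0 : (l : K) ≠ 0 := l.ne_zero
  have h1 : C.σ l ≠ 0 := by simp
  have h2 : C.σ (C.σ l) ≠ 0 := by simp
  simp only [tor_apply, wa, tmap, Units.val_inv_eq_inv_val, Units.val_mul, Nu_val]
  apply U.ext' <;> simp only [Tri.sh, Tri.cr, Algebra.smul_def, map_add, map_sub, map_mul, map_neg,
    map_pow, map_inv₀, Tri.hT, Tri.hN, Tri.σ3, AlgEquiv.commutes] <;> field_simp <;> ring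

theorem tor_xz (c : Kˣ × Fˣ) (z : F) : tor C c (xz C z) = xz C (C.N c.1 * (c.2 : F) ^ 2 * z) := by
  rw [tor_apply]
  ext <;> simp [tmap, xz]

/-- **RIGQ** -/
theorem rigQ [Finite K] {p : ℕ} (h : ChS C) : RigQStmt C p := by
  rintro B A hB hL hK ⟨n, hn, hw⟩
  haveI : Finite F := Finite.of_injective _ (algebraMap F K).injective
  have nz : ∀ z, ext n (xz C z) = xz C z := fun z => by
    have e : om C ((z, 0, 0, 0) : V F K) e3 = z := by simp [om, e3]
    conv_lhs => rw [← e, ← comm_lv, ext_map_comm n (lv_mem _) (lv_mem _),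
      comm_Q (ext_mem n (lv_mem _)) (ext_mem n (lv_mem _)), hw _ (lv_mem _), hw _ (lv_mem _),
      om_wV, br_lv, br_lv, e]
  let f : V F K → F := fun v => (ext n (lv C v)).z - (wa (lv C v)).z
  have hf : ∀ g ∈ Q C, ext n g = wa g * xz C (f (br g)) := fun g hg => by
    have e1 : ext n (lv C (br g)) = wa (lv C (br g)) * xz C (f (br g)) :=
      eq_of_br (ext_mem n (lv_mem _)) (wa_mem _) (hw _ (lv_mem _))
    conv_lhs => rw [eq_of_br hg (lv_mem (br g)) rfl, ext_map_mul n (lv_mem _) (xz_mem _), nz, e1,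
      mul_assoc, ← xz_comm, ← mul_assoc, ← wa_mul_xz (lv_mem _), ← eq_of_br hg (lv_mem (br g)) rfl]
  have fadd : ∀ v w, f (v + w) = f v + f w := fun v w => by
    have e := hf _ (mul_mem (lv_mem v) (lv_mem w))
    rw [ext_map_mul n (lv_mem v) (lv_mem w), hf _ (lv_mem v), hf _ (lv_mem w), br_mul (lv_mem v),
      br_lv, br_lv, wa_mul (lv_mem v) (lv_mem w), mul_assoc, ← mul_assoc (xz C _), xz_comm,
      mul_assoc, ← xz_add, ← mul_assoc] at e
    exact (xz_inj (mul_left_cancel e)).symm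
  have f0 : f 0 = 0 := by
    have := fadd 0 0
    rw [add_zero] at this
    exact left_eq_add.1 this
  have tr : ∀ c, ∃ τ ∈ A, ∀ x ∈ Q C, ext τ x = tor C c x := fun c => by
    obtain ⟨τ, hτ⟩ := exists_res (tor C c) (h.q _) (h.q _)
    exact ⟨τ, hL.res _ (hB c) τ hτ, hτ⟩
  have key : ∀ (l : Kˣ) (m : Fˣ), ∃ e, ∀ v,
      f (torV C (l, m) v) = C.N l * (m : F) ^ 2 * (f v + om C e v) := fun l m => by
    obtain ⟨τ, hτ, eτ⟩ := tr (l, m)
    obtain ⟨τ', hτ', eτ'⟩ := tr (l⁻¹, Nu C l * m)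
    have e1 : ∀ g ∈ Q C, tor C (l⁻¹, Nu C l * m) (ext n (ext (n⁻¹ * τ'⁻¹ * n * τ) g)) =
        ext n (tor C (l, m) g) := fun g hg => by
      rw [← eτ' _ (ext_mem n (ext_mem _ hg)), ← eτ g hg, ← ext_mul, ← ext_mul, ← ext_mul]
      congr 1
      group
    obtain ⟨e, he, ee⟩ := hK (n⁻¹ * τ'⁻¹ * n * τ)
      (mul_mem (mul_mem (mul_mem (inv_mem hn) (inv_mem hτ')) hn) hτ) fun g hg => by
        have := congrArg br (e1 g hg)
        rw [br_tor, hw _ (ext_mem _ hg), hw _ (h.q _ g hg), ← br_wa, ← br_wa, wa_tor l m hg,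
          br_tor, br_wa, br_wa] at this
        exact wV.injective ((torV C _).injective this)
    refine ⟨br e, fun v => ?_⟩
    have := e1 _ (lv_mem v)
    rw [ee _ (lv_mem v), conj_Q he (lv_mem v), ext_map_mul n (lv_mem v) (xz_mem _), nz,
      hf _ (lv_mem v), hf _ (h.q _ _ (lv_mem v)), wa_tor l m (lv_mem v), mul_assoc, ← xz_add,
      map_mul, tor_xz, br_tor, br_lv] at this
    rw [← xz_inj (mul_left_cancel this)]
    congr 1
    have e2 : C.N ((l⁻¹ : Kˣ) : K) * C.N l = 1 := by rw [← C.N_mul, Units.inv_mul, C.N_one]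
    simp only [Units.val_mul, Nu_val]
    linear_combination (C.N l * (m : F) ^ 2) * e2
  have lin : ∀ (l : Kˣ) (m : Fˣ), C.N l * (m : F) ^ 2 ≠ 1 → ∀ v, torV C (l, m) v = v → ∀ c : F,
      f (c • v) = c * f v := fun l m hne v hv c => by
    obtain ⟨e, he⟩ := key l m
    have e1 := he v
    have e2 := he (c • v)
    rw [map_smul, hv, om_smul] at e2
    rw [hv] at e1
    apply mul_left_cancel₀ (sub_ne_zero.2 hne)
    linear_combination c * e1 - e2
  have fsmul : ∀ (c : F) v, f (c • v) = c * f v := fun c v => by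
    by_cases c0 : c = 0
    · rw [c0, zero_smul, f0, zero_mul]
    by_cases c1 : c = 1
    · rw [c1, one_smul, one_mul]
    obtain ⟨l, hl⟩ := exists_N_ne (C := C) c0 c1
    have l0 : C.N l ≠ 0 := by simp
    obtain ⟨a, x, y, w⟩ := v
    have e : ((a, x, y, w) : V F K) = (a, 0, 0, 0) + (0, x, 0, 0) + (0, 0, y, 0) + (0, 0, 0, w) := by
      simp
    have ci : c⁻¹ ≠ 1 := by simpa using c1
    have cK : algebraMap F K c ≠ 0 := by simpa using c0
    have s1 := lin l (Nu C l)⁻¹ (by
      simp only [Units.val_inv_eq_inv_val, Nu_val]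
      intro e
      field_simp at e
      exact hl e.symm) (a, 0, 0, 0) (by simp [torV_apply, vmap, l0]) c
    have s2 := lin (Units.mk0 _ cK) (Units.mk0 c c0 ^ 2)⁻¹ (by
      simp only [Units.val_inv_eq_inv_val, Units.val_mk0, Units.val_pow_eq_pow_val, C.N_alg]
      intro e
      field_simp at e
      exact c1 e.symm) (0, x, 0, 0) (by
      simp only [torV_apply, vmap, Units.val_inv_eq_inv_val, Units.val_mk0,
        Units.val_pow_eq_pow_val, Tri.sh, AlgEquiv.commutes, mul_zero, smul_zero, Algebra.smul_def,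
        map_inv₀, map_pow]
      congr 2
      field_simp) c
    have s3 := lin (Units.mk0 _ cK) (Units.mk0 c c0)⁻¹ (by
      simp only [Units.val_inv_eq_inv_val, Units.val_mk0, C.N_alg]
      intro e
      field_simp at e
      exact c1 e) (0, 0, y, 0) (by
      simp only [torV_apply, vmap, Units.val_inv_eq_inv_val, Units.val_mk0, mul_zero, smul_zero,
        Algebra.smul_def, map_inv₀]
      congr 3
      field_simp) c
    have s4 := lin l 1 (by simpa using hl) (0, 0, 0, w) (by simp [torV_apply, vmap]) c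
    rw [e, smul_add, smul_add, smul_add, fadd, fadd, fadd, fadd, fadd, fadd, s1, s2, s3, s4]
    ring
  obtain ⟨e, he⟩ := om_rep (C := C) ⟨⟨f, fadd⟩, fsmul⟩
  obtain ⟨β, hβ⟩ := exists_cj (P := Q C) (s := (lv C e)⁻¹) (le_normalizer (inv_mem (lv_mem e)))
  refine ⟨n * β, mul_mem hn (hL.cj β _ hβ), fun g hg => ?_⟩
  have e1 : br (lv C e)⁻¹ = -e := by
    have := br_mul (h := lv C e) (inv_mem (lv_mem (C := C) e))
    rw [inv_mul_cancel, br_lv] at this
    exact eq_neg_of_add_eq_zero_left this.symm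
  have e2 : f (br g) = om C e (br g) := he _
  rw [ext_mul, hβ g hg, conj_Q (inv_mem (lv_mem e)) hg, ext_map_mul n hg (xz_mem _), nz, hf g hg,
    mul_assoc, ← xz_add, e1, e2, ← add_om, add_neg_cancel]
  have : xz C (om C 0 (br g)) = 1 := by ext <;> simp [xz, om]
  rw [this, mul_one]

end Cfsg.Agent.H77.D4Aq
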