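import Cfsg.Agent.H77.FPKit
import Cfsg.Agent.H77.OCSix
import Cfsg.Agent.H15.OCLinB
import Cfsg.Agent.H83.FStarP
import Cfsg.Agent.H28.PSL2Small

/-! Project FPF: a linear factor and its normalizer. -/

set_option autoImplicit false
set_option linter.unusedSectionVars false

namespace Cfsg.Agent.H77.FP

open Subgroup Cfsg Cfsg.Agent.H83 Cfsg.Agent.H77.OC Cfsg.Agent.H7.FB Matrix
open Cfsg.Agent.H53.OC (factTwo normal_V)
open Cfsg.Agent.H15.OCLin hiding LD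
open scoped commutatorElement MatrixGroups

universe u

variable {P : Type u} [Group P] {F : Type} [Field F] {T M X Y : Subgroup P}
  {ρ : X →* SL(2, F)} {π : P → Fin 2 → F}

local notation:max "Vc " P:max => OZ 2 (pCore 2 P)

theorem fac_nX (hF : H85.FP.Fac T X Y) : X ⊔ Y ≤ normalizer (X : Set P) :=
  sup_le le_normalizer (le_normalizer_iff_commutator_le_left.2 (hF.comm.trans hF.le))

theorem fac_subn (hF : H85.FP.Fac T X Y) : SubnIn X ⊤ :=
  (SubnIn.of_norm le_sup_left (fac_nX hF)).trans (SubnIn.of_norm le_top (le_nrm hF.nrm _))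

theorem UV (X : Subgroup P) : ⁅Vc P, X⁆ ≤ Vc P :=
  haveI := normal_V (P := P)
  commutator_le_left _ _

theorem fac_split (hF : H85.FP.Fac T X Y) {v : P} (hv : v ∈ Vc P) :
    ∃ w ∈ ⁅Vc P, X⁆, ∃ c ∈ Vc P ⊓ centralizer (X : Set P), w * c = v :=
  (mem_sup_left_norm' (le_norm_of_le_cent ((UV X).trans ((EA_le_cent (EA_OZ _)).trans
    (cent_anti inf_le_left))))).1 (hF.dec hv)

theorem fac_nU (hF : H85.FP.Fac T X Y) (g : P) :
    X ⊔ Y ≤ normalizer (cj g ⁅Vc P, X⁆ : Set P) := by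
  rw [← cj_normalizer, ← cj_eq_self (le_nrm hF.nrm ⊤ (mem_top g))]
  exact cj_mono _ (le_norm_comm (le_nrm normal_V _) (fac_nX hF))

theorem iter_eq [CharP F 2] {g : P} {k : ℕ} (hk : g ^ 2 ^ k = 1) (S : P → Prop) (φ : P → F)
    {a c : F} (hS : ∀ v, S v → S (g * v * g⁻¹)) (h : ∀ v, S v → a * φ v = c * φ (g * v * g⁻¹))
    {w : P} (hw : S w) (h0 : φ w ≠ 0) : a = c := by
  have key : ∀ n : ℕ, S (g ^ n * w * (g ^ n)⁻¹) ∧
      a ^ n * φ w = c ^ n * φ (g ^ n * w * (g ^ n)⁻¹) := fun n => by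
    induction n with
    | zero => simpa using hw
    | succ n ih =>
      have : g ^ (n + 1) * w * (g ^ (n + 1))⁻¹ = g * (g ^ n * w * (g ^ n)⁻¹) * g⁻¹ := by
        rw [pow_succ' g]; group
      rw [this]
      exact ⟨hS _ ih.1, by rw [pow_succ' a, mul_assoc, ih.2, mul_left_comm, h _ ih.1]; ring⟩
  have h1 := (key (2 ^ k)).2
  rw [hk, one_mul, inv_one, mul_one] at h1
  have : (a - c) ^ 2 ^ k = 0 := by rw [sub_pow_char_pow, mul_right_cancel₀ h0 h1, sub_self]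
  exact sub_eq_zero.1 (pow_eq_zero_iff (by positivity) |>.1 this)

/-- The natural module with coordinates adapted to `T`. -/
structure LD (T M X Y : Subgroup P) (ρ : X →* SL(2, F)) (π : P → Fin 2 → F) : Prop
    extends PD X ρ π where
  pu : H85.FP.Pushed T M
  fac : H85.FP.Fac T X Y
  ker : ∀ d : X, ρ d = 1 ↔ (d : P) ∈ pCore 2 P
  memT : ∀ d : X, (d : P) ∈ T ↔ ∃ c, ρ d = up c

variable [Finite P]

theorem pd_ker (h : PD X ρ π) (hP : H85.FP.Pushed T M) (hF : H85.FP.Fac T X Y) (d : X) :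
    ρ d = 1 ↔ (d : P) ∈ pCore 2 P := by
  have := normal_V (P := P)
  constructor
  · intro hd
    have h1 : IsPGroup 2 (ρ.ker.map X.subtype) := isPGroup_of_coprime_eq_one (by
      rintro _ ⟨x, hx, rfl⟩ hc
      refine pushed_eq_one hP hc (mem_cent_of_stable (A := Vc P ⊓ centralizer (X : Set P)) hc
        ((EA_isPGroup (EA_OZ _)).to_le inf_le_left) (fun y hy => (hy.2 _ x.2).symm) fun v hv => ?_)
      have h2 : ⁅v, (x : P)⁆ ∈ Vc P := UV X (commutator_mem_commutator hv x.2)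
      refine ⟨h2, (h.zero _ h2).1 ?_⟩
      rw [h.comm x hv, show ρ x = 1 from hx, act_one, sub_self])
    exact (pCoreOf_top (p := 2) (G := P) ▸ (fac_subn hF).pCoreOf_le :
      pCoreOf 2 X ≤ pCore 2 P) (le_pCoreOf (map_subtype_le _) le_norm_map_subtype h1 ⟨d, hd, rfl⟩)
  · intro hd
    refine act_ext fun x => ?_
    obtain ⟨v, hv, rfl⟩ := h.onto x
    rw [act_one, h.fix hv (le_cent_OZ _ hd v hv).symm]

theorem exists_LD [Fintype F] {n : ℕ} (hc : Fintype.card F = 2 ^ n) (hn : 1 ≤ n)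
    (hP : H85.FP.Pushed T M) (hF : H85.FP.Fac T X Y)
    (hA : ActsAsSL2OnSection F ⊤ X ⁅Vc P, X⁆ (⁅Vc P, X⁆ ⊓ centralizer (X : Set P))) :
    ∃ (ρ : X →* SL(2, F)) (π : P → Fin 2 → F), LD T M X Y ρ π := by
  have := normal_V (P := P)
  have : CharP F 2 := charP_of_card_eq_prime_pow hc
  obtain ⟨ρ, π, h1, h2, h3, h4, h5⟩ := exists_pi (fun v hv w hw => hab hv hw) (fun v hv => by
    obtain ⟨w, hw, c, hc, rfl⟩ := fac_split hF hv
    exact ⟨w, hw, by simpa using hc.2⟩) hA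
  have h : PD X ρ π := ⟨h1, h2, h3, h4, h5⟩
  have hS : IsSylowIn 2 (((T ⊓ X).subgroupOf X).map ρ) ⊤ :=
    map_top_of_surjective ρ h1 ▸ (isSylowIn_top (hP.syl.inf_subnIn (fac_subn hF)).toSylow).map ρ
  have hS' : IsSylowIn 2 (St (![1, 0] : Fin 2 → F)) ⊤ := by
    refine isSylowIn_of_not_dvd_relIndex le_top (isPGroup_iff.2 fun A hA =>
      ⟨1, pow_eq_one_of_fix (u := ![1, 0]) (by simp) hA⟩) ?_
    have e := (St (![1, 0] : Fin 2 → F)).card_mul_index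
    rw [card_St, H28.card_SL2 rfl] at e
    rw [relIndex_top_right, Nat.eq_of_mul_eq_mul_left Fintype.card_pos e, hc, ← pow_mul]
    obtain ⟨m, hm⟩ : 2 ∣ 2 ^ (n * 2) := dvd_pow_self 2 (by omega)
    have : 0 < 2 ^ (n * 2) := by positivity
    omega
  obtain ⟨B, -, hB⟩ := hS.exists_conj hS'
  have h' := h.conj B
  refine ⟨_, _, h', hP, hF, pd_ker h' hP hF, fun d => ⟨fun hd => eq_up (hB.le (conj_mem_cj
    (mem_map_of_mem ρ (show d ∈ (T ⊓ X).subgroupOf X from ⟨hd, d.2⟩)))), fun ⟨c, e⟩ => ?_⟩⟩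
  obtain ⟨_, ⟨r, hr, rfl⟩, e'⟩ := hB.ge (up_fix c)
  have := min_E_le hP.toMin ((pd_ker h' hP hF (r⁻¹ * d)).1 (by
    rw [map_mul, map_inv, e, ← e']; exact inv_mul_cancel _))
  simpa using T.mul_mem hr.1 this

namespace LD

variable (h : LD T M X Y ρ π)
include h

theorem exT (c : F) : ∃ a : X, (a : P) ∈ T ∧ ρ a = up c :=
  (h.surj (up c)).imp fun a e => ⟨(h.memT a).2 ⟨c, e⟩, e⟩

theorem ontoU (x : Fin 2 → F) : ∃ u ∈ ⁅Vc P, X⁆, π u = x := by
  obtain ⟨v, hv, rfl⟩ := h.onto x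
  obtain ⟨w, hw, c, hc, rfl⟩ := fac_split h.fac hv
  exact ⟨w, hw, by rw [h.add _ (UV X hw) _ hc.1, (h.zero c hc.1).2 hc.2, add_zero]⟩

theorem cent_le {g : P} (hg : g ∈ X) (h1 : g ∈ centralizer ((⁅Vc P, X⁆ : Subgroup P) : Set P)) :
    g ∈ pCore 2 P := by
  refine (h.ker ⟨g, hg⟩).1 (act_ext fun x => ?_)
  obtain ⟨u, hu, rfl⟩ := h.ontoU x
  rw [act_one, h.toPD.fix (UV X hu) (h1 u hu).symm]

theorem eq_mul {v w : P} (hv : v ∈ Vc P) (hw : w ∈ Vc P) (e : π v = π w) :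
    w⁻¹ * v ∈ centralizer (X : Set P) := (h.zero _ (mul_mem (inv_mem hw) hv)).1 (by
  rw [h.add _ (inv_mem hw) _ hv, h.toPD.inv hw, e, neg_add_cancel])

theorem gen {H : Subgroup P} (h1 : pCore 2 P ≤ H) (h2 : (H.subgroupOf X).map ρ = ⊤) : X ≤ H :=
  fun g hg => by
    obtain ⟨y, hy, e⟩ := h2.ge (mem_top (ρ ⟨g, hg⟩))
    have := h1 ((h.ker (y⁻¹ * ⟨g, hg⟩)).1 (by rw [map_mul, map_inv, e, inv_mul_cancel]))
    simpa using H.mul_mem hy this

/-- A conjugate of `U` is `U` or is centralized by `O²(X)`. -/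
theorem di (g : P) : g ∈ normalizer ((⁅Vc P, X⁆ : Subgroup P) : Set P) ∨
    resOf 2 X ≤ centralizer (cj g ⁅Vc P, X⁆ : Set P) := by
  have n1 := le_sup_left.trans (fac_nU h.fac g)
  have WV : cj g ⁅Vc P, X⁆ ≤ Vc P := cj_le_of_norm (UV X) (le_nrm normal_V ⊤ (mem_top g))
  refine or_iff_not_imp_right.2 fun h1 => cj_eq_self_iff.1 (eq_of_le_of_card_ge ?_
    (card_cj _ _).le).symm
  obtain ⟨w, hw, h0⟩ : ∃ w ∈ cj g ⁅Vc P, X⁆, π w ≠ 0 := by
    by_contra hh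
    push Not at hh
    exact h1 ((resOf_le X).trans (le_centralizer_iff.1 fun w hw => (h.zero w (WV hw)).1 (hh w hw)))
  refine commutator_le.2 fun v hv x hx => ?_
  obtain ⟨w', hw', e⟩ : ∃ w' ∈ cj g ⁅Vc P, X⁆, π v = π w' := by
    by_cases e : π v = 0
    · exact ⟨1, one_mem _, e.trans h.toPD.one.symm⟩
    obtain ⟨A, hA⟩ := exists_act h0 e
    obtain ⟨d, rfl⟩ := h.surj A
    exact ⟨_, conj_mem n1 d.2 hw, by rw [h.eqv d w (WV hw), hA]⟩
  rw [← mul_inv_cancel_left w' v,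
    H4.commutatorElement_mul_of_mem_centralizer (h.eq_mul hv (WV hw') e) hx]
  exact comm_le_left n1 (commutator_mem_commutator hw' hx)

variable (hq : ∃ a : F, a ≠ 0 ∧ a ^ 2 ≠ 1) [Finite F]
include hq

theorem map_res : ((resOf 2 X).subgroupOf X).map ρ = ⊤ := by
  obtain ⟨a, h1, h2⟩ := hq
  rw [resOf_subgroupOf, ← resOf_top, map_resOf, map_top_of_surjective ρ h.surj]
  exact resOf_eq_self_of_perfect (SL2.commutator_eq_top h1 h2)

theorem le_of_res {H : Subgroup P} (h1 : pCore 2 P ≤ H) (h2 : resOf 2 X ≤ H) : X ≤ H :=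
  h.gen h1 (top_le_iff.1 ((h.map_res hq).ge.trans (map_mono (comap_mono h2))))

theorem norm_X {g : P} (hg : g ∈ normalizer ((⁅Vc P, X⁆ : Subgroup P) : Set P)) :
    g ∈ normalizer (X : Set P) := by
  have nE : (pCore 2 P).Normal := inferInstance
  refine mem_normalizer_fintype fun x hx => ?_
  simpa using mem_cj.1 (h.le_of_res hq (H := cj g⁻¹ X) (fun y hy => mem_cj.2
    (h.fac.le (nE.conj_mem' _ hy _))) (resOf_le_of_pMod fun d hd => ⟨1, mem_cj.2 (by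
      obtain ⟨r, hr, y, hy, e⟩ := (mem_sup_left_norm (le_sup_right.trans (fac_nX h.fac))).1
        (h.fac.nrm.conj_mem d (mem_sup_left hd) g)
      have yU := le_centralizer_iff.1 h.fac.cy hy
      have h1 : y * y ∈ pCore 2 P := (pushed_cV h.pu).le (cent_anti h.fac.dec (by
        rw [H83.centralizer_sup]
        refine ⟨fun c hc => ?_, mul_mem yU yU⟩
        have e2 : y * c⁻¹ * y⁻¹ ∈ centralizer (X : Set P) :=
          conj_mem (le_norm_cent (fac_nX h.fac)) (mem_sup_right hy) (inv_mem hc.2)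
        have e3 : ⁅c, y⁆ = g * ⁅g⁻¹ * c * g, d⁆ * g⁻¹ :=
          calc _ = c * (y * c⁻¹ * y⁻¹ * r) * r⁻¹ := by group
            _ = ⁅c, r * y⁆ := by rw [← e2 _ hr]; group
            _ = _ := by rw [e]; group
        have e4 : ⁅c, y⁆ ∈ ⁅Vc P, X⁆ := e3 ▸ (mem_normalizer_iff.1 hg _).1
          (commutator_mem_commutator ((normal_V (P := P)).conj_mem' _ hc.1 g) hd)
        have e5 := (mem_OZ.1 (UV X e4)).2.2
        calc _ = ⁅c, y⁆ * (y * ⁅c, y⁆) * y * c := by group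
          _ = ⁅c, y⁆ ^ 2 * (y * y * c) := by rw [← yU _ e4, pow_two]; group
          _ = _ := by rw [e5, one_mul]))
      have e1 : g⁻¹⁻¹ * d ^ 2 ^ 1 * g⁻¹ = r * (y * r * y⁻¹) * (y * y) :=
        calc _ = g * d * g⁻¹ * (g * d * g⁻¹) := by rw [pow_one, pow_two]; group
          _ = _ := by rw [← e]; group
      exact e1 ▸ mul_mem (mul_mem hr (conj_mem (fac_nX h.fac) (mem_sup_right hy) hr))
        (h.fac.le h1))⟩) hx)

end LD

/-- `g` fixes the line. -/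
def FL (π : P → Fin 2 → F) (g : P) : Prop := ∀ v ∈ Vc P, π v 1 = 0 → π (g * v * g⁻¹) = π v

namespace LD

variable (h : LD T M X Y ρ π) {g : P} (hg : g ∈ normalizer (X : Set P))
include h hg

theorem congr {v w : P} (hv : v ∈ Vc P) (hw : w ∈ Vc P) (e : π v = π w) :
    π (g * v * g⁻¹) = π (g * w * g⁻¹) := by
  have nV := normal_V (P := P)
  have h2 := (h.zero _ (nV.conj_mem _ (mul_mem (inv_mem hw) hv) g)).2
    (conj_mem (le_norm_cent le_rfl) hg (h.eq_mul hv hw e))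
  have h3 : g * (w⁻¹ * v) * g⁻¹ = (g * w * g⁻¹)⁻¹ * (g * v * g⁻¹) := by group
  rw [h3, h.add _ (inv_mem (nV.conj_mem _ hw g)) _ (nV.conj_mem _ hv g),
    h.toPD.inv (nV.conj_mem _ hw g)] at h2
  exact (neg_add_eq_zero.1 h2).symm

theorem twist (d : X) {v : P} (hv : v ∈ Vc P) :
    π (g * (d * v * (d : P)⁻¹) * g⁻¹) =
      act (ρ ⟨g * d * g⁻¹, conj_mem le_rfl hg d.2⟩) (π (g * v * g⁻¹)) := by
  rw [← h.eqv _ _ ((normal_V (P := P)).conj_mem _ hv g)]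
  congr 1
  group

theorem conj_comm (d : X) {c : F} (hc : ρ ⟨g * d * g⁻¹, conj_mem le_rfl hg d.2⟩ = up c) {v : P}
    (hv : v ∈ Vc P) : π (g * ⁅v, (d : P)⁆ * g⁻¹) = ![-(c * π (g * v * g⁻¹) 1), 0] := by
  have := h.toPD.comm ⟨g * d * g⁻¹, conj_mem le_rfl hg d.2⟩ ((normal_V (P := P)).conj_mem _ hv g)
  rw [hc, act_up] at this
  rw [conjugate_commutatorElement, this]
  funext i; fin_cases i <;> simp

omit hg in
theorem comm_up {d : X} {c : F} (hc : ρ d = up c) {v : P} (hv : v ∈ Vc P) :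
    π ⁅v, (d : P)⁆ = ![-(c * π v 1), 0] := by
  rw [h.toPD.comm d hv, hc, act_up]
  funext i; fin_cases i <;> simp

theorem cent_of_triv (h1 : ∀ v ∈ Vc P, π (g * v * g⁻¹) = π v) :
    g ∈ centralizer ((⁅Vc P, X⁆ : Subgroup P) : Set P) := by
  have nV := normal_V (P := P)
  have n1 : normalizer (X : Set P) ≤
      normalizer ((Vc P ⊓ centralizer (X : Set P) : Subgroup P) : Set P) :=
    le_norm_inf (le_nrm nV _) (le_norm_cent le_rfl)
  have h2 : ∀ a ∈ normalizer (X : Set P), a ∈ centMod _ (Vc P) _ n1 ↔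
      ∀ v ∈ Vc P, π (a * v * a⁻¹) = π v := fun a ha => by
    rw [mem_centMod, and_iff_right ha]
    refine forall₂_congr fun v hv => ?_
    have h2 : ⁅v, a⁆ ∈ Vc P := UV ⊤ (commutator_mem_commutator hv (mem_top _))
    rw [mem_inf, and_iff_right h2, ← h.zero _ h2, h.toPD.comm' _ hv, sub_eq_zero, eq_comm]
  refine comm_eq_bot_iff.1 (commutator_commutator_eq_bot_of_rotate (H₃ := centMod _ (Vc P) _ n1)
    (comm_eq_bot_iff.2 (le_centralizer_iff.1 (le_trans (commutator_le.2 fun x hx a ha => ?_)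
      (pushed_cV h.pu).ge))) (commutator_eq_bot_iff_le_centralizer.2 ?_)) ((h2 g hg).2 h1)
  · have hx' : a * x * a⁻¹ ∈ X := conj_mem le_rfl ha.1 hx
    have e : ρ ⟨a * x * a⁻¹, hx'⟩ = ρ ⟨x, hx⟩ := act_ext fun y => by
      obtain ⟨v, hv, rfl⟩ := h.onto y
      rw [← (h2 a ha.1).1 ha v hv, ← h.twist ha.1 ⟨x, hx⟩ hv, (h2 a ha.1).1 ha v hv,
        (h2 a ha.1).1 ha _ (nV.conj_mem _ hv x), h.eqv ⟨x, hx⟩ v hv]
    have := (h.ker (⟨x, hx⟩ * ⟨a * x * a⁻¹, hx'⟩⁻¹)).1 (by rw [map_mul, map_inv, e, mul_inv_cancel])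
    simpa [commutatorElement_def, mul_assoc] using this
  · rw [commutator_comm]
    exact (le_centMod.1 le_rfl).2.trans inf_le_right

variable [CharP F 2] (hT : g ∈ T)
include hT

theorem snd (hL : FL π g) {v : P} (hv : v ∈ Vc P) : π (g * v * g⁻¹) 1 = π v 1 := by
  have nV := normal_V (P := P)
  obtain ⟨s, hs, e⟩ := h.exT 1
  obtain ⟨c, hc⟩ := (h.memT ⟨g * s * g⁻¹, conj_mem le_rfl hg s.2⟩).1
    (T.mul_mem (T.mul_mem hT hs) (T.inv_mem hT))
  have key : ∀ v ∈ Vc P, 1 * π v 1 = c * π (g * v * g⁻¹) 1 := fun v hv => by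
    have h4 := hL _ (UV X (commutator_mem_commutator hv s.2)) (by rw [h.comm_up e hv]; rfl)
    rw [h.conj_comm hg s hc hv, h.comm_up e hv] at h4
    exact neg_injective (congrFun h4 0).symm
  obtain ⟨k, hk⟩ := isPGroup_iff.1 h.pu.syl.isPGroup _ hT
  obtain ⟨w, hw, hw1⟩ := h.onto ![0, 1]
  have h9 := iter_eq hk (· ∈ Vc P) (fun v => π v 1) (fun v hv => nV.conj_mem v hv g) key hw
    (by simp [hw1])
  simpa [← h9] using (key v hv).symm

theorem triv (hL : FL π g) {w : P} (hw : w ∈ Vc P) (hw1 : π w = ![0, 1])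
    (hw2 : π (g * w * g⁻¹) = ![0, 1]) {v : P} (hv : v ∈ Vc P) : π (g * v * g⁻¹) = π v := by
  have nV := normal_V (P := P)
  obtain ⟨z, zV, πz⟩ := h.onto ![1, 0]
  obtain ⟨d, hd⟩ := h.surj (lo (π v 1))
  have h1 : act (ρ ⟨g * d * g⁻¹, conj_mem le_rfl hg d.2⟩) ![0, 1] = ![0, 1] := by
    rw [← hw2, ← h.twist hg d hw, h.congr hg (nV.conj_mem _ hw d) hw]
    rw [h.eqv d w hw, hd, hw1, act_lo]
    simp
  have h2 := fst_of_fix h1
  have h3 := nV.conj_mem _ zV d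
  have h4 : π (d * z * (d : P)⁻¹) = ![1, π v 1] := by
    rw [h.eqv d z zV, hd, πz, act_lo]
    simp
  have h5 : π (g * (d * z * (d : P)⁻¹) * g⁻¹) = π (d * z * (d : P)⁻¹) := by
    rw [vec_eq (π (g * _ * _)), h.snd hg hT hL h3, h.twist hg d zV, hL z zV (by rw [πz]; rfl),
      πz, h2, h4]
    simp
  have h6 := mul_mem hv (inv_mem h3)
  have h7 := hL _ h6 (by rw [h.add _ hv _ (inv_mem h3), h.toPD.inv h3, h4]; simp)
  have h8 : g * (v * (d * z * (d : P)⁻¹)⁻¹) * g⁻¹ =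
      g * v * g⁻¹ * (g * (d * z * (d : P)⁻¹) * g⁻¹)⁻¹ := by group
  rw [h8, h.add _ (nV.conj_mem _ hv g) _ (inv_mem (nV.conj_mem _ h3 g)),
    h.toPD.inv (nV.conj_mem _ h3 g), h5, h.add _ hv _ (inv_mem h3), h.toPD.inv h3] at h7
  exact add_right_cancel h7

theorem cen (hL : FL π g) :
    g ∈ T ⊓ X ⊔ T ⊓ centralizer ((⁅Vc P, X⁆ : Subgroup P) : Set P) := by
  have nV := normal_V (P := P)
  obtain ⟨w, hw, hw1⟩ := h.onto ![0, 1]
  obtain ⟨s, hs, e⟩ := h.exT (-π (g * w * g⁻¹) 0)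
  have h1 : ∀ v : P, s * g * v * ((s : P) * g)⁻¹ = s * (g * v * g⁻¹) * (s : P)⁻¹ := fun v => by group
  have h2 := mul_mem (le_normalizer s.2) hg
  have h3 := h.cent_of_triv h2 fun v hv => h.triv h2 (T.mul_mem hs hT) (fun v hv h0 => by
    rw [h1, h.eqv s _ (nV.conj_mem _ hv g), hL v hv h0, e, act_up, h0, mul_zero, add_zero, ← h0]
    exact (vec_eq _).symm) hw hw1 (by
    rw [h1, h.eqv s _ (nV.conj_mem _ hw g), e, act_up, h.snd hg hT hL hw, hw1]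
    simp) hv
  rw [← inv_mul_cancel_left (s : P) g]
  exact mul_mem (mem_sup_left ⟨T.inv_mem hs, X.inv_mem s.2⟩) (mem_sup_right ⟨T.mul_mem hs hT, h3⟩)

theorem fl_of_comm (h1 : ∀ t ∈ T ⊓ X, ⁅t, g⁆ ∈ pCore 2 P) : FL π g := by
  have nV := normal_V (P := P)
  obtain ⟨w, hw, hw1⟩ := h.onto ![0, 1]
  have key : ∀ v ∈ Vc P, π v 1 = 0 → π (g * v * g⁻¹) = ![π (g * w * g⁻¹) 1 * π v 0, 0] :=
    fun v hv h0 => by
      obtain ⟨s, hs, e⟩ := h.exT (-π v 0)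
      have h2 : ρ ⟨g * s * g⁻¹, conj_mem le_rfl hg s.2⟩ = up (-π v 0) := by
        rw [← e, eq_comm, ← mul_inv_eq_one, ← map_inv, ← map_mul, h.ker]
        simpa [commutatorElement_def, mul_assoc] using h1 s ⟨hs, s.2⟩
      rw [h.congr hg hv (UV X (commutator_mem_commutator hw s.2)) (by
        rw [h.comm_up e hw, hw1, vec_eq (π v), h0]; simp), h.conj_comm hg s h2 hw]
      simp [mul_comm]
  obtain ⟨k, hk⟩ := isPGroup_iff.1 h.pu.syl.isPGroup _ hT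
  obtain ⟨z, hz, hz1⟩ := h.onto ![1, 0]
  have h9 := iter_eq hk (fun v => v ∈ Vc P ∧ π v 1 = 0) (fun v => π v 0)
    (a := π (g * w * g⁻¹) 1) (c := 1) (fun v hv => ⟨nV.conj_mem v hv.1 g, by rw [key v hv.1 hv.2]; rfl⟩)
    (fun v hv => by simp [key v hv.1 hv.2]) ⟨hz, by rw [hz1]; rfl⟩ (by simp [hz1])
  intro v hv h0
  rw [key v hv h0, h9, one_mul, ← h0]
  exact (vec_eq _).symm

end LD

end Cfsg.Agent.H77.FP
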