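import Cfsg.Agent.H77.FPKit
import Cfsg.Agent.H95.AutAlt

/-! Project FPF: transpositions in a Sylow `2`-subgroup of a symmetric group. -/

set_option autoImplicit false

namespace Cfsg.Agent.H77.FP

open Subgroup Equiv Cfsg Cfsg.Agent.H83
open Cfsg.Agent.H53.OC (factTwo)
open scoped Pointwise

variable {α : Type*} [Fintype α] [DecidableEq α]

theorem aut_perm (h4 : 4 ≤ Fintype.card α) (h6 : Fintype.card α ≠ 6) (φ : MulAut (Perm α)) :
    ∃ π : Perm α, ∀ σ, φ σ = π * σ * π⁻¹ := by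
  have hb := H95.AutAlt.bijective_conjNormal h4 h6
  obtain ⟨π, hπ⟩ := hb.2 (MulAut.characteristic (alternatingGroup α) φ)
  have h1 : ∀ τ ∈ alternatingGroup α, φ τ = π * τ * π⁻¹ := fun τ hτ =>
    (congrArg (fun f : MulAut (alternatingGroup α) => (f ⟨τ, hτ⟩ : Perm α)) hπ).symm
  refine ⟨π, fun σ => hb.1 (MulEquiv.ext fun τ => Subtype.ext ?_)⟩
  have hn : (alternatingGroup α).Normal := inferInstance
  have h2 := h1 _ (hn.conj_mem' _ τ.2 π)
  have h3 := h1 _ (hn.conj_mem _ (hn.conj_mem' _ τ.2 π) σ)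
  rw [map_mul, map_mul, h2, map_inv] at h3
  simpa [mul_assoc] using h3

theorem swap_eq_of_mem {S : Subgroup (Perm α)} (hS : IsPGroup 2 S) {a b d : α} (ab : a ≠ b)
    (ad : a ≠ d) (h1 : swap a b ∈ S) (h2 : swap a d ∈ S) : b = d := by
  by_contra bd
  obtain ⟨k, hk⟩ := isPGroup_iff.1 hS _ (S.mul_mem h1 h2)
  have h := orderOf_dvd_of_pow_eq_one hk
  rw [(Perm.isThreeCycle_swap_mul_swap_same ab ad bd).orderOf] at h
  exact absurd (Nat.Prime.dvd_of_dvd_pow Nat.prime_three h) (by decide)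

/-- `c` is moved by no transposition in `S`. -/
def Unc (S : Subgroup (Perm α)) (c : α) : Prop := ∀ b, swap c b ∈ S → c = b

omit [Fintype α] in
theorem Unc.conj {S : Subgroup (Perm α)} {c : α} (h : Unc S c) {π : Perm α}
    (hπ : ∀ σ ∈ S, π⁻¹ * σ * π ∈ S) : Unc S (π c) := fun b hb => by
  have h1 := hπ _ hb
  have h2 := swap_apply_apply π⁻¹ (π c) b
  rw [inv_inv, show π⁻¹ (π c) = c by simp] at h2
  rw [h _ (h2 ▸ h1)]; simp

theorem Unc.unique {S : Subgroup (Perm α)} (hS : IsSylowIn 2 S ⊤) {c d : α} (hc : Unc S c)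
    (hd : Unc S d) : c = d := by
  have hm : ∀ σ : Perm α, (∀ i, Unc S i → Unc S (σ i)) →
      σ ∈ MulAction.stabilizer (Perm α) {i | Unc S i} := fun σ h =>
    (MulAction.mem_stabilizer_set' (Set.toFinite _)).2 h
  obtain ⟨π, hπ, h⟩ := (hS.mono (fun σ hσ => hm σ fun i hi => hi.conj fun τ hτ =>
    S.mul_mem (S.mul_mem (S.inv_mem hσ) hτ) hσ) le_top).exists_conj_le
    (zpowers_le.2 (hm (swap c d) fun i hi => by
      rw [swap_apply_def]; split_ifs <;> assumption))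
    (isPGroup_zpowers (k := 1) (by rw [pow_one, pow_two, swap_mul_self]))
  have h1 := h (conj_mem_cj (mem_zpowers _))
  rw [← swap_apply_apply] at h1
  exact π.injective ((MulAction.mem_stabilizer_set.1 hπ c).2 hc _ h1)

theorem exists_unc {S : Subgroup (Perm α)} (hS : IsPGroup 2 S) (h : Odd (Fintype.card α)) :
    ∃ c, Unc S c := by
  obtain ⟨c, hc⟩ := hS.nonempty_fixed_point_of_prime_not_dvd_card α (by
    rw [Nat.card_eq_fintype_card]; exact h.not_two_dvd_nat)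
  exact ⟨c, fun b hb => by simpa using (hc ⟨_, hb⟩).symm⟩

theorem eq_top_of_swap {H : Subgroup (Perm α)} {c : α} (h : ∀ a, swap c a ∈ H) : H = ⊤ := by
  rw [eq_top_iff, ← Perm.closure_isSwap, closure_le]
  rintro _ ⟨a, b, ab, rfl⟩
  by_cases ac : a = c
  · exact ac ▸ h b
  rw [swap_comm, ← swap_mul_swap_mul_swap ac ab, swap_comm a c]
  exact H.mul_mem (H.mul_mem (h b) (h a)) (h b)

theorem exists_ne_four (h : 5 ≤ Fintype.card α) (a b c d : α) :
    ∃ k, k ≠ a ∧ k ≠ b ∧ k ≠ c ∧ k ≠ d := by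
  obtain ⟨k, -, hk⟩ := Finset.exists_mem_notMem_of_card_lt_card (s := {a, b, c, d})
    (t := Finset.univ) (Finset.card_le_four.trans_lt h)
  exact ⟨k, by simpa [not_or] using hk⟩

end Cfsg.Agent.H77.FP
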