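import Cfsg.Agent.H77.FPSym1
import Cfsg.Agent.H77.OCSix

/-! Project FPF: a symmetric factor acting on the even weight module. -/

set_option autoImplicit false
set_option linter.unusedSectionVars false

namespace Cfsg.Agent.H77.FP

open Subgroup Equiv Cfsg Cfsg.Agent.H83 Cfsg.Agent.H77.OC
open Cfsg.Agent.H53.OC (factTwo)
open scoped commutatorElement

variable {α : Type*} [Fintype α] [DecidableEq α]

/-- The weight two vector. -/
def ev (i j : α) : α → ZMod 2 := Pi.single i 1 + Pi.single j 1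

theorem z2 : ∀ r : ZMod 2, r + r = 0 := by decide

theorem sum_ev (i j : α) : ∑ k, ev i j k = 0 := by
  simp [ev, Finset.sum_add_distrib, z2]

omit [Fintype α] in
theorem ev_apply (i j k : α) :
    ev i j k = (if k = i then 1 else 0) + (if k = j then 1 else 0) := by
  simp [ev, Pi.single_apply]

omit [Fintype α] in
theorem ev_swap {i j k : α} (h1 : k ≠ i) (h2 : k ≠ j) (l : α) :
    ev i k l + ev i k (swap i j l) = ev i j l := by
  simp only [ev_apply, swap_apply_eq_iff, swap_apply_left, swap_apply_of_ne_of_ne h1 h2]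
  rw [add_add_add_comm, z2, add_zero]

theorem span_aux (H : AddSubmonoid (α → ZMod 2)) {a b : α} (c : α) (ab : a ≠ b) (h1 : ev a b ∈ H)
    (h2 : ∀ i, i ≠ a → i ≠ b → ev i c ∈ H) {v : α → ZMod 2} (hs : ∑ i, v i = 0)
    (hab : v a = v b) : v ∈ H := by
  have hm : ∀ (r : ZMod 2) (w : α → ZMod 2), w ∈ H → r • w ∈ H := fun r w hw => by
    rcases (by decide : ∀ r : ZMod 2, r = 0 ∨ r = 1) r with rfl | rfl
    · simp
    · simpa
  have e : ∑ i, v i • ev i c = v := by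
    simp only [ev, smul_add, Finset.sum_add_distrib]
    rw [← Finset.sum_smul, hs, zero_smul, add_zero]
    simp only [← Pi.single_smul, smul_eq_mul, mul_one]
    exact Finset.univ_sum_single v
  rw [← e, ← Finset.add_sum_erase _ _ (Finset.mem_univ a), ← Finset.add_sum_erase _ _
    (Finset.mem_erase.2 ⟨ab.symm, Finset.mem_univ b⟩), ← add_assoc, ← hab, ← smul_add]
  refine H.add_mem (hm _ _ ?_) (H.sum_mem fun i hi => hm _ _ (h2 i
    (Finset.mem_erase.1 (Finset.mem_erase.1 hi).2).1 (Finset.mem_erase.1 hi).1))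
  convert h1 using 1
  ext k
  simp only [Pi.add_apply, ev_apply]
  rw [add_add_add_comm, z2, add_zero]

variable {P : Type*} [Group P]

/-- The factor `X` acts on `⁅V, X⁆` modulo its fixed points as the symmetric group. -/
structure SD (E V X Y : Subgroup P) (ρ : X →* Perm α) (f : P → α → ZMod 2) : Prop where
  nE : E.Normal
  nV : V.Normal
  pE : IsPGroup 2 E
  eV : IsElementaryAbelian 2 V
  cV : centralizer (V : Set P) = E
  EX : E ≤ X
  nK : (X ⊔ Y).Normal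
  KX : X ⊔ Y ≤ normalizer (X : Set P)
  core : ∀ K ≤ X, X ≤ normalizer (K : Set P) → IsPGroup 2 K → K ≤ E
  dec : V ≤ V ⊓ centralizer (X : Set P) ⊔ ⁅V, X⁆
  cy : ⁅V, X⁆ ≤ centralizer (Y : Set P)
  card : 5 ≤ Fintype.card α
  surj : Function.Surjective ρ
  mul : ∀ w ∈ ⁅V, X⁆, ∀ w' ∈ ⁅V, X⁆, f (w * w') = f w + f w'
  sum : ∀ w ∈ ⁅V, X⁆, ∑ i, f w i = 0
  ex : ∀ v : α → ZMod 2, ∑ i, v i = 0 → ∃ w ∈ ⁅V, X⁆, f w = v
  zero : ∀ w ∈ ⁅V, X⁆, f w = 0 ↔ w ∈ centralizer (X : Set P)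
  conj : ∀ e : X, ∀ w ∈ ⁅V, X⁆, ∀ i, f (e * w * (e : P)⁻¹) i = f w ((ρ e)⁻¹ i)

variable {E V X Y : Subgroup P} {ρ : X →* Perm α} {f : P → α → ZMod 2}

theorem SD.WV (h : SD E V X Y ρ f) : ⁅V, X⁆ ≤ V :=
  haveI := h.nV
  commutator_le_left _ _

theorem SD.VE (h : SD E V X Y ρ f) : V ≤ E := h.cV ▸ EA_le_cent h.eV

theorem SD.cE (h : SD E V X Y ρ f) {e v : P} (he : e ∈ E) (hv : v ∈ V) : v * e = e * v :=
  h.cV.ge he v hv

theorem SD.inv (h : SD E V X Y ρ f) {v : P} (hv : v ∈ V) : v⁻¹ = v :=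
  inv_eq_of_mul_eq_one_left ((sq v).symm.trans ((isEA_iff.1 h.eV).2 v hv))

theorem SD.nW (_h : SD E V X Y ρ f) : X ≤ normalizer ((⁅V, X⁆ : Subgroup P) : Set P) :=
  normalizer_commutator_ge_right V X

theorem SD.comm_mem (_h : SD E V X Y ρ f) {v e : P} (hv : v ∈ V) (he : e ∈ X) : ⁅v, e⁆ ∈ ⁅V, X⁆ :=
  commutator_mem_commutator hv he

theorem SD.split (h : SD E V X Y ρ f) {v : P} (hv : v ∈ V) :
    ∃ w ∈ ⁅V, X⁆, ∃ c ∈ V ⊓ centralizer (X : Set P), w * c = v :=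
  (mem_sup_left_norm' (le_norm_of_le_cent (h.WV.trans ((EA_le_cent h.eV).trans
    (cent_anti inf_le_left))))).1 (h.dec hv)

theorem SD.comm (h : SD E V X Y ρ f) (e : X) {w : P} (hw : w ∈ ⁅V, X⁆) (i : α) :
    f ⁅w, (e : P)⁆ i = f w i + f w ((ρ e)⁻¹ i) := by
  rw [commutatorElement_def, h.inv (h.WV hw), mul_assoc, mul_assoc, ← mul_assoc (e : P),
    h.mul _ hw _ (conj_mem h.nW e.2 hw), Pi.add_apply, h.conj e w hw]

theorem SD.cent_V (h : SD E V X Y ρ f) {s : P} (h1 : s ∈ centralizer ((⁅V, X⁆ : Subgroup P) : Set P))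
    (h2 : ∀ c ∈ V ⊓ centralizer (X : Set P), c * s = s * c) : s ∈ E :=
  h.cV.le (cent_anti h.dec (by rw [H83.centralizer_sup]; exact ⟨h2, h1⟩))

theorem SD.eq_one (h : SD E V X Y ρ f) {σ : Perm α}
    (h1 : ∀ w ∈ ⁅V, X⁆, ∀ i, f w (σ i) = f w i) : σ = 1 := by
  refine Equiv.ext fun i => show σ i = i from ?_
  by_contra hi
  obtain ⟨k, k1, k2, -⟩ := exists_ne_four h.card i (σ i) i i
  obtain ⟨w, hw, e⟩ := h.ex _ (sum_ev i k)
  have := h1 w hw i
  rw [e, ev_apply, ev_apply, if_neg hi, if_neg k2.symm, if_pos rfl, if_neg k1.symm] at this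
  exact absurd this (by decide)

theorem SD.comm_cent (h : SD E V X Y ρ f) (e : X) {w : P} (hw : w ∈ ⁅V, X⁆) :
    ⁅w, (e : P)⁆ ∈ centralizer (X : Set P) ↔ ∀ i, f w ((ρ e)⁻¹ i) = f w i := by
  rw [← h.zero _ (h.comm_mem (h.WV hw) e.2), funext_iff]
  refine forall_congr' fun i => ?_
  rw [h.comm e hw]
  exact (by decide : ∀ r s : ZMod 2, r + s = 0 ↔ s = r) _ _

theorem SD.ker [Finite P] (h : SD E V X Y ρ f) (e : X) : ρ e = 1 ↔ (e : P) ∈ E := by
  refine ⟨fun he => h.core (ρ.ker.map X.subtype) (map_subtype_le _) (fun g hg =>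
    mem_normalizer_fintype ?_) (isPGroup_of_coprime_eq_one ?_) ⟨e, he, rfl⟩, fun he =>
    inv_eq_one.1 (h.eq_one fun w hw => (h.comm_cent e hw).1 ?_)⟩
  · rintro _ ⟨y, hy, rfl⟩
    exact ⟨_, ρ.normal_ker.conj_mem y hy ⟨g, hg⟩, rfl⟩
  · rintro _ ⟨y, hy, rfl⟩ hc
    refine eq_one_of_mem_pgroup h.pE (h.cent_V (mem_cent_of_stable hc
      (A := V ⊓ centralizer (X : Set P)) (EA_isPGroup h.eV).to_inf_left
      (fun c hc => (hc.2 _ y.2).symm) fun w hw => ⟨h.WV (h.comm_mem (h.WV hw) y.2),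
        (h.comm_cent y hw).2 fun i => by rw [show ρ y = 1 from hy]; rfl⟩)
      fun c hc => (hc.2 _ y.2).symm) hc
  · rw [commutatorElement_eq_one_iff_mul_comm.2 (h.cE he (h.WV hw))]
    exact one_mem _

theorem SD.gen [Finite P] (h : SD E V X Y ρ f) {H : Subgroup P} (h1 : E ≤ H)
    (h2 : (H.subgroupOf X).map ρ = ⊤) : X ≤ H := fun g hg => by
  obtain ⟨y, hy, e⟩ := h2.ge (mem_top (ρ ⟨g, hg⟩))
  have := h1 ((h.ker (y⁻¹ * ⟨g, hg⟩)).1 (by rw [map_mul, map_inv, e, inv_mul_cancel]))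
  simpa using H.mul_mem hy this

/-- A lift of a transposition centralizes a hyperplane. -/
theorem SD.tv_cent [Finite P] (h : SD E V X Y ρ f) {t : X} {a b : α} (ab : a ≠ b)
    (ht : ρ t = swap a b) {w : P} (hw : w ∈ ⁅V, X⁆) (hab : f w a = f w b) :
    w * t = t * w := by
  have cV := fun {v w : P} (hv : v ∈ V) (hw : w ∈ V) => h.cE (h.VE hv) hw
  have h1 : ∀ w ∈ ⁅V, X⁆, f w a = f w b → ⁅w, (t : P)⁆ ∈ centralizer (X : Set P) :=
    fun w hw e => (h.comm_cent t hw).2 fun i => by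
      rw [ht, swap_inv]; exact apply_swap_eq_self e i
  let H : AddSubmonoid (α → ZMod 2) :=
    { carrier := {v | ∃ w ∈ ⁅V, X⁆, f w = v ∧ Commute w t}
      zero_mem' := ⟨1, one_mem _, (h.zero _ (one_mem _)).2 (one_mem _), Commute.one_left _⟩
      add_mem' := by
        rintro _ _ ⟨w, hw, rfl, e⟩ ⟨w', hw', rfl, e'⟩
        exact ⟨w * w', mul_mem hw hw', h.mul _ hw _ hw', e.mul_left e'⟩ }
  obtain ⟨c, ca, cb, -⟩ := exists_ne_four h.card a b a a
  obtain ⟨w', hw', e1, e2⟩ : f w ∈ H := by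
    refine span_aux H c ab ?_ (fun i ia ib => ?_) (h.sum w hw) hab
    · obtain ⟨v, hv, e⟩ := h.ex _ (sum_ev a c)
      have hv' := h.WV hv
      refine ⟨⁅v, (t : P)⁆, h.comm_mem hv' t.2, funext fun l => by
        rw [h.comm t hv, e, ht, swap_inv, ev_swap ca cb], ?_⟩
      have e2 := h.cE ((h.ker (t * t)).1 (by rw [map_mul, ht, swap_mul_self])) hv'
      have e3 := cV hv' (h.nV.conj_mem _ hv' t)
      rw [coe_mul] at e2
      rw [commutatorElement_def, h.inv hv']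
      symm
      calc (t : P) * _ = t * v * (t : P)⁻¹ * (t * t * v) * (t : P)⁻¹ := by group
        _ = t * v * (t : P)⁻¹ * v * t := by rw [← e2]; group
        _ = _ := by rw [e3]; group
    · obtain ⟨k, ka, kb, ki, kc⟩ := exists_ne_four h.card a b i c
      obtain ⟨v, hv, e⟩ := h.ex _ (sum_ev i k)
      obtain ⟨y, hy⟩ := h.surj (swap i c)
      have hv' := h.WV hv
      refine ⟨⁅v, (y : P)⁆, h.comm_mem hv' y.2, funext fun l => by
        rw [h.comm y hv, e, hy, swap_inv, ev_swap ki kc], ?_⟩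
      have z := h1 v hv (by simp [e, ev_apply, ia.symm, ib.symm, ka.symm, kb.symm])
      have e2 := h.cE ((h.ker (t⁻¹ * (y⁻¹ * t * y))).1 (by
        rw [map_mul, map_mul, map_mul, map_inv, map_inv, ht, hy, ← inv_inv (swap i c),
          inv_inv (swap i c)⁻¹, ← swap_apply_apply, swap_inv i c,
          swap_apply_of_ne_of_ne ia.symm ca.symm, swap_apply_of_ne_of_ne ib.symm cb.symm,
          inv_mul_cancel])) (inv_mem hv')
      have e3 := z _ y.2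
      have e4 := z _ (h.EX (h.VE (h.WV (h.comm_mem hv' y.2))))
      simp only [coe_mul, coe_inv] at e2
      symm
      calc (t : P) * ⁅v, (y : P)⁆ = ⁅v, (t : P)⁆⁻¹ * v * y * t *
            ((t : P)⁻¹ * ((y : P)⁻¹ * t * y) * v⁻¹) * (y : P)⁻¹ := by group
        _ = ⁅v, (t : P)⁆⁻¹ * v * y * v⁻¹ * ⁅v, (t : P)⁆ * (y : P)⁻¹ * t := by rw [← e2]; group
        _ = ⁅v, (t : P)⁆⁻¹ * ⁅v, (y : P)⁆ * (y * ⁅v, (t : P)⁆) * (y : P)⁻¹ * t := by group
        _ = ⁅v, (t : P)⁆⁻¹ * (⁅v, (y : P)⁆ * ⁅v, (t : P)⁆) * t := by rw [e3]; group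
        _ = _ := by rw [e4]; group
  have e3 := (h.zero _ (mul_mem hw' hw)).1 (by
    rw [h.mul _ hw' _ hw, e1]; exact funext fun i => z2 _) _ t.2
  have e4 : w' * (w * t) = w' * (t * w) := by rw [← mul_assoc, ← e3, ← mul_assoc, ← mul_assoc, e2]
  exact mul_left_cancel e4

theorem SD.tv [Finite P] (h : SD E V X Y ρ f) {t : X} {a b : α} (ab : a ≠ b)
    (ht : ρ t = swap a b) : ∃ u, ∀ v ∈ V, ⁅v, (t : P)⁆ = 1 ∨ ⁅v, (t : P)⁆ = u := by
  obtain ⟨c, ca, cb, -⟩ := exists_ne_four h.card a b a a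
  obtain ⟨v₀, h₀, e⟩ := h.ex _ (sum_ev a c)
  refine ⟨⁅v₀, (t : P)⁆, fun v hv => ?_⟩
  obtain ⟨w, hw, z, hz, rfl⟩ := h.split hv
  rw [H4.commutatorElement_mul_of_mem_centralizer hz.2 t.2]
  by_cases hab : f w a = f w b
  · exact Or.inl (commutatorElement_eq_one_iff_mul_comm.2 (h.tv_cent ab ht hw hab))
  have e1 := h.tv_cent ab ht (mul_mem hw h₀) (by
    rw [h.mul _ hw _ h₀, Pi.add_apply, Pi.add_apply, e, ev_apply, ev_apply, if_pos rfl,
      if_neg ca.symm, if_neg ab.symm, if_neg cb.symm]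
    exact (by decide : ∀ r s : ZMod 2, ¬ r = s → r + (1 + 0) = s + (0 + 0)) _ _ hab)
  right
  rw [← H4.commutatorElement_mul_of_mem_centralizer (mem_cz e1.symm) (mem_zpowers _), ← mul_assoc,
    ← pow_two, (isEA_iff.1 h.eV).2 _ (h.WV hw), one_mul]

/-- A transvection lies in `X` or centralizes `⁅V, X⁆`. -/
theorem SD.dich [Finite P] (h : SD E V X Y ρ f) {s u : P} (hs : s ∈ X ⊔ Y)
    (hu : ∀ v ∈ V, ⁅v, s⁆ = 1 ∨ ⁅v, s⁆ = u) :
    s ∈ X ∨ s ∈ centralizer ((⁅V, X⁆ : Subgroup P) : Set P) := by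
  obtain ⟨r, hr, y, hy, rfl⟩ := (mem_sup_left_norm (le_sup_right.trans h.KX)).1 hs
  have yW := le_centralizer_iff.1 h.cy hy
  by_cases hE : r ∈ E
  · exact Or.inr (mul_mem (cent_anti h.WV (h.cV.ge hE)) yW)
  refine Or.inl (mul_mem hr (h.EX (h.cent_V yW fun c hc => ?_)))
  obtain ⟨w, hw, e⟩ : ∃ w ∈ ⁅V, X⁆, ⁅w, r⁆ ∉ centralizer (X : Set P) := by
    by_contra hh
    push Not at hh
    exact hE ((h.ker ⟨r, hr⟩).1 (inv_eq_one.1 (h.eq_one fun w hw =>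
      (h.comm_cent ⟨r, hr⟩ hw).1 (hh w hw))))
  have e1 : ⁅w, r * y⁆ = ⁅w, r⁆ :=
    calc _ = w * r * (y * w⁻¹) * y⁻¹ * r⁻¹ := by group
      _ = _ := by rw [← yW _ (inv_mem hw)]; group
  have e2 : y * c⁻¹ * y⁻¹ ∈ centralizer (X : Set P) :=
    conj_mem (le_norm_cent h.KX) (mem_sup_right hy) (inv_mem hc.2)
  have e3 : ⁅c, r * y⁆ = ⁅c, y⁆ :=
    calc _ = c * (r * (y * c⁻¹ * y⁻¹)) * r⁻¹ := by group
      _ = _ := by rw [e2 _ hr]; group
  have e4 : ⁅c, y⁆ ∈ centralizer (X : Set P) := by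
    simpa [commutatorElement_def, mul_assoc] using (centralizer (X : Set P)).mul_mem hc.2 e2
  refine commutatorElement_eq_one_iff_mul_comm.1 (e3 ▸ (hu c hc.1).resolve_right fun e5 => e ?_)
  rcases hu w (h.WV hw) with e6 | e6
  · rw [← e1, e6]; exact one_mem _
  · rwa [← e1, e6, ← e5, e3]

theorem SD.gen_conj [Finite P] (h : SD E V X Y ρ f) {t : X} {a b : α} (ab : a ≠ b)
    (ht : ρ t = swap a b) {H : Subgroup P} (h1 : E ≤ H) (h2 : ∀ k ∈ X, k * t * k⁻¹ ∈ H) :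
    X ≤ H := by
  refine h.gen h1 ?_
  rw [eq_top_iff, ← Perm.closure_isSwap, closure_le]
  rintro _ ⟨c, d, cd, rfl⟩
  obtain ⟨σ, hσ⟩ := isConj_iff.1 (Perm.isConj_swap ab cd)
  obtain ⟨k, rfl⟩ := h.surj σ
  exact ⟨k * t * k⁻¹, h2 k k.2, by rw [map_mul, map_mul, map_inv, ht, hσ]⟩

theorem SD.cj_dich [Finite P] (h : SD E V X Y ρ f) (g : P) :
    g ∈ normalizer (X : Set P) ∨ cj g X ≤ centralizer ((⁅V, X⁆ : Subgroup P) : Set P) := by
  obtain ⟨a, b, ab⟩ := Fintype.exists_pair_of_one_lt_card (α := α) (by have := h.card; omega)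
  obtain ⟨t, ht⟩ := h.surj (swap a b)
  obtain ⟨u, hu⟩ := h.tv ab ht
  by_cases hh : ∃ k ∈ X, g * (k * t * k⁻¹) * g⁻¹ ∈ X
  · obtain ⟨k, hk, e⟩ := hh
    refine Or.inl (mem_normalizer_fintype fun x hx => ?_)
    have n1 : X ⊔ Y ≤ normalizer (cj g⁻¹ X : Set P) := by
      rw [← cj_normalizer, ← cj_eq_self (le_nrm h.nK ⊤ (mem_top g⁻¹))]
      exact cj_mono _ h.KX
    simpa using mem_cj.1 (h.gen_conj ab ht (H := cj g⁻¹ X) (fun y hy => mem_cj.2
      (h.EX (h.nE.conj_mem' _ hy _))) (fun l hl => by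
        have := conj_mem n1 (mem_sup_left (mul_mem hl (inv_mem hk)))
          (mem_cj.2 (by rwa [inv_inv]) : k * t * k⁻¹ ∈ cj g⁻¹ X)
        simpa [mul_assoc] using this) hx)
  push Not at hh
  right
  rintro _ ⟨x, hx, rfl⟩
  simpa using mem_cj.1 (h.gen_conj ab ht
    (H := cj g⁻¹ (centralizer ((⁅V, X⁆ : Subgroup P) : Set P))) (fun y hy => mem_cj.2
      (cent_anti h.WV (h.cV.ge (h.nE.conj_mem' _ hy _)))) (fun k hk => mem_cj.2 (by
        rw [inv_inv]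
        refine (h.dich (u := g * k * u * (g * k)⁻¹) (h.nK.conj_mem _ (mem_sup_left
          (mul_mem (mul_mem hk t.2) (inv_mem hk))) g) fun v hv => ?_).resolve_left (hh k hk)
        have e : ⁅v, g * (k * t * k⁻¹) * g⁻¹⁆ =
            g * k * ⁅(g * k)⁻¹ * v * (g * k), (t : P)⁆ * (g * k)⁻¹ := by group
        rw [e]
        refine (hu _ (h.nV.conj_mem' _ hv (g * k))).imp (fun e => ?_) fun e => ?_ <;> rw [e]
        group)) hx)

theorem SD.supp (h : SD E V X Y ρ f) (y : X) {i : α} (hi : ρ y i = i) {w : P}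
    (hw : w ∈ ⁅V, zpowers (y : P)⁆) : f w i = 0 := by
  let H : Subgroup P :=
    { carrier := {w | w ∈ ⁅V, X⁆ ∧ f w i = 0}
      one_mem' := ⟨one_mem _, congrFun ((h.zero _ (one_mem _)).2 (one_mem _)) i⟩
      mul_mem' := fun ha hb => ⟨mul_mem ha.1 hb.1, by
        rw [h.mul _ ha.1 _ hb.1, Pi.add_apply, ha.2, hb.2, add_zero]⟩
      inv_mem' := fun ha => by rwa [h.inv (h.WV ha.1)] }
  refine ((commutator_le (H₃ := H)).2 ?_ hw).2
  rintro v hv _ ⟨k, rfl⟩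
  refine ⟨h.comm_mem hv (zpow_mem y.2 k), ?_⟩
  obtain ⟨w, hw, z, hz, rfl⟩ := h.split hv
  rw [H4.commutatorElement_mul_of_mem_centralizer hz.2 (zpow_mem y.2 k)]
  refine (h.comm (y ^ k) hw i).trans ?_
  rw [map_zpow, ← zpow_neg, Perm.zpow_apply_eq_self_of_apply_eq_self hi, z2]

end Cfsg.Agent.H77.FP
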