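import Cfsg.Agent.H71.FSDefs

/-!
# FS2-R3, part 1: polynomials in an isometry, graphs, the pairing of a unipotent isometry
-/

set_option autoImplicit false
set_option linter.unusedSectionVars false

namespace Cfsg.Agent.H77.FS

open Cfsg Cfsg.Agent.H30 Cfsg.Agent.H71.FS2 QuadraticMap Module Polynomial

universe u

variable {F V : Type u} [Field F] [AddCommGroup V] [Module F V] {Q : QuadraticForm F V}

/-- polynomials in `g` -/
noncomputable def ph (g : O Q) : F[X] →ₐ[F] End F V := aeval ((g.1 : V →ₗ[F] V) : End F V)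

/-- evaluation at a vector -/
noncomputable def ev (g : O Q) (v : V) : F[X] →ₗ[F] V where
  toFun p := ph g p v
  map_add' p q := by simp
  map_smul' c p := by simp

@[simp] theorem ev_apply (g : O Q) (v : V) (p : F[X]) : ev g v p = ph g p v := rfl

/-- the cyclic submodule -/
noncomputable def Cy (g : O Q) (v : V) : Submodule F V := LinearMap.range (ev g v)

theorem mem_Cy {g : O Q} {v w : V} : w ∈ Cy g v ↔ ∃ p, ph g p v = w := Iff.rfl

theorem ph_mem_Cy (g : O Q) (v : V) (p : F[X]) : ph g p v ∈ Cy g v := ⟨p, rfl⟩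

theorem ph_X (g : O Q) (v : V) : ph g X v = g.1 v := by simp [ph]

theorem ph_mul (g : O Q) (p q : F[X]) (v : V) : ph g (p * q) v = ph g p (ph g q v) := by
  rw [map_mul]; rfl

theorem ph_comm (g : O Q) (p q : F[X]) (v : V) : ph g p (ph g q v) = ph g q (ph g p v) := by
  rw [← ph_mul, ← ph_mul, mul_comm]

theorem ph_X_pow (g : O Q) (a : ℕ) (v : V) : ph g (X ^ a) v = (g ^ a).1 v := by
  induction a generalizing v with
  | zero => simp
  | succ a ih => rw [pow_succ, pow_succ, ph_mul, ih, ph_X, O_mul_apply]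

theorem ph_monomial (g : O Q) (a : ℕ) (c : F) (v : V) :
    ph g (monomial a c) v = c • (g ^ a).1 v := by
  rw [← smul_X_eq_monomial, map_smul, LinearMap.smul_apply, ph_X_pow]

theorem self_mem_Cy (g : O Q) (v : V) : v ∈ Cy g v := ⟨1, by simp⟩

theorem ph_mem {g : O Q} {W : Submodule F V} (hW : ∀ v ∈ W, g.1 v ∈ W) (p : F[X]) {v : V}
    (hv : v ∈ W) : ph g p v ∈ W := by
  induction p using Polynomial.induction_on' with
  | add p q hp hq => rw [map_add]; exact add_mem hp hq
  | monomial a c =>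
    rw [ph_monomial]
    refine W.smul_mem _ ?_
    induction a with
    | zero => simpa using hv
    | succ a ih => rw [pow_succ', O_mul_apply]; exact hW _ ih

theorem Cy_le {g : O Q} {W : Submodule F V} (hW : ∀ v ∈ W, g.1 v ∈ W) {v : V} (hv : v ∈ W) :
    Cy g v ≤ W := by
  rintro _ ⟨p, rfl⟩
  exact ph_mem hW p hv

theorem Cy_inv (g : O Q) (v : V) : ∀ w ∈ Cy g v, g.1 w ∈ Cy g v := by
  rintro _ ⟨p, rfl⟩
  exact ⟨X * p, by rw [ev_apply, ph_mul, ph_X]; rfl⟩

theorem ph_O_comm {g h : O Q} (c : h * g = g * h) (p : F[X]) (v : V) :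
    h.1 (ph g p v) = ph g p (h.1 v) := by
  induction p using Polynomial.induction_on' with
  | add p q hp hq => simp only [map_add, LinearMap.add_apply, hp, hq]
  | monomial a c' =>
    rw [ph_monomial, ph_monomial, map_smul, ← O_mul_apply, ← O_mul_apply,
      ((show Commute h g from c).pow_right a).eq]

theorem ph_adj (g : O Q) (p : F[X]) (u v : V) :
    polar Q (ph g p u) v = polar Q u (ph g⁻¹ p v) := by
  induction p using Polynomial.induction_on' with
  | add p q hp hq =>
    simp only [map_add, LinearMap.add_apply, polar_add_left, polar_add_right, hp, hq]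
  | monomial a c =>
    rw [ph_monomial, ph_monomial, polar_smul_left', polar_smul_right', O_polar_inv, inv_pow]

theorem pol_zpow (g : O Q) (i j : ℤ) (u v : V) :
    polar Q ((g ^ i).1 u) ((g ^ j).1 v) = polar Q ((g ^ (i - j)).1 u) v := by
  rw [← O_polar (g ^ j) _ v, ← O_mul_apply, ← zpow_add, add_sub_cancel]

/-- bilinear extension from monomials -/
theorem pol_ext {g : O Q} {x y x' y' : V} (h : ∀ a b : ℕ, polar Q ((g⁻¹ ^ a).1 x') ((g⁻¹ ^ b).1 y') =
    polar Q ((g ^ a).1 x) ((g ^ b).1 y)) (p q : F[X]) :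
    polar Q (ph g⁻¹ p x') (ph g⁻¹ q y') = polar Q (ph g p x) (ph g q y) := by
  induction p using Polynomial.induction_on' with
  | add p p' hp hp' => simp only [map_add, LinearMap.add_apply, polar_add_left, hp, hp']
  | monomial a c =>
    induction q using Polynomial.induction_on' with
    | add q q' hq hq' => simp only [map_add, LinearMap.add_apply, polar_add_right, hq, hq']
    | monomial b d => simp only [ph_monomial, polar_smul_left', polar_smul_right', h]

theorem Q_ph (g : O Q) (p : F[X]) (v : V) : Q (ph g⁻¹ p v) = Q (ph g p v) := by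
  have key := pol_ext (g := g) (x := v) (y := v) (x' := v) (y' := v) fun a b => by
    rw [inv_pow, inv_pow, ← zpow_natCast, ← zpow_natCast, ← zpow_neg, ← zpow_neg, pol_zpow,
      polar_comm Q ((g ^ (a : ℤ)).1 v), pol_zpow]
    congr 4
    ring
  induction p using Polynomial.induction_on' with
  | add p q hp hq => simp only [map_add, LinearMap.add_apply, Q_add, hp, hq, key]
  | monomial a c => simp only [ph_monomial, Q_smul, O_map]

theorem ph_fix {g : O Q} {w : V} (hw : g.1 w = w) (p : F[X]) : ph g p w = p.eval 1 • w :=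
  End.aeval_apply_of_mem_apply_eq_smul (by simpa using hw)

theorem zpow_fix {g : O Q} {w : V} (hw : g.1 w = w) (k : ℤ) : (g ^ k).1 w = w :=
  zpow_mem (show g ∈ MulAction.stabilizer (O Q) w from hw) k

section Fin

variable [FiniteDimensional F V]

/-- An isometry from a graph. -/
theorem graph (hQ : (polarBilin Q).Nondegenerate) {L : Type*} [AddCommGroup L] [Module F L]
    (a b : L →ₗ[F] V) (ha : Function.Surjective a) (h : ∀ x, Q (b x) = Q (a x)) :
    ∃ γ : O Q, ∀ x, γ.1 (a x) = b x := by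
  have hp : ∀ x y, polar Q (b x) (b y) = polar Q (a x) (a y) := fun x y => by
    simp only [polar, ← map_add, h]
  obtain ⟨s, hs⟩ := a.exists_rightInverse_of_surjective (LinearMap.range_eq_top.2 ha)
  have hs' : ∀ v, a (s v) = v := fun v => LinearMap.congr_fun hs v
  have inj : Function.Injective (b ∘ₗ s) := by
    rw [injective_iff_map_eq_zero]
    intro v hv
    refine eq_zero_of_polar hQ fun y => ?_
    have := hp (s v) (s y)
    rw [hs', hs'] at this
    rw [← this, show b (s v) = 0 from hv, polar_zero_left]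
  refine ⟨⟨LinearEquiv.ofInjectiveEndo _ inj, fun v => (h (s v)).trans (by rw [hs'])⟩, fun x => ?_⟩
  refine eq_of_polar hQ fun y => ?_
  obtain ⟨z, rfl⟩ := LinearMap.surjective_of_injective inj y
  change polar Q (b (s (a x))) (b (s z)) = polar Q (b x) (b (s z))
  rw [hp, hp, hs']

variable [Finite F]

theorem exists_inv (g : O Q) (p : F[X]) : ∃ q, ph g⁻¹ p = ph g q := by
  have : Finite V := Module.finite_of_finite F
  have : Finite (O Q) := Finite.of_injective (fun g : O Q => (g.1 : V → V))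
    fun _ _ e => O_ext (congrFun e)
  have e : g⁻¹ = g ^ (orderOf g - 1) := by
    refine inv_eq_of_mul_eq_one_right ?_
    rw [← pow_succ', Nat.sub_add_cancel (orderOf_pos g), pow_orderOf_eq_one]
  refine ⟨p.comp (X ^ (orderOf g - 1)), ?_⟩
  rw [ph, ph, aeval_comp]
  congr 2
  ext v
  exact (congrArg (fun k : O Q => k.1 v) e).trans (ph_X_pow g _ v).symm

theorem inv_mem_Cy (g : O Q) (v : V) (p : F[X]) : ph g⁻¹ p v ∈ Cy g v := by
  obtain ⟨q, e⟩ := exists_inv g p
  exact ⟨q, by rw [e]; rfl⟩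

theorem zpow_eq (g : O Q) (k : ℤ) : ∃ q, ∀ v, (g ^ k).1 v = ph g q v := by
  rcases Int.eq_nat_or_neg k with ⟨a, rfl | rfl⟩
  · exact ⟨X ^ a, fun v => by rw [ph_X_pow, zpow_natCast]⟩
  · obtain ⟨q, e⟩ := exists_inv g (X ^ a)
    exact ⟨q, fun v => by rw [← e, ph_X_pow, zpow_neg, zpow_natCast, inv_pow]⟩

end Fin

section Two

variable [CharP F 2]

/-- the polynomial of `g + 1` -/
noncomputable def ν (F : Type u) [Field F] : F[X] := X + 1

theorem ν_eq : ν F = X - C 1 := by rw [ν, C_1, CharTwo.sub_eq_add]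

theorem ν_monic : (ν F).Monic := ν_eq (F := F) ▸ monic_X_sub_C 1

theorem ν_natDegree (m : ℕ) : (ν F ^ m).natDegree = m := by
  rw [ν_monic.natDegree_pow, ν_eq, natDegree_X_sub_C, mul_one]

theorem ν_dvd {p : F[X]} (h : p.eval 1 = 0) : ν F ∣ p := ν_eq (F := F) ▸ dvd_iff_isRoot.2 h

theorem ph_ν_pow (g : O Q) (k : ℕ) :
    ph g (ν F ^ k) = ((g.1 : V →ₗ[F] V) + 1 : End F V) ^ k := by
  rw [map_pow, ν, map_add, map_one, ph, aeval_X]

theorem ph_ν (g : O Q) (v : V) : ph g (ν F) v = g.1 v + v := by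
  rw [ν, map_add, map_one, LinearMap.add_apply, ph_X]; rfl

variable (F) in
include F in
theorem add_self (v : V) : v + v = 0 := by
  rw [← two_smul F v, CharTwo.two_eq_zero, zero_smul]

theorem ph_ν' (g : O Q) (v : V) : ph g (ν F) v = g.1 v - v := by
  rw [ph_ν, sub_eq_add_neg, neg_eq_of_add_eq_zero_right (add_self F v)]

theorem pol_self (v : V) : polar Q v v = 0 := by
  rw [polar_self', CharTwo.two_eq_zero, zero_mul]

theorem ph_inv_ν (g : O Q) (k : ℕ) (v : V) :
    ph g⁻¹ (ν F ^ k) v = (g⁻¹ ^ k).1 (ph g (ν F ^ k) v) := by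
  induction k generalizing v with
  | zero => simp
  | succ k ih =>
    rw [pow_succ, pow_succ, ph_mul, ih, ph_mul, O_mul_apply, ph_O_comm (h := g⁻¹) (by simp), ph_ν, ph_ν,
      map_add (g⁻¹).1, O_inv_apply, add_comm]

variable {g : O Q} {M : ℕ}

theorem top_fix {u : V} (h : ph g (ν F ^ (M + 1)) u = 0) :
    g.1 (ph g (ν F ^ M) u) = ph g (ν F ^ M) u := by
  rw [pow_succ', ph_mul, ph_ν'] at h
  exact sub_eq_zero.1 h

theorem top_ph {u : V} (h : ph g (ν F ^ (M + 1)) u = 0) (p : F[X]) :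
    ph g (ν F ^ M) (ph g p u) = p.eval 1 • ph g (ν F ^ M) u := by
  rw [ph_comm, ph_fix (top_fix h)]

theorem pair {u : V} (h : ph g (ν F ^ (M + 1)) u = 0) {i j : ℕ} (e : i + j = M) (v : V) :
    polar Q (ph g (ν F ^ i) u) (ph g (ν F ^ j) v) = polar Q (ph g (ν F ^ M) u) v := by
  rw [polar_comm, ph_adj, ph_inv_ν, ← ph_mul, ← pow_add, add_comm j, e, polar_comm, inv_pow,
    ← zpow_natCast, ← zpow_neg, zpow_fix (top_fix h)]

/-- The annihilator of a vector. -/
theorem ann {v : V} (h0 : ph g (ν F ^ (M + 1)) v = 0) (h1 : ph g (ν F ^ M) v ≠ 0) {p : F[X]}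
    (hp : ph g p v = 0) : ν F ^ (M + 1) ∣ p := by
  suffices ∀ i ≤ M + 1, ν F ^ i ∣ p from this _ le_rfl
  intro i hi
  induction i with
  | zero => simp
  | succ i ih =>
    obtain ⟨q, rfl⟩ := ih (by omega)
    obtain ⟨j, rfl⟩ : ∃ j, M = j + i := ⟨M - i, by omega⟩
    have := congrArg (ph g (ν F ^ j)) hp
    rw [ph_mul, ← ph_mul g (ν F ^ j), ← pow_add, top_ph h0, map_zero, smul_eq_zero] at this
    rw [pow_succ]
    exact mul_dvd_mul_left _ (ν_dvd (this.resolve_right h1))

theorem ph_of_dvd {v : V} {m : ℕ} (h0 : ph g (ν F ^ m) v = 0) {p : F[X]} (hp : ν F ^ m ∣ p) :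
    ph g p v = 0 := by
  obtain ⟨q, rfl⟩ := hp
  rw [mul_comm, ph_mul, h0, map_zero]

theorem ev_inj {v : V} (h0 : ph g (ν F ^ (M + 1)) v = 0) (h1 : ph g (ν F ^ M) v ≠ 0) :
    LinearMap.ker ((ev g v).comp (degreeLT F (M + 1)).subtype) = ⊥ := by
  rw [LinearMap.ker_eq_bot']
  intro p hp
  refine Subtype.ext (eq_zero_of_dvd_of_degree_lt (ann h0 h1 hp) ?_)
  rw [degree_eq_natDegree (ν_monic.pow _).ne_zero, ν_natDegree]
  exact mem_degreeLT.1 p.2

theorem mod_lt (p : F[X]) (m : ℕ) : p %ₘ ν F ^ m ∈ degreeLT F m := by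
  have := degree_modByMonic_lt p (ν_monic.pow m)
  rw [degree_eq_natDegree (ν_monic.pow _).ne_zero, ν_natDegree] at this
  exact mem_degreeLT.2 this

theorem finrank_Cy {v : V} (h0 : ph g (ν F ^ (M + 1)) v = 0) (h1 : ph g (ν F ^ M) v ≠ 0) :
    finrank F (Cy g v) = M + 1 := by
  have e : Cy g v = LinearMap.range ((ev g v).comp (degreeLT F (M + 1)).subtype) := by
    apply le_antisymm
    · rintro _ ⟨p, rfl⟩
      refine ⟨⟨_, mod_lt p (M + 1)⟩, ?_⟩
      conv_rhs => rw [← modByMonic_add_div p (ν F ^ (M + 1)), map_add, ev_apply g v (_ * _),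
        ph_of_dvd h0 (dvd_mul_right _ _), add_zero]
      rfl
    · rintro _ ⟨p, rfl⟩
      exact ⟨p, rfl⟩
  rw [e, LinearMap.finrank_range_of_inj (LinearMap.ker_eq_bot.1 (ev_inj h0 h1)),
    finrank_eq_card_basis (degreeLT.basis F (M + 1)), Fintype.card_fin]

end Two

end Cfsg.Agent.H77.FS
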