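import Cfsg.Agent.H44.K5Defs
import Cfsg.Agent.S0960
import Cfsg.Agent.H52.K0Conv
import Cfsg.Agent.H29.K0R0
import Cfsg.Agent.H47.K0R
import Cfsg.Agent.H58.BrData

set_option autoImplicit false

namespace Cfsg.Agent.H77.K5Cyc

open Cfsg Cfsg.Agent.H76.K0 Cfsg.Agent.H44.K5

universe u

theorem cyc : CycStmt.{u} := by
  intro G _ _ p hpf M hM P hP e he
  classical
  have hp : p.Prime := hpf.out
  have := Fintype.ofFinite G
  have hdv : e ∣ p - 1 := he ▸ H58.relIndex_dvd_sub_one (G := G) (P := (P : Subgroup G)) hP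
  refine ⟨hdv, ?_⟩
  by_cases h2 : p = 2
  · subst h2
    have h1 : e = 1 := Nat.dvd_one.1 hdv
    rw [H52.K0Conv.conv (H29.K0R0.r0 H47.K0R.r) G 2 M hM P 2 (Or.inl rfl) hP, h1]
  · obtain ⟨hc, hd⟩ := S0960.result p M hM h2 P hP e he
    rw [← hc]
    have hp2 := hp.two_le
    have hpe : ¬ (p : ℤ) ∣ (e : ℤ) := by
      intro h
      have h1 : p ∣ p - 1 := (Int.natCast_dvd_natCast.1 h).trans hdv
      have := Nat.le_of_dvd (by omega) h1
      omega
    have hp1 : ¬ (p : ℤ) ∣ 1 := by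
      intro h
      have h1 : p ∣ 1 := by exact_mod_cast h
      exact hp.not_dvd_one h1
    have key : ∀ χ ∈ principalBlock M G, ¬ p ∣ charDegree (χ : G → ℂ) := by
      intro χ hχ h
      have h0 : (p : ℤ) ∣ (charDegree (χ : G → ℂ) : ℤ) := Int.natCast_dvd_natCast.2 h
      rcases hd χ hχ with h1 | h1 | h1 | h1
      · exact hp1 (by simpa using dvd_add h1.dvd h0)
      · exact hp1 (by simpa using dvd_add h1.dvd h0)
      · exact hpe (by simpa using dvd_add h1.dvd h0)
      · exact hpe (by simpa using dvd_add h1.dvd h0)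
    exact Nat.card_congr (Equiv.subtypeEquivRight fun χ => ⟨fun h => h.1, fun h => ⟨h, key χ h⟩⟩)

end Cfsg.Agent.H77.K5Cyc
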