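import Cfsg.Agent.H35.L3Defs
import Cfsg.Agent.H73.Descent

/-!
# L3-KB, part 1: field lemmas, counting lemmas and the action of frames on `U`
-/

set_option autoImplicit false
set_option linter.unusedSectionVars false

namespace Cfsg.Agent.H77.L3

open Cfsg Cfsg.Agent.H63 Cfsg.Agent.H63.SL Cfsg.Agent.H35.L3 Subgroup
open scoped commutatorElement

universe u v

section Fld

variable {F : Type v} [Field F] {φ : F ≃+* F}

theorem ex_moved (h1 : φ ≠ 1) : ∃ ω, φ ω ≠ ω := by
  by_contra h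
  push Not at h
  exact h1 (RingEquiv.ext h)

theorem h90 (two : (2 : F) = 0) (h2 : ∀ a, φ (φ a) = a) (h1 : φ ≠ 1) {κ s : F}
    (hs : κ * φ s = s) : ∃ e, e + κ * φ e = s := by
  obtain ⟨ω, hω⟩ := ex_moved h1
  have hτ : ω + φ ω ≠ 0 := fun e => hω (by linear_combination e - ω * two)
  refine ⟨s * ω / (ω + φ ω), ?_⟩
  rw [map_div₀, map_mul, map_add, h2, add_comm (φ ω), ← mul_div_assoc, ← mul_assoc, hs]
  field_simp

/-- The fixed points of a semilinear map. -/
def Fx (φ : F ≃+* F) (κ : F) : Type v := {e : F // κ * φ e = e}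

instance [Finite F] (φ : F ≃+* F) (κ : F) : Finite (Fx φ κ) := Subtype.finite

theorem card_Fx [Finite F] (two : (2 : F) = 0) (h2 : ∀ a, φ (φ a) = a) (h1 : φ ≠ 1) {κ : F}
    (hκ : κ * φ κ = 1) : Nat.card (Fx φ κ) ^ 2 = Nat.card F := by
  let θ : F →+ F := ⟨⟨fun s => s + κ * φ s, by simp⟩, fun a b => by simp only [map_add]; ring⟩
  have e1 : Nat.card θ.ker = Nat.card (Fx φ κ) := Nat.card_congr (Equiv.subtypeEquivRight fun s => by
    change s + κ * φ s = 0 ↔ _
    exact ⟨fun e => by linear_combination e - s * two, fun e => by linear_combination e + s * two⟩)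
  have e2 : Nat.card θ.range = Nat.card (Fx φ κ) :=
    Nat.card_congr (Equiv.subtypeEquivRight fun s => by
      refine ⟨?_, fun e => h90 two h2 h1 e⟩
      rintro ⟨e, rfl⟩
      change κ * φ (e + κ * φ e) = e + κ * φ e
      rw [map_add, map_mul, h2]
      linear_combination e * hκ)
  rw [← θ.ker.index_mul_card, AddSubgroup.index_ker, e1, e2, pow_two]

theorem Fx_ne (two : (2 : F) = 0) (h2 : ∀ a, φ (φ a) = a) (h1 : φ ≠ 1) {κ : F}
    (hκ : κ * φ κ = 1) : ∃ r, r ≠ 0 ∧ κ * φ r = r := by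
  have key : ∀ e, κ * φ (e + κ * φ e) = e + κ * φ e := fun e => by
    rw [map_add, map_mul, h2]
    linear_combination e * hκ
  by_cases h : κ = 1
  · obtain ⟨ω, hω⟩ := ex_moved h1
    exact ⟨_, fun e => hω (by rw [h] at e; linear_combination e - ω * two), key ω⟩
  · exact ⟨_, fun e => h (by rw [map_one] at e; linear_combination e - two), key 1⟩

theorem sq_onto [Finite F] (two : (2 : F) = 0) (a : F) : ∃ c, c * c = a := by
  refine Finite.surjective_of_injective (f := fun c : F => c * c) (fun c d e => ?_) a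
  have e' : c * c = d * d := e
  have : (c + d) ^ 2 = 0 := by linear_combination e' + (c * d + d * d) * two
  have h3 := (pow_eq_zero_iff two_ne_zero).1 this
  linear_combination h3 - d * two

theorem aut_two [Finite F] {φ ψ : F ≃+* F} (ha : φ * φ = 1) (hb : ψ * ψ = 1) (ha1 : φ ≠ 1)
    (hb1 : ψ ≠ 1) : φ * ψ = 1 := by
  classical
  have : IsCyclic (F ≃+* F) := H73.isCyclic_ringAut
  have : Finite (F ≃+* F) := Finite.of_injective _ (DFunLike.coe_injective (F := F ≃+* F))
  have := Fintype.ofFinite (F ≃+* F)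
  by_cases hab : φ = ψ
  · rw [← hab, ha]
  have h1 := IsCyclic.card_pow_eq_one_le (α := F ≃+* F) (n := 2) two_pos
  have h2 : ({1, φ, ψ} : Finset (F ≃+* F)) ⊆ Finset.univ.filter fun x => x ^ 2 = 1 := by
    intro x hx
    simp only [Finset.mem_insert, Finset.mem_singleton] at hx
    rcases hx with rfl | rfl | rfl <;> simp [sq, ha, hb]
  have h3 := Finset.card_le_card h2
  rw [Finset.card_eq_three.2 ⟨1, φ, ψ, ha1.symm, hb1.symm, hab, rfl⟩] at h3
  omega

end Fld

section Count

variable {G : Type u} [Group G]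

theorem card_le_range {α : Type*} [Finite α] {B : Set G} (g : α → G) (h : ∀ b ∈ B, ∃ a, b = g a) :
    Nat.card B ≤ Nat.card α := by
  choose f hf using h
  refine Nat.card_le_card_of_injective (fun b : B => f b b.2) fun b b' e => Subtype.ext ?_
  rw [hf b b.2, hf b' b'.2]
  exact congrArg g e

theorem card_le_two [Finite G] {A B : Set G}
    (h : ∀ a ∈ B, ∀ b ∈ B, a ∉ A → b ∉ A → a * b ∈ A) : Nat.card B ≤ 2 * Nat.card A := by
  by_cases h0 : ∃ g ∈ B, g ∉ A
  · obtain ⟨g, hg, hg'⟩ := h0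
    refine (card_le_range (fun p : Bool × A => if p.1 then g⁻¹ * p.2 else p.2) fun b hb => ?_).trans
      (by simp)
    by_cases hb' : b ∈ A
    · exact ⟨(false, ⟨b, hb'⟩), rfl⟩
    · exact ⟨(true, ⟨g * b, h g hg b hb hg' hb'⟩), by simp⟩
  · push Not at h0
    have := card_le_range (B := B) (fun a : A => (a : G)) fun b hb => ⟨⟨b, h0 b hb⟩, rfl⟩
    omega

theorem mem_tsup {t : G} {V : Subgroup G} (tt : t * t = 1) (c : ∀ v ∈ V, Commute t v) {g : G} :
    g ∈ zpowers t ⊔ V ↔ g ∈ V ∨ t * g ∈ V := by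
  have ti : t⁻¹ = t := inv_eq_of_mul_eq_one_right tt
  let K : Subgroup G :=
    { carrier := {g | g ∈ V ∨ t * g ∈ V}
      one_mem' := Or.inl V.one_mem
      mul_mem' := by
        rintro a b (ha | ha) (hb | hb)
        · exact Or.inl (mul_mem ha hb)
        · right
          rw [← mul_assoc, (c a ha).eq, mul_assoc]
          exact mul_mem ha hb
        · right
          rw [← mul_assoc]
          exact mul_mem ha hb
        · left
          have := mul_mem ha hb
          rwa [← mul_assoc, ← (c _ ha).eq, ← mul_assoc, tt, one_mul] at this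
      inv_mem' := by
        rintro a (ha | ha)
        · exact Or.inl (inv_mem ha)
        · right
          have := inv_mem ha
          have e : t * a⁻¹ = t * (t * a)⁻¹ * t := by group
          rwa [e, (c _ this).eq, mul_assoc, tt, mul_one] }
  constructor
  · intro h
    exact (sup_le (zpowers_le.2 (Or.inr (by rw [tt]; exact V.one_mem))) fun v hv => Or.inl hv :
      zpowers t ⊔ V ≤ K) h
  · rintro (h | h)
    · exact mem_sup_right h
    · have := mul_mem (mem_sup_left (mem_zpowers t)) (mem_sup_right h : t * g ∈ zpowers t ⊔ V)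
      rwa [← mul_assoc, tt, one_mul] at this

theorem card_tsup [Finite G] {t : G} {V : Subgroup G} (tt : t * t = 1)
    (c : ∀ v ∈ V, Commute t v) : Nat.card ↥(zpowers t ⊔ V) ≤ 2 * Nat.card V := by
  refine card_le_two (A := V) (B := ((zpowers t ⊔ V : Subgroup G) : Set G)) fun a ha b hb ha' hb' => ?_
  have h1 := ((mem_tsup tt c).1 ha).resolve_left ha'
  have h2 := ((mem_tsup tt c).1 hb).resolve_left hb'
  have := mul_mem h1 h2
  rwa [← mul_assoc, ← (c _ h1).eq, ← mul_assoc, tt, one_mul] at this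

theorem mem_cj {g y : G} {H : Subgroup G} : y ∈ cj g H ↔ g⁻¹ * y * g ∈ H := by
  constructor
  · rintro ⟨z, hz, rfl⟩
    simpa [mul_assoc] using hz
  · intro h
    exact ⟨_, h, by simp [mul_assoc]⟩

end Count

section El

variable {F : Type v} [Field F] {G : Type u} [Group G] {x : Fin 3 → Fin 3 → F → G}

/-- coordinates on `U` -/
def el (x : Fin 3 → Fin 3 → F → G) (r s e : F) : G := x 0 1 r * x 1 2 s * x 0 2 e

theorem x_zero (st : St3 x) {i j : Fin 3} (h : i ≠ j) : x i j 0 = 1 := by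
  have := st.add i j h 0 0
  rw [add_zero] at this
  exact left_eq_mul.1 this

theorem x_inv (st : St3 x) {i j : Fin 3} (h : i ≠ j) (a : F) : (x i j a)⁻¹ = x i j a := by
  refine inv_eq_of_mul_eq_one_right ?_
  rw [← st.add i j h, ← two_mul, st.two, zero_mul, x_zero st h]

theorem el_a (st : St3 x) (r : F) : el x r 0 0 = x 0 1 r := by
  rw [el, x_zero st (by decide), x_zero st (by decide), mul_one, mul_one]

theorem el_b (st : St3 x) (s : F) : el x 0 s 0 = x 1 2 s := by
  rw [el, x_zero st (by decide), x_zero st (by decide), mul_one, one_mul]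

theorem el_c (st : St3 x) (e : F) : el x 0 0 e = x 0 2 e := by
  rw [el, x_zero st (by decide), x_zero st (by decide), one_mul, one_mul]

theorem el_zero (st : St3 x) : el x 0 0 0 = 1 := by rw [el_c st, x_zero st (by decide)]

theorem el_cg {r s e r' s' e' : F} (h1 : r = r') (h2 : s = s') (h3 : e = e') :
    el x r s e = el x r' s' e' := by rw [h1, h2, h3]

variable (p : Pin3 x)
include p

theorem el_mul (r s e r' s' e' : F) :
    el x r s e * el x r' s' e' = el x (r + r') (s + s') (e + e' + r' * s) :=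
  p.mul 0 1 2 (by decide) (by decide) (by decide) _ _ _ _ _ _

theorem el_inj {r s e r' s' e' : F} (h : el x r s e = el x r' s' e') :
    r = r' ∧ s = s' ∧ e = e' := p.uniq 0 1 2 (by decide) (by decide) (by decide) _ _ _ _ _ _ h

theorem mem_U {g : G} : g ∈ U3 x ↔ ∃ r s e, g = el x r s e :=
  p.memY 0 1 2 (by decide) (by decide) (by decide) g

theorem el_mem (r s e : F) : el x r s e ∈ U3 x := (mem_U p).2 ⟨r, s, e, rfl⟩

theorem el_inv (st : St3 x) (r s e : F) : (el x r s e)⁻¹ = el x r s (e + r * s) := by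
  refine inv_eq_of_mul_eq_one_right ?_
  rw [el_mul p, ← el_zero st]
  have := st.two
  exact el_cg (by linear_combination r * this) (by linear_combination s * this)
    (by linear_combination (e + r * s) * this)

theorem el_conj (st : St3 x) (a b c r s e : F) :
    el x a b c * el x r s e * (el x a b c)⁻¹ = el x r s (e + r * b + a * s) := by
  rw [el_inv p st, el_mul p, el_mul p]
  have := st.two
  exact el_cg (by linear_combination a * this) (by linear_combination b * this)
    (by linear_combination (c + a * b) * this)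

theorem mem_V1 (st : St3 x) {g : G} : g ∈ Row x 0 ↔ ∃ r e, g = el x r 0 e := by
  rw [p.memR 0 1 2 (by decide) (by decide) (by decide)]
  simp only [el, x_zero st (show (1 : Fin 3) ≠ 2 by decide), mul_one]

theorem mem_V2 (st : St3 x) {g : G} : g ∈ Col x 2 ↔ ∃ s e, g = el x 0 s e := by
  rw [p.memC 0 1 2 (by decide) (by decide) (by decide)]
  simp only [el, x_zero st (show (0 : Fin 3) ≠ 1 by decide), one_mul]

theorem mem_Z (st : St3 x) {g : G} : g ∈ X3 x 0 2 ↔ ∃ e, g = el x 0 0 e := by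
  rw [p.memX 0 2 (by decide)]
  simp only [el_c st]

omit p in
/-- The action on `U` of a frame without graph part. -/
def AF (x : Fin 3 → Fin 3 → F → G) (f : G) (φ : F ≃+* F) (c1 c2 : F) : Prop :=
  ∀ r s e, f * el x r s e * f⁻¹ = el x (c1 * φ r) (c2 * φ s) (c1 * c2 * φ e)

omit p in
/-- The action on `U` of a frame with graph part. -/
def AT (x : Fin 3 → Fin 3 → F → G) (f : G) (φ : F ≃+* F) (c1 c2 : F) : Prop :=
  ∀ r s e, f * el x r s e * f⁻¹ =
    el x (c2 * φ s) (c1 * φ r) (c1 * c2 * φ e + c2 * φ s * (c1 * φ r))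

omit p in
theorem conj_el (f : G) (r s e : F) : f * el x r s e * f⁻¹ =
    f * x 0 1 r * f⁻¹ * (f * x 1 2 s * f⁻¹) * (f * x 0 2 e * f⁻¹) := by rw [el]; group

omit p in
theorem d_mul (d : Fin 3 → Fˣ) : (d 0 : F) * ↑(d 1)⁻¹ * (d 1 * ↑(d 2)⁻¹) = d 0 * ↑(d 2)⁻¹ := by
  rw [mul_assoc, Units.inv_mul_cancel_left]

omit p in
theorem fr_false {f : G} {φ : F ≃+* F} (h : Fr3 x f false φ) : ∃ c1 c2, AF x f φ c1 c2 := by
  obtain ⟨d, hd⟩ := h
  refine ⟨d 0 * ↑(d 1)⁻¹, d 1 * ↑(d 2)⁻¹, fun r s e => ?_⟩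
  rw [conj_el, hd 0 1 (by decide), hd 1 2 (by decide), hd 0 2 (by decide), d_mul]
  rfl

theorem fr_true (st : St3 x) {f : G} {φ : F ≃+* F} (h : Fr3 x f true φ) :
    ∃ c1 c2, AT x f φ c1 c2 ∧ ∀ a, f * x 2 0 a * f⁻¹ = x 2 0 ((c1 * c2)⁻¹ * φ a) := by
  obtain ⟨d, hd⟩ := h
  refine ⟨d 0 * ↑(d 1)⁻¹, d 1 * ↑(d 2)⁻¹, fun r s e => ?_, fun a => ?_⟩
  · rw [conj_el, hd 0 1 (by decide), hd 1 2 (by decide), hd 0 2 (by decide), d_mul]
    change x 1 2 _ * x 0 1 _ * x 0 2 _ = _
    rw [← el_a st, ← el_b st, ← el_c st, el_mul p, el_mul p]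
    exact el_cg (by ring) (by ring) (by ring)
  · rw [hd 2 0 (by decide), d_mul]
    change x 2 0 _ = _
    congr 2
    simp

theorem AF.sq {f : G} {φ : F ≃+* F} {c1 c2 : F} (h : AF x f φ c1 c2)
    (c : ∀ u ∈ U3 x, Commute u (f * f)) :
    (∀ a, φ (φ a) = a) ∧ c1 * φ c1 = 1 ∧ c2 * φ c2 = 1 := by
  have key : ∀ r s, c1 * φ (c1 * φ r) = r ∧ c2 * φ (c2 * φ s) = s := fun r s => by
    have e : f * (f * el x r s 0 * f⁻¹) * f⁻¹ = el x r s 0 := by
      calc _ = f * f * el x r s 0 * (f * f)⁻¹ := by group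
        _ = _ := by rw [← (c _ (el_mem p r s 0)).eq]; group
    rw [h, h] at e
    exact ⟨(el_inj p e).1, (el_inj p e).2.1⟩
  have k1 : c1 * φ c1 = 1 := by simpa using (key 1 1).1
  have k2 : c2 * φ c2 = 1 := by simpa using (key 1 1).2
  refine ⟨fun a => ?_, k1, k2⟩
  have := (key a 1).1
  rwa [map_mul, ← mul_assoc, k1, one_mul] at this

theorem AT.sq {f : G} {φ : F ≃+* F} {c1 c2 : F} (h : AT x f φ c1 c2)
    (c : ∀ u ∈ U3 x, Commute u (f * f)) :
    (∀ a, φ (φ a) = a) ∧ c2 * φ c1 = 1 ∧ c1 * φ c2 = 1 := by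
  have key : ∀ r s, c2 * φ (c1 * φ r) = r ∧ c1 * φ (c2 * φ s) = s := fun r s => by
    have e : f * (f * el x r s 0 * f⁻¹) * f⁻¹ = el x r s 0 := by
      calc _ = f * f * el x r s 0 * (f * f)⁻¹ := by group
        _ = _ := by rw [← (c _ (el_mem p r s 0)).eq]; group
    rw [h, h] at e
    exact ⟨(el_inj p e).1, (el_inj p e).2.1⟩
  have k1 : c2 * φ c1 = 1 := by simpa using (key 1 1).1
  have k2 : c1 * φ c2 = 1 := by simpa using (key 1 1).2
  refine ⟨fun a => ?_, k1, k2⟩
  have := (key a 1).1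
  rwa [map_mul, ← mul_assoc, k1, one_mul] at this

/-- A frame lying in `U` is trivial. -/
theorem frame_U (st : St3 x) {u : G} (hu : u ∈ U3 x)
    (h : ∀ i j, i ≠ j → ∃ g, u * x i j 1 * u⁻¹ = x i j g) : u = 1 := by
  obtain ⟨r, s, e, rfl⟩ := (mem_U p).1 hu
  obtain ⟨g1, h1⟩ := h 0 1 (by decide)
  obtain ⟨g2, h2⟩ := h 1 2 (by decide)
  obtain ⟨g3, h3⟩ := h 1 0 (by decide)
  rw [← el_a st, ← el_a st, el_conj p st] at h1
  rw [← el_b st, ← el_b st, el_conj p st] at h2
  have e1 : s = 0 := by simpa using (el_inj p h1).2.2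
  have e2 : r = 0 := by simpa using (el_inj p h2).2.2
  subst e1 e2
  rw [el_c st] at h3 ⊢
  have h4 := st.rel 1 0 2 (by decide) (by decide) (by decide) 1 e
  have h5 : x 1 0 (1 + g3) * x 0 2 0 * x 1 2 0 = x 1 0 0 * x 0 2 0 * x 1 2 (1 * e) := by
    rw [← h4, st.add 1 0 (by decide), ← x_inv st (by decide) g3, ← h3,
      x_zero st (show (0 : Fin 3) ≠ 2 by decide), x_zero st (show (1 : Fin 3) ≠ 2 by decide),
      x_zero st (show (1 : Fin 3) ≠ 0 by decide)]
    group
  have := (p.uniq 1 0 2 (by decide) (by decide) (by decide) _ _ _ _ _ _ h5).2.2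
  rw [one_mul] at this
  rw [← this, x_zero st (by decide)]

omit p in
theorem fr_sq {f : G} {ε : Bool} {φ : F ≃+* F} (h : Fr3 x f ε φ) (i j : Fin 3) (hij : i ≠ j)
    (a : F) : ∃ g, f * f * x i j a * (f * f)⁻¹ = x i j g := by
  obtain ⟨d, hd⟩ := h
  have e : f * f * x i j a * (f * f)⁻¹ = f * (f * x i j a * f⁻¹) * f⁻¹ := by group
  rw [e, hd i j hij]
  cases ε
  · exact ⟨_, hd i j hij _⟩
  · have := hd j.rev i.rev (fun e => hij (Fin.rev_injective e).symm) (d i * ↑(d j)⁻¹ * φ a)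
    simp only [fl, if_true, Fin.rev_rev] at this
    exact ⟨_, this⟩

end El

end Cfsg.Agent.H77.L3
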