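import Cfsg.Agent.H77.LpKit

/-! The action of the generators of `H` on the codes of `Q / Z`. -/

set_option autoImplicit false
set_option linter.unusedSimpArgs false
set_option linter.unusedTactic false
set_option linter.unreachableTactic false

namespace Cfsg.Agent.H77.Lp

open Subgroup Matrix Cfsg.Agent.H17.LP

def a0 (c : ℕ) : ℕ :=
  (bt c 0 ^^^ bt c 3) + 2 * (bt c 1 ^^^ bt c 4) + 4 * (bt c 2 ^^^ bt c 5) + 8 * bt c 3 + 16 *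
  bt c 4 + 32 * bt c 5 + 64 * (bt c 6 ^^^ bt c 9) + 128 * (bt c 7 ^^^ bt c 10) + 256 * (bt c 8
  ^^^ bt c 11) + 512 * bt c 9 + 1024 * bt c 10 + 2048 * bt c 11

theorem act0 {v : N0} (hv : v ∈ Q0) : qc (xx 1 2 * v * xx 1 2) = a0 (qc v) := by
  obtain ⟨b0, b1, b2, b3, b4, b5, b6, b7, b8, b9, b10, b11⟩ := bt_qc v
  unfold a0
  rw [b0, b1, b2, b3, b4, b5, b6, b7, b8, b9, b10, b11]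
  simp only [← vadd]
  obtain ⟨d0, d1, d2, d3, d4, d5, d6, d7, d8, d9, d10, d11, d12, d13, d14, d15, d16, d17, d18⟩ := Q_facts hv
  obtain ⟨l0, l1, l2, l3, l4, l5, l6, l7, l8, l9, l10, l11, l12, l13, l14⟩ := A_facts v
  obtain ⟨m0, m1, m2⟩ := Qa_facts hv
  have kg : (xx 1 2).g.1 0 0 = 1 ∧ (xx 1 2).g.1 0 1 = 1 ∧ (xx 1 2).g.1 0 2 = 0 ∧ (xx 1 2).g.1 0 3 =
      0 ∧ (xx 1 2).g.1 0 4 = 0 ∧ (xx 1 2).g.1 1 0 = 0 ∧ (xx 1 2).g.1 1 1 = 1 ∧ (xx 1 2).g.1 1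
      2 = 0 ∧ (xx 1 2).g.1 1 3 = 0 ∧ (xx 1 2).g.1 1 4 = 0 ∧ (xx 1 2).g.1 2 0 = 0 ∧ (xx 1
      2).g.1 2 1 = 0 ∧ (xx 1 2).g.1 2 2 = 1 ∧ (xx 1 2).g.1 2 3 = 0 ∧ (xx 1 2).g.1 2 4 = 0 ∧
      (xx 1 2).g.1 3 0 = 0 ∧ (xx 1 2).g.1 3 1 = 0 ∧ (xx 1 2).g.1 3 2 = 0 ∧ (xx 1 2).g.1 3 3 =
      1 ∧ (xx 1 2).g.1 3 4 = 0 ∧ (xx 1 2).g.1 4 0 = 0 ∧ (xx 1 2).g.1 4 1 = 0 ∧ (xx 1 2).g.1 4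
      2 = 0 ∧ (xx 1 2).g.1 4 3 = 0 ∧ (xx 1 2).g.1 4 4 = 1 := by decide +kernel
  have ka : (xx 1 2).a 0 0 = 0 ∧ (xx 1 2).a 0 1 = 0 ∧ (xx 1 2).a 0 2 = 0 ∧ (xx 1 2).a 0 3 = 0 ∧ (xx
      1 2).a 0 4 = 0 ∧ (xx 1 2).a 1 0 = 0 ∧ (xx 1 2).a 1 1 = 0 ∧ (xx 1 2).a 1 2 = 0 ∧ (xx 1
      2).a 1 3 = 0 ∧ (xx 1 2).a 1 4 = 0 ∧ (xx 1 2).a 2 0 = 0 ∧ (xx 1 2).a 2 1 = 0 ∧ (xx 1 2).a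
      2 2 = 0 ∧ (xx 1 2).a 2 3 = 0 ∧ (xx 1 2).a 2 4 = 0 ∧ (xx 1 2).a 3 0 = 0 ∧ (xx 1 2).a 3 1
      = 0 ∧ (xx 1 2).a 3 2 = 0 ∧ (xx 1 2).a 3 3 = 0 ∧ (xx 1 2).a 3 4 = 0 ∧ (xx 1 2).a 4 0 = 0
      ∧ (xx 1 2).a 4 1 = 0 ∧ (xx 1 2).a 4 2 = 0 ∧ (xx 1 2).a 4 3 = 0 ∧ (xx 1 2).a 4 4 = 0 := by decide +kernel
  have h : (xx 1 2 * v * xx 1 2).a 0 2 = v.a 0 2 + v.a 1 2 ∧ (xx 1 2 * v * xx 1 2).a 0 3 = v.a 0 3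
      + v.a 1 3 ∧ (xx 1 2 * v * xx 1 2).a 0 4 = v.a 0 4 + v.a 1 4 ∧ (xx 1 2 * v * xx 1 2).a 1
      2 = v.a 1 2 ∧ (xx 1 2 * v * xx 1 2).a 1 3 = v.a 1 3 ∧ (xx 1 2 * v * xx 1 2).a 1 4 = v.a
      1 4 ∧ (xx 1 2 * v * xx 1 2).g.1 0 2 = v.g.1 0 2 + v.g.1 1 2 ∧ (xx 1 2 * v * xx 1 2).g.1
      0 3 = v.g.1 0 3 + v.g.1 1 3 ∧ (xx 1 2 * v * xx 1 2).g.1 0 4 = v.g.1 0 4 + v.g.1 1 4 ∧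
      (xx 1 2 * v * xx 1 2).g.1 1 2 = v.g.1 1 2 ∧ (xx 1 2 * v * xx 1 2).g.1 1 3 = v.g.1 1 3 ∧
      (xx 1 2 * v * xx 1 2).g.1 1 4 = v.g.1 1 4 := by
    simp only [mul_a, mul_g, coe_mul', Matrix.add_apply, Matrix.mul_apply, transpose_apply,
      Fin.sum_univ_five, kg, ka, d0, d1, d2, d3, d4, d5, d6, d7, d8, d9, d10, d11, d12, d13, d14, d15, d16, d17, d18,
      l0, l1, l2, l3, l4, l5, l6, l7, l8, l9, l10, l11, l12, l13, l14, m0, m1, m2,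
      mul_zero, zero_mul, add_zero, zero_add, mul_one, one_mul, true_and, and_true]
    try (repeat' apply And.intro)
    all_goals first | trivial | ring1
  obtain ⟨h0, h1, h2, h3, h4, h5, h6, h7, h8, h9, h10, h11⟩ := h
  rw [qc, h0, h1, h2, h3, h4, h5, h6, h7, h8, h9, h10, h11]

def a1 (c : ℕ) : ℕ :=
  bt c 0 + 2 * bt c 1 + 4 * bt c 2 + 8 * (bt c 3 ^^^ bt c 0) + 16 * (bt c 4 ^^^ bt c 1) + 32 *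
  (bt c 5 ^^^ bt c 2) + 64 * bt c 6 + 128 * bt c 7 + 256 * bt c 8 + 512 * (bt c 9 ^^^ bt c 6)
  + 1024 * (bt c 10 ^^^ bt c 7) + 2048 * (bt c 11 ^^^ bt c 8)

theorem act1 {v : N0} (hv : v ∈ Q0) : qc (xx 2 1 * v * xx 2 1) = a1 (qc v) := by
  obtain ⟨b0, b1, b2, b3, b4, b5, b6, b7, b8, b9, b10, b11⟩ := bt_qc v
  unfold a1
  rw [b0, b1, b2, b3, b4, b5, b6, b7, b8, b9, b10, b11]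
  simp only [← vadd]
  obtain ⟨d0, d1, d2, d3, d4, d5, d6, d7, d8, d9, d10, d11, d12, d13, d14, d15, d16, d17, d18⟩ := Q_facts hv
  obtain ⟨l0, l1, l2, l3, l4, l5, l6, l7, l8, l9, l10, l11, l12, l13, l14⟩ := A_facts v
  obtain ⟨m0, m1, m2⟩ := Qa_facts hv
  have kg : (xx 2 1).g.1 0 0 = 1 ∧ (xx 2 1).g.1 0 1 = 0 ∧ (xx 2 1).g.1 0 2 = 0 ∧ (xx 2 1).g.1 0 3 =
      0 ∧ (xx 2 1).g.1 0 4 = 0 ∧ (xx 2 1).g.1 1 0 = 1 ∧ (xx 2 1).g.1 1 1 = 1 ∧ (xx 2 1).g.1 1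
      2 = 0 ∧ (xx 2 1).g.1 1 3 = 0 ∧ (xx 2 1).g.1 1 4 = 0 ∧ (xx 2 1).g.1 2 0 = 0 ∧ (xx 2
      1).g.1 2 1 = 0 ∧ (xx 2 1).g.1 2 2 = 1 ∧ (xx 2 1).g.1 2 3 = 0 ∧ (xx 2 1).g.1 2 4 = 0 ∧
      (xx 2 1).g.1 3 0 = 0 ∧ (xx 2 1).g.1 3 1 = 0 ∧ (xx 2 1).g.1 3 2 = 0 ∧ (xx 2 1).g.1 3 3 =
      1 ∧ (xx 2 1).g.1 3 4 = 0 ∧ (xx 2 1).g.1 4 0 = 0 ∧ (xx 2 1).g.1 4 1 = 0 ∧ (xx 2 1).g.1 4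
      2 = 0 ∧ (xx 2 1).g.1 4 3 = 0 ∧ (xx 2 1).g.1 4 4 = 1 := by decide +kernel
  have ka : (xx 2 1).a 0 0 = 0 ∧ (xx 2 1).a 0 1 = 0 ∧ (xx 2 1).a 0 2 = 0 ∧ (xx 2 1).a 0 3 = 0 ∧ (xx
      2 1).a 0 4 = 0 ∧ (xx 2 1).a 1 0 = 0 ∧ (xx 2 1).a 1 1 = 0 ∧ (xx 2 1).a 1 2 = 0 ∧ (xx 2
      1).a 1 3 = 0 ∧ (xx 2 1).a 1 4 = 0 ∧ (xx 2 1).a 2 0 = 0 ∧ (xx 2 1).a 2 1 = 0 ∧ (xx 2 1).a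
      2 2 = 0 ∧ (xx 2 1).a 2 3 = 0 ∧ (xx 2 1).a 2 4 = 0 ∧ (xx 2 1).a 3 0 = 0 ∧ (xx 2 1).a 3 1
      = 0 ∧ (xx 2 1).a 3 2 = 0 ∧ (xx 2 1).a 3 3 = 0 ∧ (xx 2 1).a 3 4 = 0 ∧ (xx 2 1).a 4 0 = 0
      ∧ (xx 2 1).a 4 1 = 0 ∧ (xx 2 1).a 4 2 = 0 ∧ (xx 2 1).a 4 3 = 0 ∧ (xx 2 1).a 4 4 = 0 := by decide +kernel
  have h : (xx 2 1 * v * xx 2 1).a 0 2 = v.a 0 2 ∧ (xx 2 1 * v * xx 2 1).a 0 3 = v.a 0 3 ∧ (xx 2 1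
      * v * xx 2 1).a 0 4 = v.a 0 4 ∧ (xx 2 1 * v * xx 2 1).a 1 2 = v.a 1 2 + v.a 0 2 ∧ (xx 2
      1 * v * xx 2 1).a 1 3 = v.a 1 3 + v.a 0 3 ∧ (xx 2 1 * v * xx 2 1).a 1 4 = v.a 1 4 + v.a
      0 4 ∧ (xx 2 1 * v * xx 2 1).g.1 0 2 = v.g.1 0 2 ∧ (xx 2 1 * v * xx 2 1).g.1 0 3 = v.g.1
      0 3 ∧ (xx 2 1 * v * xx 2 1).g.1 0 4 = v.g.1 0 4 ∧ (xx 2 1 * v * xx 2 1).g.1 1 2 = v.g.1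
      1 2 + v.g.1 0 2 ∧ (xx 2 1 * v * xx 2 1).g.1 1 3 = v.g.1 1 3 + v.g.1 0 3 ∧ (xx 2 1 * v *
      xx 2 1).g.1 1 4 = v.g.1 1 4 + v.g.1 0 4 := by
    simp only [mul_a, mul_g, coe_mul', Matrix.add_apply, Matrix.mul_apply, transpose_apply,
      Fin.sum_univ_five, kg, ka, d0, d1, d2, d3, d4, d5, d6, d7, d8, d9, d10, d11, d12, d13, d14, d15, d16, d17, d18,
      l0, l1, l2, l3, l4, l5, l6, l7, l8, l9, l10, l11, l12, l13, l14, m0, m1, m2,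
      mul_zero, zero_mul, add_zero, zero_add, mul_one, one_mul, true_and, and_true]
    try (repeat' apply And.intro)
    all_goals first | trivial | ring1
  obtain ⟨h0, h1, h2, h3, h4, h5, h6, h7, h8, h9, h10, h11⟩ := h
  rw [qc, h0, h1, h2, h3, h4, h5, h6, h7, h8, h9, h10, h11]

def a2 (c : ℕ) : ℕ :=
  (bt c 0 ^^^ bt c 1) + 2 * bt c 1 + 4 * bt c 2 + 8 * (bt c 3 ^^^ bt c 4) + 16 * bt c 4 + 32 *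
  bt c 5 + 64 * bt c 6 + 128 * (bt c 7 ^^^ bt c 6) + 256 * bt c 8 + 512 * bt c 9 + 1024 * (bt
  c 10 ^^^ bt c 9) + 2048 * bt c 11

theorem act2 {v : N0} (hv : v ∈ Q0) : qc (xx 3 4 * v * xx 3 4) = a2 (qc v) := by
  obtain ⟨b0, b1, b2, b3, b4, b5, b6, b7, b8, b9, b10, b11⟩ := bt_qc v
  unfold a2
  rw [b0, b1, b2, b3, b4, b5, b6, b7, b8, b9, b10, b11]
  simp only [← vadd]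
  obtain ⟨d0, d1, d2, d3, d4, d5, d6, d7, d8, d9, d10, d11, d12, d13, d14, d15, d16, d17, d18⟩ := Q_facts hv
  obtain ⟨l0, l1, l2, l3, l4, l5, l6, l7, l8, l9, l10, l11, l12, l13, l14⟩ := A_facts v
  obtain ⟨m0, m1, m2⟩ := Qa_facts hv
  have kg : (xx 3 4).g.1 0 0 = 1 ∧ (xx 3 4).g.1 0 1 = 0 ∧ (xx 3 4).g.1 0 2 = 0 ∧ (xx 3 4).g.1 0 3 =
      0 ∧ (xx 3 4).g.1 0 4 = 0 ∧ (xx 3 4).g.1 1 0 = 0 ∧ (xx 3 4).g.1 1 1 = 1 ∧ (xx 3 4).g.1 1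
      2 = 0 ∧ (xx 3 4).g.1 1 3 = 0 ∧ (xx 3 4).g.1 1 4 = 0 ∧ (xx 3 4).g.1 2 0 = 0 ∧ (xx 3
      4).g.1 2 1 = 0 ∧ (xx 3 4).g.1 2 2 = 1 ∧ (xx 3 4).g.1 2 3 = 1 ∧ (xx 3 4).g.1 2 4 = 0 ∧
      (xx 3 4).g.1 3 0 = 0 ∧ (xx 3 4).g.1 3 1 = 0 ∧ (xx 3 4).g.1 3 2 = 0 ∧ (xx 3 4).g.1 3 3 =
      1 ∧ (xx 3 4).g.1 3 4 = 0 ∧ (xx 3 4).g.1 4 0 = 0 ∧ (xx 3 4).g.1 4 1 = 0 ∧ (xx 3 4).g.1 4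
      2 = 0 ∧ (xx 3 4).g.1 4 3 = 0 ∧ (xx 3 4).g.1 4 4 = 1 := by decide +kernel
  have ka : (xx 3 4).a 0 0 = 0 ∧ (xx 3 4).a 0 1 = 0 ∧ (xx 3 4).a 0 2 = 0 ∧ (xx 3 4).a 0 3 = 0 ∧ (xx
      3 4).a 0 4 = 0 ∧ (xx 3 4).a 1 0 = 0 ∧ (xx 3 4).a 1 1 = 0 ∧ (xx 3 4).a 1 2 = 0 ∧ (xx 3
      4).a 1 3 = 0 ∧ (xx 3 4).a 1 4 = 0 ∧ (xx 3 4).a 2 0 = 0 ∧ (xx 3 4).a 2 1 = 0 ∧ (xx 3 4).a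
      2 2 = 0 ∧ (xx 3 4).a 2 3 = 0 ∧ (xx 3 4).a 2 4 = 0 ∧ (xx 3 4).a 3 0 = 0 ∧ (xx 3 4).a 3 1
      = 0 ∧ (xx 3 4).a 3 2 = 0 ∧ (xx 3 4).a 3 3 = 0 ∧ (xx 3 4).a 3 4 = 0 ∧ (xx 3 4).a 4 0 = 0
      ∧ (xx 3 4).a 4 1 = 0 ∧ (xx 3 4).a 4 2 = 0 ∧ (xx 3 4).a 4 3 = 0 ∧ (xx 3 4).a 4 4 = 0 := by decide +kernel
  have h : (xx 3 4 * v * xx 3 4).a 0 2 = v.a 0 2 + v.a 0 3 ∧ (xx 3 4 * v * xx 3 4).a 0 3 = v.a 0 3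
      ∧ (xx 3 4 * v * xx 3 4).a 0 4 = v.a 0 4 ∧ (xx 3 4 * v * xx 3 4).a 1 2 = v.a 1 2 + v.a 1
      3 ∧ (xx 3 4 * v * xx 3 4).a 1 3 = v.a 1 3 ∧ (xx 3 4 * v * xx 3 4).a 1 4 = v.a 1 4 ∧ (xx
      3 4 * v * xx 3 4).g.1 0 2 = v.g.1 0 2 ∧ (xx 3 4 * v * xx 3 4).g.1 0 3 = v.g.1 0 3 +
      v.g.1 0 2 ∧ (xx 3 4 * v * xx 3 4).g.1 0 4 = v.g.1 0 4 ∧ (xx 3 4 * v * xx 3 4).g.1 1 2 =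
      v.g.1 1 2 ∧ (xx 3 4 * v * xx 3 4).g.1 1 3 = v.g.1 1 3 + v.g.1 1 2 ∧ (xx 3 4 * v * xx 3
      4).g.1 1 4 = v.g.1 1 4 := by
    simp only [mul_a, mul_g, coe_mul', Matrix.add_apply, Matrix.mul_apply, transpose_apply,
      Fin.sum_univ_five, kg, ka, d0, d1, d2, d3, d4, d5, d6, d7, d8, d9, d10, d11, d12, d13, d14, d15, d16, d17, d18,
      l0, l1, l2, l3, l4, l5, l6, l7, l8, l9, l10, l11, l12, l13, l14, m0, m1, m2,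
      mul_zero, zero_mul, add_zero, zero_add, mul_one, one_mul, true_and, and_true]
    try (repeat' apply And.intro)
    all_goals first | trivial | ring1
  obtain ⟨h0, h1, h2, h3, h4, h5, h6, h7, h8, h9, h10, h11⟩ := h
  rw [qc, h0, h1, h2, h3, h4, h5, h6, h7, h8, h9, h10, h11]

def a3 (c : ℕ) : ℕ :=
  bt c 0 + 2 * (bt c 1 ^^^ bt c 0) + 4 * bt c 2 + 8 * bt c 3 + 16 * (bt c 4 ^^^ bt c 3) + 32 *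
  bt c 5 + 64 * (bt c 6 ^^^ bt c 7) + 128 * bt c 7 + 256 * bt c 8 + 512 * (bt c 9 ^^^ bt c 10)
  + 1024 * bt c 10 + 2048 * bt c 11

theorem act3 {v : N0} (hv : v ∈ Q0) : qc (xx 4 3 * v * xx 4 3) = a3 (qc v) := by
  obtain ⟨b0, b1, b2, b3, b4, b5, b6, b7, b8, b9, b10, b11⟩ := bt_qc v
  unfold a3
  rw [b0, b1, b2, b3, b4, b5, b6, b7, b8, b9, b10, b11]
  simp only [← vadd]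
  obtain ⟨d0, d1, d2, d3, d4, d5, d6, d7, d8, d9, d10, d11, d12, d13, d14, d15, d16, d17, d18⟩ := Q_facts hv
  obtain ⟨l0, l1, l2, l3, l4, l5, l6, l7, l8, l9, l10, l11, l12, l13, l14⟩ := A_facts v
  obtain ⟨m0, m1, m2⟩ := Qa_facts hv
  have kg : (xx 4 3).g.1 0 0 = 1 ∧ (xx 4 3).g.1 0 1 = 0 ∧ (xx 4 3).g.1 0 2 = 0 ∧ (xx 4 3).g.1 0 3 =
      0 ∧ (xx 4 3).g.1 0 4 = 0 ∧ (xx 4 3).g.1 1 0 = 0 ∧ (xx 4 3).g.1 1 1 = 1 ∧ (xx 4 3).g.1 1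
      2 = 0 ∧ (xx 4 3).g.1 1 3 = 0 ∧ (xx 4 3).g.1 1 4 = 0 ∧ (xx 4 3).g.1 2 0 = 0 ∧ (xx 4
      3).g.1 2 1 = 0 ∧ (xx 4 3).g.1 2 2 = 1 ∧ (xx 4 3).g.1 2 3 = 0 ∧ (xx 4 3).g.1 2 4 = 0 ∧
      (xx 4 3).g.1 3 0 = 0 ∧ (xx 4 3).g.1 3 1 = 0 ∧ (xx 4 3).g.1 3 2 = 1 ∧ (xx 4 3).g.1 3 3 =
      1 ∧ (xx 4 3).g.1 3 4 = 0 ∧ (xx 4 3).g.1 4 0 = 0 ∧ (xx 4 3).g.1 4 1 = 0 ∧ (xx 4 3).g.1 4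
      2 = 0 ∧ (xx 4 3).g.1 4 3 = 0 ∧ (xx 4 3).g.1 4 4 = 1 := by decide +kernel
  have ka : (xx 4 3).a 0 0 = 0 ∧ (xx 4 3).a 0 1 = 0 ∧ (xx 4 3).a 0 2 = 0 ∧ (xx 4 3).a 0 3 = 0 ∧ (xx
      4 3).a 0 4 = 0 ∧ (xx 4 3).a 1 0 = 0 ∧ (xx 4 3).a 1 1 = 0 ∧ (xx 4 3).a 1 2 = 0 ∧ (xx 4
      3).a 1 3 = 0 ∧ (xx 4 3).a 1 4 = 0 ∧ (xx 4 3).a 2 0 = 0 ∧ (xx 4 3).a 2 1 = 0 ∧ (xx 4 3).a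
      2 2 = 0 ∧ (xx 4 3).a 2 3 = 0 ∧ (xx 4 3).a 2 4 = 0 ∧ (xx 4 3).a 3 0 = 0 ∧ (xx 4 3).a 3 1
      = 0 ∧ (xx 4 3).a 3 2 = 0 ∧ (xx 4 3).a 3 3 = 0 ∧ (xx 4 3).a 3 4 = 0 ∧ (xx 4 3).a 4 0 = 0
      ∧ (xx 4 3).a 4 1 = 0 ∧ (xx 4 3).a 4 2 = 0 ∧ (xx 4 3).a 4 3 = 0 ∧ (xx 4 3).a 4 4 = 0 := by decide +kernel
  have h : (xx 4 3 * v * xx 4 3).a 0 2 = v.a 0 2 ∧ (xx 4 3 * v * xx 4 3).a 0 3 = v.a 0 3 + v.a 0 2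
      ∧ (xx 4 3 * v * xx 4 3).a 0 4 = v.a 0 4 ∧ (xx 4 3 * v * xx 4 3).a 1 2 = v.a 1 2 ∧ (xx 4
      3 * v * xx 4 3).a 1 3 = v.a 1 3 + v.a 1 2 ∧ (xx 4 3 * v * xx 4 3).a 1 4 = v.a 1 4 ∧ (xx
      4 3 * v * xx 4 3).g.1 0 2 = v.g.1 0 2 + v.g.1 0 3 ∧ (xx 4 3 * v * xx 4 3).g.1 0 3 =
      v.g.1 0 3 ∧ (xx 4 3 * v * xx 4 3).g.1 0 4 = v.g.1 0 4 ∧ (xx 4 3 * v * xx 4 3).g.1 1 2 =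
      v.g.1 1 2 + v.g.1 1 3 ∧ (xx 4 3 * v * xx 4 3).g.1 1 3 = v.g.1 1 3 ∧ (xx 4 3 * v * xx 4
      3).g.1 1 4 = v.g.1 1 4 := by
    simp only [mul_a, mul_g, coe_mul', Matrix.add_apply, Matrix.mul_apply, transpose_apply,
      Fin.sum_univ_five, kg, ka, d0, d1, d2, d3, d4, d5, d6, d7, d8, d9, d10, d11, d12, d13, d14, d15, d16, d17, d18,
      l0, l1, l2, l3, l4, l5, l6, l7, l8, l9, l10, l11, l12, l13, l14, m0, m1, m2,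
      mul_zero, zero_mul, add_zero, zero_add, mul_one, one_mul, true_and, and_true]
    try (repeat' apply And.intro)
    all_goals first | trivial | ring1
  obtain ⟨h0, h1, h2, h3, h4, h5, h6, h7, h8, h9, h10, h11⟩ := h
  rw [qc, h0, h1, h2, h3, h4, h5, h6, h7, h8, h9, h10, h11]

def a4 (c : ℕ) : ℕ :=
  bt c 0 + 2 * (bt c 1 ^^^ bt c 2) + 4 * bt c 2 + 8 * bt c 3 + 16 * (bt c 4 ^^^ bt c 5) + 32 *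
  bt c 5 + 64 * bt c 6 + 128 * bt c 7 + 256 * (bt c 8 ^^^ bt c 7) + 512 * bt c 9 + 1024 * bt c
  10 + 2048 * (bt c 11 ^^^ bt c 10)

theorem act4 {v : N0} (hv : v ∈ Q0) : qc (xx 4 5 * v * xx 4 5) = a4 (qc v) := by
  obtain ⟨b0, b1, b2, b3, b4, b5, b6, b7, b8, b9, b10, b11⟩ := bt_qc v
  unfold a4
  rw [b0, b1, b2, b3, b4, b5, b6, b7, b8, b9, b10, b11]
  simp only [← vadd]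
  obtain ⟨d0, d1, d2, d3, d4, d5, d6, d7, d8, d9, d10, d11, d12, d13, d14, d15, d16, d17, d18⟩ := Q_facts hv
  obtain ⟨l0, l1, l2, l3, l4, l5, l6, l7, l8, l9, l10, l11, l12, l13, l14⟩ := A_facts v
  obtain ⟨m0, m1, m2⟩ := Qa_facts hv
  have kg : (xx 4 5).g.1 0 0 = 1 ∧ (xx 4 5).g.1 0 1 = 0 ∧ (xx 4 5).g.1 0 2 = 0 ∧ (xx 4 5).g.1 0 3 =
      0 ∧ (xx 4 5).g.1 0 4 = 0 ∧ (xx 4 5).g.1 1 0 = 0 ∧ (xx 4 5).g.1 1 1 = 1 ∧ (xx 4 5).g.1 1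
      2 = 0 ∧ (xx 4 5).g.1 1 3 = 0 ∧ (xx 4 5).g.1 1 4 = 0 ∧ (xx 4 5).g.1 2 0 = 0 ∧ (xx 4
      5).g.1 2 1 = 0 ∧ (xx 4 5).g.1 2 2 = 1 ∧ (xx 4 5).g.1 2 3 = 0 ∧ (xx 4 5).g.1 2 4 = 0 ∧
      (xx 4 5).g.1 3 0 = 0 ∧ (xx 4 5).g.1 3 1 = 0 ∧ (xx 4 5).g.1 3 2 = 0 ∧ (xx 4 5).g.1 3 3 =
      1 ∧ (xx 4 5).g.1 3 4 = 1 ∧ (xx 4 5).g.1 4 0 = 0 ∧ (xx 4 5).g.1 4 1 = 0 ∧ (xx 4 5).g.1 4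
      2 = 0 ∧ (xx 4 5).g.1 4 3 = 0 ∧ (xx 4 5).g.1 4 4 = 1 := by decide +kernel
  have ka : (xx 4 5).a 0 0 = 0 ∧ (xx 4 5).a 0 1 = 0 ∧ (xx 4 5).a 0 2 = 0 ∧ (xx 4 5).a 0 3 = 0 ∧ (xx
      4 5).a 0 4 = 0 ∧ (xx 4 5).a 1 0 = 0 ∧ (xx 4 5).a 1 1 = 0 ∧ (xx 4 5).a 1 2 = 0 ∧ (xx 4
      5).a 1 3 = 0 ∧ (xx 4 5).a 1 4 = 0 ∧ (xx 4 5).a 2 0 = 0 ∧ (xx 4 5).a 2 1 = 0 ∧ (xx 4 5).a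
      2 2 = 0 ∧ (xx 4 5).a 2 3 = 0 ∧ (xx 4 5).a 2 4 = 0 ∧ (xx 4 5).a 3 0 = 0 ∧ (xx 4 5).a 3 1
      = 0 ∧ (xx 4 5).a 3 2 = 0 ∧ (xx 4 5).a 3 3 = 0 ∧ (xx 4 5).a 3 4 = 0 ∧ (xx 4 5).a 4 0 = 0
      ∧ (xx 4 5).a 4 1 = 0 ∧ (xx 4 5).a 4 2 = 0 ∧ (xx 4 5).a 4 3 = 0 ∧ (xx 4 5).a 4 4 = 0 := by decide +kernel
  have h : (xx 4 5 * v * xx 4 5).a 0 2 = v.a 0 2 ∧ (xx 4 5 * v * xx 4 5).a 0 3 = v.a 0 3 + v.a 0 4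
      ∧ (xx 4 5 * v * xx 4 5).a 0 4 = v.a 0 4 ∧ (xx 4 5 * v * xx 4 5).a 1 2 = v.a 1 2 ∧ (xx 4
      5 * v * xx 4 5).a 1 3 = v.a 1 3 + v.a 1 4 ∧ (xx 4 5 * v * xx 4 5).a 1 4 = v.a 1 4 ∧ (xx
      4 5 * v * xx 4 5).g.1 0 2 = v.g.1 0 2 ∧ (xx 4 5 * v * xx 4 5).g.1 0 3 = v.g.1 0 3 ∧ (xx
      4 5 * v * xx 4 5).g.1 0 4 = v.g.1 0 4 + v.g.1 0 3 ∧ (xx 4 5 * v * xx 4 5).g.1 1 2 =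
      v.g.1 1 2 ∧ (xx 4 5 * v * xx 4 5).g.1 1 3 = v.g.1 1 3 ∧ (xx 4 5 * v * xx 4 5).g.1 1 4 =
      v.g.1 1 4 + v.g.1 1 3 := by
    simp only [mul_a, mul_g, coe_mul', Matrix.add_apply, Matrix.mul_apply, transpose_apply,
      Fin.sum_univ_five, kg, ka, d0, d1, d2, d3, d4, d5, d6, d7, d8, d9, d10, d11, d12, d13, d14, d15, d16, d17, d18,
      l0, l1, l2, l3, l4, l5, l6, l7, l8, l9, l10, l11, l12, l13, l14, m0, m1, m2,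
      mul_zero, zero_mul, add_zero, zero_add, mul_one, one_mul, true_and, and_true]
    try (repeat' apply And.intro)
    all_goals first | trivial | ring1
  obtain ⟨h0, h1, h2, h3, h4, h5, h6, h7, h8, h9, h10, h11⟩ := h
  rw [qc, h0, h1, h2, h3, h4, h5, h6, h7, h8, h9, h10, h11]

def a5 (c : ℕ) : ℕ :=
  (bt c 0 ^^^ bt c 7) + 2 * (bt c 1 ^^^ bt c 6) + 4 * bt c 2 + 8 * (bt c 3 ^^^ bt c 10) + 16 *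
  (bt c 4 ^^^ bt c 9) + 32 * bt c 5 + 64 * bt c 6 + 128 * bt c 7 + 256 * bt c 8 + 512 * bt c 9
  + 1024 * bt c 10 + 2048 * bt c 11

theorem act5 {v : N0} (hv : v ∈ Q0) : qc (zz 3 4 * v * zz 3 4) = a5 (qc v) := by
  obtain ⟨b0, b1, b2, b3, b4, b5, b6, b7, b8, b9, b10, b11⟩ := bt_qc v
  unfold a5
  rw [b0, b1, b2, b3, b4, b5, b6, b7, b8, b9, b10, b11]
  simp only [← vadd]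
  obtain ⟨d0, d1, d2, d3, d4, d5, d6, d7, d8, d9, d10, d11, d12, d13, d14, d15, d16, d17, d18⟩ := Q_facts hv
  obtain ⟨l0, l1, l2, l3, l4, l5, l6, l7, l8, l9, l10, l11, l12, l13, l14⟩ := A_facts v
  obtain ⟨m0, m1, m2⟩ := Qa_facts hv
  have kg : (zz 3 4).g.1 0 0 = 1 ∧ (zz 3 4).g.1 0 1 = 0 ∧ (zz 3 4).g.1 0 2 = 0 ∧ (zz 3 4).g.1 0 3 =
      0 ∧ (zz 3 4).g.1 0 4 = 0 ∧ (zz 3 4).g.1 1 0 = 0 ∧ (zz 3 4).g.1 1 1 = 1 ∧ (zz 3 4).g.1 1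
      2 = 0 ∧ (zz 3 4).g.1 1 3 = 0 ∧ (zz 3 4).g.1 1 4 = 0 ∧ (zz 3 4).g.1 2 0 = 0 ∧ (zz 3
      4).g.1 2 1 = 0 ∧ (zz 3 4).g.1 2 2 = 1 ∧ (zz 3 4).g.1 2 3 = 0 ∧ (zz 3 4).g.1 2 4 = 0 ∧
      (zz 3 4).g.1 3 0 = 0 ∧ (zz 3 4).g.1 3 1 = 0 ∧ (zz 3 4).g.1 3 2 = 0 ∧ (zz 3 4).g.1 3 3 =
      1 ∧ (zz 3 4).g.1 3 4 = 0 ∧ (zz 3 4).g.1 4 0 = 0 ∧ (zz 3 4).g.1 4 1 = 0 ∧ (zz 3 4).g.1 4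
      2 = 0 ∧ (zz 3 4).g.1 4 3 = 0 ∧ (zz 3 4).g.1 4 4 = 1 := by decide +kernel
  have ka : (zz 3 4).a 0 0 = 0 ∧ (zz 3 4).a 0 1 = 0 ∧ (zz 3 4).a 0 2 = 0 ∧ (zz 3 4).a 0 3 = 0 ∧ (zz
      3 4).a 0 4 = 0 ∧ (zz 3 4).a 1 0 = 0 ∧ (zz 3 4).a 1 1 = 0 ∧ (zz 3 4).a 1 2 = 0 ∧ (zz 3
      4).a 1 3 = 0 ∧ (zz 3 4).a 1 4 = 0 ∧ (zz 3 4).a 2 0 = 0 ∧ (zz 3 4).a 2 1 = 0 ∧ (zz 3 4).a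
      2 2 = 0 ∧ (zz 3 4).a 2 3 = 1 ∧ (zz 3 4).a 2 4 = 0 ∧ (zz 3 4).a 3 0 = 0 ∧ (zz 3 4).a 3 1
      = 0 ∧ (zz 3 4).a 3 2 = 1 ∧ (zz 3 4).a 3 3 = 0 ∧ (zz 3 4).a 3 4 = 0 ∧ (zz 3 4).a 4 0 = 0
      ∧ (zz 3 4).a 4 1 = 0 ∧ (zz 3 4).a 4 2 = 0 ∧ (zz 3 4).a 4 3 = 0 ∧ (zz 3 4).a 4 4 = 0 := by decide +kernel
  have h : (zz 3 4 * v * zz 3 4).a 0 2 = v.a 0 2 + v.g.1 0 3 ∧ (zz 3 4 * v * zz 3 4).a 0 3 = v.a 0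
      3 + v.g.1 0 2 ∧ (zz 3 4 * v * zz 3 4).a 0 4 = v.a 0 4 ∧ (zz 3 4 * v * zz 3 4).a 1 2 =
      v.a 1 2 + v.g.1 1 3 ∧ (zz 3 4 * v * zz 3 4).a 1 3 = v.a 1 3 + v.g.1 1 2 ∧ (zz 3 4 * v *
      zz 3 4).a 1 4 = v.a 1 4 ∧ (zz 3 4 * v * zz 3 4).g.1 0 2 = v.g.1 0 2 ∧ (zz 3 4 * v * zz 3
      4).g.1 0 3 = v.g.1 0 3 ∧ (zz 3 4 * v * zz 3 4).g.1 0 4 = v.g.1 0 4 ∧ (zz 3 4 * v * zz 3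
      4).g.1 1 2 = v.g.1 1 2 ∧ (zz 3 4 * v * zz 3 4).g.1 1 3 = v.g.1 1 3 ∧ (zz 3 4 * v * zz 3
      4).g.1 1 4 = v.g.1 1 4 := by
    simp only [mul_a, mul_g, coe_mul', Matrix.add_apply, Matrix.mul_apply, transpose_apply,
      Fin.sum_univ_five, kg, ka, d0, d1, d2, d3, d4, d5, d6, d7, d8, d9, d10, d11, d12, d13, d14, d15, d16, d17, d18,
      l0, l1, l2, l3, l4, l5, l6, l7, l8, l9, l10, l11, l12, l13, l14, m0, m1, m2,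
      mul_zero, zero_mul, add_zero, zero_add, mul_one, one_mul, true_and, and_true]
    try (repeat' apply And.intro)
    all_goals first | trivial | ring1
  obtain ⟨h0, h1, h2, h3, h4, h5, h6, h7, h8, h9, h10, h11⟩ := h
  rw [qc, h0, h1, h2, h3, h4, h5, h6, h7, h8, h9, h10, h11]

def a6 (c : ℕ) : ℕ :=
  (bt c 0 ^^^ bt c 8) + 2 * bt c 1 + 4 * (bt c 2 ^^^ bt c 6) + 8 * (bt c 3 ^^^ bt c 11) + 16 *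
  bt c 4 + 32 * (bt c 5 ^^^ bt c 9) + 64 * bt c 6 + 128 * bt c 7 + 256 * bt c 8 + 512 * bt c 9
  + 1024 * bt c 10 + 2048 * bt c 11

theorem act6 {v : N0} (hv : v ∈ Q0) : qc (zz 3 5 * v * zz 3 5) = a6 (qc v) := by
  obtain ⟨b0, b1, b2, b3, b4, b5, b6, b7, b8, b9, b10, b11⟩ := bt_qc v
  unfold a6
  rw [b0, b1, b2, b3, b4, b5, b6, b7, b8, b9, b10, b11]
  simp only [← vadd]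
  obtain ⟨d0, d1, d2, d3, d4, d5, d6, d7, d8, d9, d10, d11, d12, d13, d14, d15, d16, d17, d18⟩ := Q_facts hv
  obtain ⟨l0, l1, l2, l3, l4, l5, l6, l7, l8, l9, l10, l11, l12, l13, l14⟩ := A_facts v
  obtain ⟨m0, m1, m2⟩ := Qa_facts hv
  have kg : (zz 3 5).g.1 0 0 = 1 ∧ (zz 3 5).g.1 0 1 = 0 ∧ (zz 3 5).g.1 0 2 = 0 ∧ (zz 3 5).g.1 0 3 =
      0 ∧ (zz 3 5).g.1 0 4 = 0 ∧ (zz 3 5).g.1 1 0 = 0 ∧ (zz 3 5).g.1 1 1 = 1 ∧ (zz 3 5).g.1 1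
      2 = 0 ∧ (zz 3 5).g.1 1 3 = 0 ∧ (zz 3 5).g.1 1 4 = 0 ∧ (zz 3 5).g.1 2 0 = 0 ∧ (zz 3
      5).g.1 2 1 = 0 ∧ (zz 3 5).g.1 2 2 = 1 ∧ (zz 3 5).g.1 2 3 = 0 ∧ (zz 3 5).g.1 2 4 = 0 ∧
      (zz 3 5).g.1 3 0 = 0 ∧ (zz 3 5).g.1 3 1 = 0 ∧ (zz 3 5).g.1 3 2 = 0 ∧ (zz 3 5).g.1 3 3 =
      1 ∧ (zz 3 5).g.1 3 4 = 0 ∧ (zz 3 5).g.1 4 0 = 0 ∧ (zz 3 5).g.1 4 1 = 0 ∧ (zz 3 5).g.1 4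
      2 = 0 ∧ (zz 3 5).g.1 4 3 = 0 ∧ (zz 3 5).g.1 4 4 = 1 := by decide +kernel
  have ka : (zz 3 5).a 0 0 = 0 ∧ (zz 3 5).a 0 1 = 0 ∧ (zz 3 5).a 0 2 = 0 ∧ (zz 3 5).a 0 3 = 0 ∧ (zz
      3 5).a 0 4 = 0 ∧ (zz 3 5).a 1 0 = 0 ∧ (zz 3 5).a 1 1 = 0 ∧ (zz 3 5).a 1 2 = 0 ∧ (zz 3
      5).a 1 3 = 0 ∧ (zz 3 5).a 1 4 = 0 ∧ (zz 3 5).a 2 0 = 0 ∧ (zz 3 5).a 2 1 = 0 ∧ (zz 3 5).a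
      2 2 = 0 ∧ (zz 3 5).a 2 3 = 0 ∧ (zz 3 5).a 2 4 = 1 ∧ (zz 3 5).a 3 0 = 0 ∧ (zz 3 5).a 3 1
      = 0 ∧ (zz 3 5).a 3 2 = 0 ∧ (zz 3 5).a 3 3 = 0 ∧ (zz 3 5).a 3 4 = 0 ∧ (zz 3 5).a 4 0 = 0
      ∧ (zz 3 5).a 4 1 = 0 ∧ (zz 3 5).a 4 2 = 1 ∧ (zz 3 5).a 4 3 = 0 ∧ (zz 3 5).a 4 4 = 0 := by decide +kernel
  have h : (zz 3 5 * v * zz 3 5).a 0 2 = v.a 0 2 + v.g.1 0 4 ∧ (zz 3 5 * v * zz 3 5).a 0 3 = v.a 0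
      3 ∧ (zz 3 5 * v * zz 3 5).a 0 4 = v.a 0 4 + v.g.1 0 2 ∧ (zz 3 5 * v * zz 3 5).a 1 2 =
      v.a 1 2 + v.g.1 1 4 ∧ (zz 3 5 * v * zz 3 5).a 1 3 = v.a 1 3 ∧ (zz 3 5 * v * zz 3 5).a 1
      4 = v.a 1 4 + v.g.1 1 2 ∧ (zz 3 5 * v * zz 3 5).g.1 0 2 = v.g.1 0 2 ∧ (zz 3 5 * v * zz 3
      5).g.1 0 3 = v.g.1 0 3 ∧ (zz 3 5 * v * zz 3 5).g.1 0 4 = v.g.1 0 4 ∧ (zz 3 5 * v * zz 3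
      5).g.1 1 2 = v.g.1 1 2 ∧ (zz 3 5 * v * zz 3 5).g.1 1 3 = v.g.1 1 3 ∧ (zz 3 5 * v * zz 3
      5).g.1 1 4 = v.g.1 1 4 := by
    simp only [mul_a, mul_g, coe_mul', Matrix.add_apply, Matrix.mul_apply, transpose_apply,
      Fin.sum_univ_five, kg, ka, d0, d1, d2, d3, d4, d5, d6, d7, d8, d9, d10, d11, d12, d13, d14, d15, d16, d17, d18,
      l0, l1, l2, l3, l4, l5, l6, l7, l8, l9, l10, l11, l12, l13, l14, m0, m1, m2,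
      mul_zero, zero_mul, add_zero, zero_add, mul_one, one_mul, true_and, and_true]
    try (repeat' apply And.intro)
    all_goals first | trivial | ring1
  obtain ⟨h0, h1, h2, h3, h4, h5, h6, h7, h8, h9, h10, h11⟩ := h
  rw [qc, h0, h1, h2, h3, h4, h5, h6, h7, h8, h9, h10, h11]

def a7 (c : ℕ) : ℕ :=
  bt c 0 + 2 * (bt c 1 ^^^ bt c 8) + 4 * (bt c 2 ^^^ bt c 7) + 8 * bt c 3 + 16 * (bt c 4 ^^^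
  bt c 11) + 32 * (bt c 5 ^^^ bt c 10) + 64 * bt c 6 + 128 * bt c 7 + 256 * bt c 8 + 512 * bt
  c 9 + 1024 * bt c 10 + 2048 * bt c 11

theorem act7 {v : N0} (hv : v ∈ Q0) : qc (zz 4 5 * v * zz 4 5) = a7 (qc v) := by
  obtain ⟨b0, b1, b2, b3, b4, b5, b6, b7, b8, b9, b10, b11⟩ := bt_qc v
  unfold a7
  rw [b0, b1, b2, b3, b4, b5, b6, b7, b8, b9, b10, b11]
  simp only [← vadd]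
  obtain ⟨d0, d1, d2, d3, d4, d5, d6, d7, d8, d9, d10, d11, d12, d13, d14, d15, d16, d17, d18⟩ := Q_facts hv
  obtain ⟨l0, l1, l2, l3, l4, l5, l6, l7, l8, l9, l10, l11, l12, l13, l14⟩ := A_facts v
  obtain ⟨m0, m1, m2⟩ := Qa_facts hv
  have kg : (zz 4 5).g.1 0 0 = 1 ∧ (zz 4 5).g.1 0 1 = 0 ∧ (zz 4 5).g.1 0 2 = 0 ∧ (zz 4 5).g.1 0 3 =
      0 ∧ (zz 4 5).g.1 0 4 = 0 ∧ (zz 4 5).g.1 1 0 = 0 ∧ (zz 4 5).g.1 1 1 = 1 ∧ (zz 4 5).g.1 1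
      2 = 0 ∧ (zz 4 5).g.1 1 3 = 0 ∧ (zz 4 5).g.1 1 4 = 0 ∧ (zz 4 5).g.1 2 0 = 0 ∧ (zz 4
      5).g.1 2 1 = 0 ∧ (zz 4 5).g.1 2 2 = 1 ∧ (zz 4 5).g.1 2 3 = 0 ∧ (zz 4 5).g.1 2 4 = 0 ∧
      (zz 4 5).g.1 3 0 = 0 ∧ (zz 4 5).g.1 3 1 = 0 ∧ (zz 4 5).g.1 3 2 = 0 ∧ (zz 4 5).g.1 3 3 =
      1 ∧ (zz 4 5).g.1 3 4 = 0 ∧ (zz 4 5).g.1 4 0 = 0 ∧ (zz 4 5).g.1 4 1 = 0 ∧ (zz 4 5).g.1 4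
      2 = 0 ∧ (zz 4 5).g.1 4 3 = 0 ∧ (zz 4 5).g.1 4 4 = 1 := by decide +kernel
  have ka : (zz 4 5).a 0 0 = 0 ∧ (zz 4 5).a 0 1 = 0 ∧ (zz 4 5).a 0 2 = 0 ∧ (zz 4 5).a 0 3 = 0 ∧ (zz
      4 5).a 0 4 = 0 ∧ (zz 4 5).a 1 0 = 0 ∧ (zz 4 5).a 1 1 = 0 ∧ (zz 4 5).a 1 2 = 0 ∧ (zz 4
      5).a 1 3 = 0 ∧ (zz 4 5).a 1 4 = 0 ∧ (zz 4 5).a 2 0 = 0 ∧ (zz 4 5).a 2 1 = 0 ∧ (zz 4 5).a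
      2 2 = 0 ∧ (zz 4 5).a 2 3 = 0 ∧ (zz 4 5).a 2 4 = 0 ∧ (zz 4 5).a 3 0 = 0 ∧ (zz 4 5).a 3 1
      = 0 ∧ (zz 4 5).a 3 2 = 0 ∧ (zz 4 5).a 3 3 = 0 ∧ (zz 4 5).a 3 4 = 1 ∧ (zz 4 5).a 4 0 = 0
      ∧ (zz 4 5).a 4 1 = 0 ∧ (zz 4 5).a 4 2 = 0 ∧ (zz 4 5).a 4 3 = 1 ∧ (zz 4 5).a 4 4 = 0 := by decide +kernel
  have h : (zz 4 5 * v * zz 4 5).a 0 2 = v.a 0 2 ∧ (zz 4 5 * v * zz 4 5).a 0 3 = v.a 0 3 + v.g.1 0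
      4 ∧ (zz 4 5 * v * zz 4 5).a 0 4 = v.a 0 4 + v.g.1 0 3 ∧ (zz 4 5 * v * zz 4 5).a 1 2 =
      v.a 1 2 ∧ (zz 4 5 * v * zz 4 5).a 1 3 = v.a 1 3 + v.g.1 1 4 ∧ (zz 4 5 * v * zz 4 5).a 1
      4 = v.a 1 4 + v.g.1 1 3 ∧ (zz 4 5 * v * zz 4 5).g.1 0 2 = v.g.1 0 2 ∧ (zz 4 5 * v * zz 4
      5).g.1 0 3 = v.g.1 0 3 ∧ (zz 4 5 * v * zz 4 5).g.1 0 4 = v.g.1 0 4 ∧ (zz 4 5 * v * zz 4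
      5).g.1 1 2 = v.g.1 1 2 ∧ (zz 4 5 * v * zz 4 5).g.1 1 3 = v.g.1 1 3 ∧ (zz 4 5 * v * zz 4
      5).g.1 1 4 = v.g.1 1 4 := by
    simp only [mul_a, mul_g, coe_mul', Matrix.add_apply, Matrix.mul_apply, transpose_apply,
      Fin.sum_univ_five, kg, ka, d0, d1, d2, d3, d4, d5, d6, d7, d8, d9, d10, d11, d12, d13, d14, d15, d16, d17, d18,
      l0, l1, l2, l3, l4, l5, l6, l7, l8, l9, l10, l11, l12, l13, l14, m0, m1, m2,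
      mul_zero, zero_mul, add_zero, zero_add, mul_one, one_mul, true_and, and_true]
    try (repeat' apply And.intro)
    all_goals first | trivial | ring1
  obtain ⟨h0, h1, h2, h3, h4, h5, h6, h7, h8, h9, h10, h11⟩ := h
  rw [qc, h0, h1, h2, h3, h4, h5, h6, h7, h8, h9, h10, h11]

def a8 (c : ℕ) : ℕ :=
  bt c 0 + 2 * bt c 1 + 4 * (bt c 2 ^^^ bt c 1) + 8 * bt c 3 + 16 * bt c 4 + 32 * (bt c 5 ^^^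
  bt c 4) + 64 * bt c 6 + 128 * (bt c 7 ^^^ bt c 8) + 256 * bt c 8 + 512 * bt c 9 + 1024 * (bt
  c 10 ^^^ bt c 11) + 2048 * bt c 11

theorem act8 {v : N0} (hv : v ∈ Q0) : qc (xx 5 4 * v * xx 5 4) = a8 (qc v) := by
  obtain ⟨b0, b1, b2, b3, b4, b5, b6, b7, b8, b9, b10, b11⟩ := bt_qc v
  unfold a8
  rw [b0, b1, b2, b3, b4, b5, b6, b7, b8, b9, b10, b11]
  simp only [← vadd]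
  obtain ⟨d0, d1, d2, d3, d4, d5, d6, d7, d8, d9, d10, d11, d12, d13, d14, d15, d16, d17, d18⟩ := Q_facts hv
  obtain ⟨l0, l1, l2, l3, l4, l5, l6, l7, l8, l9, l10, l11, l12, l13, l14⟩ := A_facts v
  obtain ⟨m0, m1, m2⟩ := Qa_facts hv
  have kg : (xx 5 4).g.1 0 0 = 1 ∧ (xx 5 4).g.1 0 1 = 0 ∧ (xx 5 4).g.1 0 2 = 0 ∧ (xx 5 4).g.1 0 3 =
      0 ∧ (xx 5 4).g.1 0 4 = 0 ∧ (xx 5 4).g.1 1 0 = 0 ∧ (xx 5 4).g.1 1 1 = 1 ∧ (xx 5 4).g.1 1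
      2 = 0 ∧ (xx 5 4).g.1 1 3 = 0 ∧ (xx 5 4).g.1 1 4 = 0 ∧ (xx 5 4).g.1 2 0 = 0 ∧ (xx 5
      4).g.1 2 1 = 0 ∧ (xx 5 4).g.1 2 2 = 1 ∧ (xx 5 4).g.1 2 3 = 0 ∧ (xx 5 4).g.1 2 4 = 0 ∧
      (xx 5 4).g.1 3 0 = 0 ∧ (xx 5 4).g.1 3 1 = 0 ∧ (xx 5 4).g.1 3 2 = 0 ∧ (xx 5 4).g.1 3 3 =
      1 ∧ (xx 5 4).g.1 3 4 = 0 ∧ (xx 5 4).g.1 4 0 = 0 ∧ (xx 5 4).g.1 4 1 = 0 ∧ (xx 5 4).g.1 4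
      2 = 0 ∧ (xx 5 4).g.1 4 3 = 1 ∧ (xx 5 4).g.1 4 4 = 1 := by decide +kernel
  have ka : (xx 5 4).a 0 0 = 0 ∧ (xx 5 4).a 0 1 = 0 ∧ (xx 5 4).a 0 2 = 0 ∧ (xx 5 4).a 0 3 = 0 ∧ (xx
      5 4).a 0 4 = 0 ∧ (xx 5 4).a 1 0 = 0 ∧ (xx 5 4).a 1 1 = 0 ∧ (xx 5 4).a 1 2 = 0 ∧ (xx 5
      4).a 1 3 = 0 ∧ (xx 5 4).a 1 4 = 0 ∧ (xx 5 4).a 2 0 = 0 ∧ (xx 5 4).a 2 1 = 0 ∧ (xx 5 4).a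
      2 2 = 0 ∧ (xx 5 4).a 2 3 = 0 ∧ (xx 5 4).a 2 4 = 0 ∧ (xx 5 4).a 3 0 = 0 ∧ (xx 5 4).a 3 1
      = 0 ∧ (xx 5 4).a 3 2 = 0 ∧ (xx 5 4).a 3 3 = 0 ∧ (xx 5 4).a 3 4 = 0 ∧ (xx 5 4).a 4 0 = 0
      ∧ (xx 5 4).a 4 1 = 0 ∧ (xx 5 4).a 4 2 = 0 ∧ (xx 5 4).a 4 3 = 0 ∧ (xx 5 4).a 4 4 = 0 := by decide +kernel
  have h : (xx 5 4 * v * xx 5 4).a 0 2 = v.a 0 2 ∧ (xx 5 4 * v * xx 5 4).a 0 3 = v.a 0 3 ∧ (xx 5 4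
      * v * xx 5 4).a 0 4 = v.a 0 4 + v.a 0 3 ∧ (xx 5 4 * v * xx 5 4).a 1 2 = v.a 1 2 ∧ (xx 5
      4 * v * xx 5 4).a 1 3 = v.a 1 3 ∧ (xx 5 4 * v * xx 5 4).a 1 4 = v.a 1 4 + v.a 1 3 ∧ (xx
      5 4 * v * xx 5 4).g.1 0 2 = v.g.1 0 2 ∧ (xx 5 4 * v * xx 5 4).g.1 0 3 = v.g.1 0 3 +
      v.g.1 0 4 ∧ (xx 5 4 * v * xx 5 4).g.1 0 4 = v.g.1 0 4 ∧ (xx 5 4 * v * xx 5 4).g.1 1 2 =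
      v.g.1 1 2 ∧ (xx 5 4 * v * xx 5 4).g.1 1 3 = v.g.1 1 3 + v.g.1 1 4 ∧ (xx 5 4 * v * xx 5
      4).g.1 1 4 = v.g.1 1 4 := by
    simp only [mul_a, mul_g, coe_mul', Matrix.add_apply, Matrix.mul_apply, transpose_apply,
      Fin.sum_univ_five, kg, ka, d0, d1, d2, d3, d4, d5, d6, d7, d8, d9, d10, d11, d12, d13, d14, d15, d16, d17, d18,
      l0, l1, l2, l3, l4, l5, l6, l7, l8, l9, l10, l11, l12, l13, l14, m0, m1, m2,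
      mul_zero, zero_mul, add_zero, zero_add, mul_one, one_mul, true_and, and_true]
    try (repeat' apply And.intro)
    all_goals first | trivial | ring1
  obtain ⟨h0, h1, h2, h3, h4, h5, h6, h7, h8, h9, h10, h11⟩ := h
  rw [qc, h0, h1, h2, h3, h4, h5, h6, h7, h8, h9, h10, h11]
end Cfsg.Agent.H77.Lp
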