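/-
Redundant Sylow subgroups of SL₂ and PSL₂.
-/
import Cfsg.Agent.H77.PSL2
import Cfsg.Agent.H77.Syl2
import Cfsg.Agent.H29.Cover

set_option autoImplicit false

namespace Cfsg.Agent.H77

section General
variable {G H : Type*} [Group G] [Group H] {p : ℕ} [hp : Fact p.Prime]

/-- some Sylow subgroup is covered by the others -/
def Red (p : ℕ) (G : Type*) [Group G] : Prop :=
  ∃ Q : Sylow p G, ∀ x ∈ (Q : Subgroup G), ∃ P : Sylow p G, P ≠ Q ∧ x ∈ (P : Subgroup G)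

lemma red_iff : (∃ Q : Sylow p G, ∀ x : G, (∃ k : ℕ, orderOf x = p ^ k) →
    ∃ P : Sylow p G, P ≠ Q ∧ x ∈ P) ↔ Red p G := by
  refine exists_congr fun Q => ⟨fun h x hx => h x ?_, fun h x ⟨k, hk⟩ => ?_⟩
  · obtain ⟨k, hk⟩ := IsPGroup.iff_orderOf.mp Q.isPGroup' ⟨x, hx⟩
    exact ⟨k, by rw [← hk, Subgroup.orderOf_mk]⟩
  · by_cases hx : x ∈ (Q : Subgroup G)
    · exact h x hx
    · obtain ⟨P, hP⟩ := (isPGroup_zpowers_of_orderOf hk).exists_le_sylow
      have := hP (Subgroup.mem_zpowers x)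
      exact ⟨P, fun e => hx (e ▸ this), this⟩

lemma mem_sylow_of_map_mem (f : G →* H) (hk : f.ker ≤ Subgroup.center G) (P : Sylow p G) {x : G}
    {k : ℕ} (hx : x ^ p ^ k = 1) (h : f x ∈ (P : Subgroup G).map f) : x ∈ (P : Subgroup G) := by
  obtain ⟨y, hy, e⟩ := h
  obtain ⟨l, hl⟩ := P.isPGroup' ⟨y, hy⟩
  have hl' : y ^ p ^ l = 1 := congrArg Subtype.val hl
  have hz : y⁻¹ * x ∈ Subgroup.center G := hk (by rw [MonoidHom.mem_ker, map_mul, map_inv, e]; simp)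
  have hc : Commute y (y⁻¹ * x) := Subgroup.mem_center_iff.mp hz y
  have h1 : (y⁻¹ * x) ^ p ^ (k + l) = 1 := by
    have := hc.mul_pow (p ^ (k + l))
    rw [mul_inv_cancel_left, pow_add, pow_mul x, hx, one_pow, mul_comm (p ^ k), pow_mul y, hl',
      one_pow, one_mul, mul_comm (p ^ l), ← pow_add] at this
    exact this.symm
  have hn : (Subgroup.zpowers (y⁻¹ * x)).Normal := by
    refine ⟨fun n hn g => ?_⟩
    rw [Subgroup.mem_center_iff.mp (Subgroup.zpowers_le.mpr hz hn) g, mul_inv_cancel_right]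
    exact hn
  obtain ⟨j, -, hj⟩ := (Nat.dvd_prime_pow hp.out).mp (orderOf_dvd_of_pow_eq_one h1)
  have := (isPGroup_zpowers_of_orderOf hj).le_sylow_of_normal P (Subgroup.mem_zpowers _)
  simpa using mul_mem hy this

lemma red_iff_of_central [Finite G] (f : G →* H) (hf : Function.Surjective f)
    (hk : f.ker ≤ Subgroup.center G) : Red p H ↔ Red p G := by
  have key : ∀ P Q : Sylow p G, ∀ x ∈ (Q : Subgroup G), f x ∈ (P : Subgroup G).map f →
      x ∈ (P : Subgroup G) := by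
    intro P Q x hx h
    obtain ⟨l, hl⟩ := Q.isPGroup' ⟨x, hx⟩
    exact mem_sylow_of_map_mem f hk P (k := l) (congrArg Subtype.val hl) h
  constructor
  · rintro ⟨Q, hQ⟩
    obtain ⟨Q, rfl⟩ := Sylow.mapSurjective_surjective hf p Q
    refine ⟨Q, fun x hx => ?_⟩
    obtain ⟨P, hP, h⟩ := hQ (f x) ⟨x, hx, rfl⟩
    obtain ⟨P, rfl⟩ := Sylow.mapSurjective_surjective hf p P
    exact ⟨P, fun e => hP (by rw [e]), key P Q x hx h⟩
  · rintro ⟨Q, hQ⟩
    refine ⟨Q.mapSurjective hf, ?_⟩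
    rintro _ ⟨x, hx, rfl⟩
    obtain ⟨P, hP, h⟩ := hQ x hx
    refine ⟨P.mapSurjective hf, fun e => hP (Sylow.ext ?_), ⟨x, h, rfl⟩⟩
    have e' : (P : Subgroup G).map f = (Q : Subgroup G).map f := congrArg Sylow.toSubgroup e
    exact (Q.is_maximal' P.isPGroup' fun y hy => key P Q y hy (e' ▸ ⟨y, hy, rfl⟩))

omit hp in
lemma not_red_of_isCyclic (h : ∀ Q : Sylow p G, IsCyclic Q) : ¬ Red p G := by
  rintro ⟨Q, hQ⟩
  obtain ⟨x, hx⟩ := (h Q).exists_generator
  obtain ⟨P, hP, hxP⟩ := hQ x x.2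
  refine hP (Sylow.ext (Q.is_maximal' P.isPGroup' fun y hy => ?_))
  obtain ⟨n, hn⟩ := hx ⟨y, hy⟩
  rw [show y = (x : G) ^ n from (congrArg Subtype.val hn).symm]
  exact zpow_mem hxP n

end General

variable {F : Type*} [Field F] [Fintype F]
local notation "q" => Fintype.card F

lemma not_red_char (p : ℕ) [Fact p.Prime] [CharP F p] : ¬ Red p (SL2 F) := by
  rintro ⟨Q, hQ⟩
  have hne : (Q : Subgroup (SL2 F)) ≠ ⊥ := Q.ne_bot_of_dvd_card (by
    rw [card_SL2']; exact Dvd.dvd.mul_right (by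
      obtain ⟨n, -, hn⟩ := FiniteField.card F p
      rw [Nat.card_eq_fintype_card, hn]; exact dvd_pow_self p n.ne_zero) _)
  obtain ⟨⟨x, hx⟩, hx1⟩ := (Subgroup.ne_bot_iff_exists_ne_one).mp hne
  obtain ⟨P, hP, hxP⟩ := hQ x hx
  have := (Cfsg.Agent.H29.isCover_slp (F := F) (p := p)).sylow_disjoint hP
  exact hx1 (Subtype.ext (Subgroup.mem_bot.mp (this ▸ Subgroup.mem_inf.mpr ⟨hxP, hx⟩)))

lemma isCyclic_sylow_odd {p : ℕ} [Fact p.Prime] (h2 : p ≠ 2) (hq : ¬ p ∣ q) (Q : Sylow p (SL2 F)) :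
    IsCyclic Q := by
  by_cases hd : p ∣ Nat.card (SL2 F)
  · obtain ⟨s, hs, -, -, hle⟩ := exists_isReg_of_sylow h2 (by rwa [Nat.card_eq_fintype_card]) hd Q
    have := hs.isCyclic_cent
    exact Subgroup.isCyclic_of_le hle
  · have : Nat.card Q = 1 := by
      rw [Q.card_eq_multiplicity, Nat.factorization_eq_zero_of_not_dvd hd, pow_zero]
    have := (Nat.card_eq_one_iff_unique.mp this).1
    infer_instance

lemma card_cent_trace_zero (h2 : (2 : F) ≠ 0) {i : SL2 F} (hi : (i : M2 F).trace = 0) :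
    (Nat.card (Subgroup.centralizer ({i} : Set (SL2 F))) = q - 1 ∧ q % 4 = 1) ∨
    (Nat.card (Subgroup.centralizer ({i} : Set (SL2 F))) = q + 1 ∧ q % 4 = 3) := by
  have h4 := four_dvd_card_cent h2 hi
  have h1 := Fintype.one_lt_card (α := F)
  rcases (isReg_of_trace_eq_zero h2 hi).card_cent with h | h <;>
    rw [Nat.card_eq_fintype_card (α := F)] at h <;> omega

lemma red_two_iff (h2 : (2 : F) ≠ 0) {i : SL2 F} (hi : (i : M2 F).trace = 0) :
    Red 2 (SL2 F) ↔ ¬ IsPGroup 2 (Subgroup.centralizer ({i} : Set (SL2 F))) := by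
  have hcard : ∀ j : SL2 F, (j : M2 F).trace = 0 →
      (IsPGroup 2 (Subgroup.centralizer ({j} : Set (SL2 F))) ↔
        IsPGroup 2 (Subgroup.centralizer ({i} : Set (SL2 F)))) := by
    intro j hj
    rw [IsPGroup.iff_card, IsPGroup.iff_card]
    rcases card_cent_trace_zero h2 hi with h | h <;>
      rcases card_cent_trace_zero h2 hj with h' | h' <;> first | omega | rw [h.1, h'.1]
  constructor
  · rintro ⟨Q, hQ⟩ hC
    obtain ⟨j, hj, hQj⟩ := exists_sylow_two_le h2 Q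
    rw [← hcard j hj] at hC
    have hr := isReg_of_trace_eq_zero h2 hj
    have hN := hr.card_normalizer
    have hN2 : IsPGroup 2 (Subgroup.normalizer
        (Subgroup.centralizer ({j} : Set (SL2 F)) : Set (SL2 F))) := by
      obtain ⟨n, hn⟩ := IsPGroup.iff_card.mp hC
      exact IsPGroup.of_card (n := n + 1) (by rw [hN, hn, pow_succ'])
    have hQN := Q.is_maximal' hN2 hQj
    obtain ⟨x, hx⟩ := hr.isCyclic_cent.exists_generator
    obtain ⟨P, hP, hxP⟩ := hQ x (hQN ▸ Subgroup.le_normalizer x.2)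
    have hCP : Subgroup.centralizer ({j} : Set (SL2 F)) ≤ P := fun y hy => by
      obtain ⟨n, hn⟩ := hx ⟨y, hy⟩
      rw [show y = (x : SL2 F) ^ n from (congrArg Subtype.val hn).symm]
      exact zpow_mem hxP n
    have hidx : ((Subgroup.centralizer ({j} : Set (SL2 F))).subgroupOf P).index = 2 := by
      have h1 := ((Subgroup.centralizer ({j} : Set (SL2 F))).subgroupOf P).card_mul_index
      rw [Nat.card_congr (Subgroup.subgroupOfEquivOfLe hCP).toEquiv,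
        Nat.card_congr (P.equiv Q).toEquiv, ← hQN, hN, mul_comm 2] at h1
      exact Nat.eq_of_mul_eq_mul_left Nat.card_pos h1
    have := (Subgroup.normal_subgroupOf_iff_le_normalizer hCP).mp
      (Subgroup.normal_of_index_eq_two hidx)
    exact hP (Sylow.ext (P.is_maximal' Q.isPGroup' (hQN ▸ this)).symm)
  · intro hC
    obtain ⟨Q⟩ : Nonempty (Sylow 2 (SL2 F)) := inferInstance
    obtain ⟨j, hj, hQj⟩ := exists_sylow_two_le h2 Q
    rw [← hcard j hj] at hC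
    have hr := isReg_of_trace_eq_zero h2 hj
    obtain ⟨t, ht, htQ⟩ : ∃ t ∈ Subgroup.centralizer ({j} : Set (SL2 F)), t • Q ≠ Q := by
      by_contra h
      push Not at h
      refine hC (Q.isPGroup'.to_le fun t ht => sylow_two_mem_of_cent h2 Q hj hQj ht ?_)
      exact Sylow.smul_eq_iff_mem_normalizer.mp (h t ht)
    have key : ∀ x ∈ (Q : Subgroup (SL2 F)), x ∈ Subgroup.centralizer ({j} : Set (SL2 F)) →
        x ∈ ((t • Q : Sylow 2 (SL2 F)) : Subgroup (SL2 F)) := by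
      intro x hx hxC
      refine ⟨x, hx, ?_⟩
      show t * x * t⁻¹ = x
      rw [sl_cent_comm hr.not_isScal ht hxC, mul_inv_cancel_right]
    refine ⟨Q, fun x hx => ?_⟩
    by_cases hxC : x ∈ Subgroup.centralizer ({j} : Set (SL2 F))
    · exact ⟨_, htQ, key x hx hxC⟩
    · have h0 := hr.trace_eq_zero_of_inverts (hr.inverts_of_not_mem (hQj hx) hxC)
      obtain ⟨g, rfl⟩ := isConj_iff.mp (sl_isConj_of_isReg hr (hj.trans h0.symm))
      have hjQ := sylow_two_mem_self h2 Q hj hQj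
      by_cases hg : g • Q = Q
      · refine ⟨g • t • Q, fun e => htQ (smul_left_cancel g (e.trans hg.symm)), _,
          key j hjQ (Subgroup.mem_centralizer_singleton_iff.mpr rfl), rfl⟩
      · exact ⟨g • Q, hg, _, hjQ, rfl⟩

theorem red_SL2_iff (p : ℕ) [hp : Fact p.Prime] : Red p (SL2 F) ↔
    (p = 2 ∧ (¬ ∃ k : ℕ, q + 1 = 2 ^ k) ∧ (¬ ∃ k : ℕ, q = 2 ^ k) ∧ ¬ ∃ k : ℕ, q = 2 ^ k + 1) := by
  obtain ⟨r, hr⟩ := CharP.exists F
  obtain ⟨n, hrp, hn⟩ := FiniteField.card F r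
  have hq1 := Fintype.one_lt_card (α := F)
  by_cases hpr : p = r
  · subst hpr
    refine iff_of_false (not_red_char p) ?_
    rintro ⟨rfl, -, h, -⟩
    exact h ⟨n, hn⟩
  have hq : ¬ p ∣ q := fun h =>
    hpr ((Nat.prime_dvd_prime_iff_eq hp.out hrp).mp (hp.out.dvd_of_dvd_pow (hn ▸ h)))
  by_cases hp2 : p = 2
  swap
  · exact iff_of_false (not_red_of_isCyclic (isCyclic_sylow_odd hp2 hq)) fun h => hp2 h.1
  subst hp2
  have h2 : (2 : F) ≠ 0 := two_ne_zero_of_odd (Nat.odd_iff.mpr (by omega))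
  obtain ⟨i, -, hi⟩ := exists_trace_eq (0 : F)
  have hpow : ∀ k, 2 ^ k = 1 ∨ 2 ^ k = 2 ∨ 2 ^ k % 4 = 0 := by
    rintro (_ | _ | k)
    · simp
    · simp
    · right; right; omega
  rw [red_two_iff h2 hi, IsPGroup.iff_card]
  rcases card_cent_trace_zero h2 hi with ⟨h, h'⟩ | ⟨h, h'⟩ <;> rw [h]
  · refine ⟨fun h => ⟨rfl, ?_, ?_, ?_⟩, fun h ⟨k, hk⟩ => h.2.2.2 ⟨k, by omega⟩⟩
    · rintro ⟨k, hk⟩; have := hpow k; omega
    · rintro ⟨k, hk⟩; have := hpow k; omega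
    · rintro ⟨k, hk⟩; exact h ⟨k, by omega⟩
  · refine ⟨fun h => ⟨rfl, h, ?_, ?_⟩, fun h => h.2.1⟩
    · rintro ⟨k, hk⟩; have := hpow k; omega
    · rintro ⟨k, hk⟩
      have := hpow k
      exact h ⟨2, by omega⟩

end Cfsg.Agent.H77
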