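import Cfsg.Agent.H56.W2Kit
import Cfsg.Agent.H8.SylowIn

/-! Even degree cases of the 2-transitive groups with a simple two-point stabiliser having
abelian Sylow 2-subgroups: `L₂(2 ^ m)`, `J₁` and Ree type. -/

set_option autoImplicit false

namespace Cfsg.Agent.H77.W2

open MulAction Subgroup Cfsg.Agent.H63 Cfsg.Agent.H56.TT Cfsg.Agent.H56.W2 Cfsg.Agent.H65.A45

universe u v

theorem ar_same {h d i c o y e z n : ℕ} (hz : 0 < z) (h1 : (i - 1) * z = o * e * z)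
    (h2 : o * y = c * y ^ (n + 1)) (h3 : y ^ (n + 1) * h = h + d * i) (hd : 0 < d) (hi : 2 ≤ i)
    (hy : Odd y) : 3 ≤ y ∧ y ^ n ∣ h + d := by
  have hy0 : 0 < y := hy.pos
  have h4 : i - 1 = o * e := Nat.eq_of_mul_eq_mul_right hz h1
  have h5 : o = c * y ^ n := Nat.eq_of_mul_eq_mul_right hy0 (by rw [h2]; ring)
  refine ⟨?_, ?_⟩
  · obtain ⟨k, rfl⟩ := hy
    rcases Nat.eq_zero_or_pos k with rfl | hk
    · simp at h3
      omega
    · omega
  · have h6 : i = c * y ^ n * e + 1 := by rw [← h5]; omega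
    have h7 : h + d + y ^ n * (d * c * e) = y ^ n * (y * h) := by
      rw [← mul_assoc (y ^ n) y h, ← pow_succ, h3, h6]; ring
    exact (Nat.dvd_add_left (dvd_mul_right _ _)).1 (h7 ▸ dvd_mul_right _ _)

theorem ar_pow (k : ℕ) : 2 ^ (3 * (k + 4) - 1) < 3 ^ (2 ^ (k + 4 - 1) - 1) := by
  induction k with
  | zero => norm_num
  | succ k ih =>
    have h1 : 2 ^ (k + 1 + 4 - 1) - 1 = (2 ^ (k + 4 - 1) - 1) + 2 ^ (k + 3) := by
      have : 0 < 2 ^ (k + 3) := by positivity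
      rw [show k + 1 + 4 - 1 = k + 3 + 1 by omega, show k + 4 - 1 = k + 3 by omega, pow_succ]
      omega
    have h2 : 2 ^ 3 ≤ 3 ^ 2 ^ (k + 3) := by
      calc 2 ^ 3 ≤ 3 ^ 2 := by norm_num
        _ ≤ 3 ^ 2 ^ (k + 3) := Nat.pow_le_pow_right (by norm_num) (by
          calc 2 = 2 ^ 1 := rfl
            _ ≤ 2 ^ (k + 3) := Nat.pow_le_pow_right (by norm_num) (by omega))
    rw [h1, pow_add, show 3 * (k + 1 + 4) - 1 = 3 * (k + 4) - 1 + 3 by omega, pow_add]
    exact Nat.mul_lt_mul_of_lt_of_le ih h2 (by positivity)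

theorem ar_ree {q q' h h' z z' : ℕ} (hq : 1 ≤ q') (h1 : h + q ^ 3 = q ^ 4 + q ^ 2)
    (h2 : z + q = q ^ 3) (h3 : h' + q' ^ 3 = q' ^ 4 + q' ^ 2) (h4 : z' + q' = q' ^ 3)
    (h5 : h * z ≤ h' * z') : q ≤ q' := by
  by_contra c
  obtain ⟨a, rfl⟩ : ∃ a, q' = a + 1 := ⟨q' - 1, by omega⟩
  obtain ⟨b, rfl⟩ : ∃ b, q = b + 1 := ⟨q - 1, by omega⟩
  have hab : a < b := by omega
  have e1 : h = (b + 1) ^ 2 * (b * (b + 1) + 1) := by nlinarith
  have e2 : z = b * ((b + 1) * (b + 2)) := by nlinarith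
  have e3 : h' = (a + 1) ^ 2 * (a * (a + 1) + 1) := by nlinarith
  have e4 : z' = a * ((a + 1) * (a + 2)) := by nlinarith
  have l1 : h' ≤ h := by rw [e1, e3]; gcongr
  have l2 : z' < z := by
    rw [e2, e4]
    exact Nat.mul_lt_mul_of_lt_of_le hab (by gcongr) (by positivity)
  have l3 : 0 < h := by rw [e1]; positivity
  nlinarith

theorem dvd27 {q : ℕ} (h : ∃ l : ℕ, 1 ≤ l ∧ q = 3 ^ (2 * l + 1)) : 27 ∣ q ∧ q % 8 = 3 := by
  obtain ⟨l, hl, rfl⟩ := h
  refine ⟨pow_dvd_pow 3 (show 3 ≤ 2 * l + 1 by omega), ?_⟩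
  rw [pow_succ, pow_mul, Nat.mul_mod, Nat.pow_mod]
  norm_num

variable {G : Type u} [Group G] [Finite G] {Ω : Type v} [Finite Ω] [MulAction G Ω]
  [FaithfulSMul G Ω] {a b : Ω} {S : Subgroup G} {m : ℕ}

theorem ev_nums (str : StrStmt.{u}) (hu : Su G a b S m) (ty : Ty (DD G a b) m)
    (hn : Even (Nat.card Ω)) {t : G} (ht : t ∈ S) (ot : orderOf t = 2) :
    ∃ (X : Type u) (_ : Group X) (_ : Finite X) (L : Subgroup X) (s : X) (y o c e : ℕ),
      s ∈ L ∧ orderOf s = 2 ∧ Ty L m ∧ Odd y ∧ o * y = c * y ^ 2 ^ (m - 1) ∧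
      y ^ 2 ^ (m - 1) * ni L =
        ni (DD G a b) + {x | IsConj t x ∧ x • a = b}.ncard * (fixedBy Ω t).ncard ∧
      ((fixedBy Ω t).ncard - 1) * Nat.card ↥(DD G a b ⊓ C1[t]) = o * e * Nat.card ↥(L ⊓ C1[s]) ∧
      ni (DD G a b) * Nat.card ↥(DD G a b ⊓ C1[t]) ∣ ni L * Nat.card ↥(L ⊓ C1[s]) ∧
      ni (stabilizer G a ⊓ C1[t]) - 1 = y ^ 2 ^ (m - 2) * (ni (L ⊓ C1[s]) - 1) := by
  have htD := hu.ws.le ht
  obtain ⟨X, _, _, L, S', f, O, c, y, e, hf, hL, w, tL, -, -, -, hy, -, h1, h2⟩ :=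
    str G (stabilizer G a) (DD G a b) S m inf_le_left hu.ws (hu.odd_stab hn) (hu.ws.sixty ty)
  obtain ⟨h3, h4, h5⟩ := h2 ⟨t, htD⟩ ot
  have os : orderOf (f ⟨t, htD⟩) = 2 := by rw [orderOf_injective f hf, orderOf_mk, ot]
  refine ⟨X, _, inferInstance, L, f ⟨t, htD⟩, y, _, c, e, hL _, os, tL, hy, h3, ?_, ?_, ?_, h5⟩
  · rw [← h1, hu.first_even hn htD ot]
  · rw [← h4, hu.card_cent htD ot]
  · rw [← hu.ws.card_eq htD ot, ← w.card_eq (hL _) os]
    exact card_dvd_of_injective (f.codRestrict L hL) fun x y e => hf (congrArg Subtype.val e)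

omit [Finite G] [FaithfulSMul G Ω] in
theorem two_le_fix (hu : Su G a b S m) {t : G} (ht : t ∈ DD G a b) : 2 ≤ (fixedBy Ω t).ncard := by
  have := Set.ncard_le_ncard (s := {a, b}) (t := fixedBy Ω t) (by
    rintro _ (rfl | rfl)
    exacts [ht.1, ht.2])
  rwa [Set.ncard_pair hu.ne] at this

theorem evA (dich : DichStmt.{u, v}) (str : StrStmt.{u}) : EvAStmt.{u, v} := by
  intro G Ω _ _ _ _ _ a b S m hu hty hn
  have ty : Ty (DD G a b) m := hty.elim Or.inl fun k => Or.inr (Or.inr (Or.inl k))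
  obtain ⟨t, ht, ot⟩ := hu.ws.ex_inv
  have htD := hu.ws.le ht
  obtain ⟨X, _, _, L, s, y, o, c, e, hs, os, tL, hy, h1, h2, h3, h4, -⟩ :=
    ev_nums str hu ty hn ht ot
  have hd := (hu.first htD ot).1
  have hi := two_le_fix hu htD
  have hdi := dich G Ω a b S m hu ty
  have hd3 : m = 3 → {x | IsConj t x ∧ x • a = b}.ncard = 1 ∨
      {x | IsConj t x ∧ x • a = b}.ncard = ni (DD G a b) ∨
      {x | IsConj t x ∧ x • a = b}.ncard = ni (DD G a b) + 1 := fun h => by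
    rcases hdi with ⟨s, k⟩ | ⟨σ, k⟩
    · rcases k.d hu htD ot with k | k | k | k
      · omega
      · exact Or.inl k
      · exact Or.inr (Or.inl k)
      · exact Or.inr (Or.inr k.1)
    · exact absurd (h ▸ k.even hu) (by decide)
  have hdle : TA (DD G a b) m → 4 ≤ m →
      ni (DD G a b) + {x | IsConj t x ∧ x • a = b}.ncard ≤ 2 ^ (3 * m - 1) := fun k h => by
    obtain ⟨j, rfl⟩ : ∃ j, m = j + 4 := ⟨m - 4, by omega⟩
    have e1 := k.ni_eq
    have e2 : 2 ^ (3 * (j + 4) - 1) = 4 ^ (j + 4) * (8 * 2 ^ j) := by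
      rw [show 3 * (j + 4) - 1 = 2 * (j + 4) + (3 + j) by omega, pow_add, pow_mul, pow_add 2 3]
      norm_num
    have e3 : 0 < 2 ^ j := by positivity
    rw [e2, ← e1]
    rcases hdi with ⟨s, k'⟩ | ⟨σ, k'⟩
    · rcases k'.d hu htD ot with k' | k' | k' | ⟨k', -⟩ <;> rw [k'] <;> nlinarith
    · have e4 := k'.d hu ot
      have e5 := k'.sq
      have e6 := card_le_of_le (inf_le_inf_right C1[σ] hu.ws.le)
      rw [hu.ws.card, pow_add] at e5
      rw [hu.ws.card_eq htD ot, k.cent t htD ot, pow_add] at e4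
      have e7 : 4 ≤ Nat.card ↥(S ⊓ C1[σ]) := by nlinarith
      have e8 : {x | IsConj t x ∧ x • a = b}.ncard * 4 ≤ ni (DD G a b) * (2 ^ j * 2 ^ 4) := by
        rw [← e4]; exact Nat.mul_le_mul_left _ (e7.trans e6)
      nlinarith
  generalize {x | IsConj t x ∧ x • a = b}.ncard = d at *
  generalize (fixedBy Ω t).ncard = i at *
  have hm3 : 3 ≤ m := hty.elim (·.three) (·.1.ge)
  obtain ⟨n, hn'⟩ : ∃ n, 2 ^ (m - 1) = n + 1 := ⟨2 ^ (m - 1) - 1, by
    have : 0 < 2 ^ (m - 1) := by positivity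
    omega⟩
  rcases tL with kL | ⟨k, -⟩ | ⟨rfl, kL⟩ | ⟨rfl, q, kL⟩
  · rcases hty with k | ⟨rfl, k⟩
    · have e1 : ni L = ni (DD G a b) := by have := k.ni_eq; have := kL.ni_eq; omega
      rw [k.cent t htD ot, kL.cent s hs os] at h3
      rw [e1, hn'] at h2
      rw [hn'] at h1
      obtain ⟨y3, h5⟩ := ar_same (by positivity) h3 h1 h2 hd hi hy
      have h6 := Nat.le_of_dvd (by omega) h5
      rcases Nat.lt_or_ge m 4 with h | h
      · obtain rfl : m = 3 := by omega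
        obtain rfl : n = 3 := by omega
        have e2 : ni (DD G a b) = 63 := by have := k.ni_eq; omega
        rw [e2] at hd3 h5 h6
        have y5 : y ≤ 5 := by
          by_contra c
          have := Nat.pow_le_pow_left (show 6 ≤ y by omega) 3
          omega
        obtain ⟨j, rfl⟩ := hy
        have : j = 1 ∨ j = 2 := by omega
        rcases this with rfl | rfl <;> omega
      · have h7 := hdle k h
        obtain ⟨j, rfl⟩ : ∃ j, m = j + 4 := ⟨m - 4, by omega⟩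
        have h8 := ar_pow j
        have h9 := Nat.pow_le_pow_left y3 n
        rw [hn', Nat.add_sub_cancel] at h8
        omega
    · have e1 : ni L = 63 := by have := kL.ni_eq; omega
      rw [k.cent t htD ot, kL.cent s hs os, k.ni_eq, e1] at h4
      omega
  · omega
  · rcases hty with k | ⟨-, k⟩
    · have e1 : ni (DD G a b) = 63 := by have := k.ni_eq; omega
      rw [k.cent t htD ot, kL.cent s hs os, kL.ni_eq, e1] at h4
      omega
    · rw [k.cent t htD ot, kL.cent s hs os] at h3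
      rw [k.ni_eq, kL.ni_eq] at h2
      rw [k.ni_eq] at hd3
      obtain ⟨y3, h5⟩ := ar_same (n := 3) (by positivity) h3 h1 h2 hd hi hy
      have h6 := Nat.le_of_dvd (by omega) h5
      have y5 : y ≤ 14 := by
        by_contra c
        have := Nat.pow_le_pow_left (show 15 ≤ y by omega) 3
        omega
      obtain ⟨j, rfl⟩ := hy
      have : j = 1 ∨ j = 2 ∨ j = 3 ∨ j = 4 ∨ j = 5 ∨ j = 6 := by omega
      rcases this with rfl | rfl | rfl | rfl | rfl | rfl <;> omega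
  · have q27 := (dvd27 kL.pow).1
    have a1 : 27 ∣ ni L := (Nat.dvd_add_left (q27.trans (dvd_pow_self q (by decide)))).1
      (kL.ni_eq ▸ dvd_add (q27.trans (dvd_pow_self q (by decide)))
        (q27.trans (dvd_pow_self q (by decide))))
    have a2 : 27 ∣ Nat.card ↥(L ⊓ C1[s]) := (Nat.dvd_add_left q27).1
      (kL.cent s hs os ▸ q27.trans (dvd_pow_self q (by decide)))
    have a3 := h3 ▸ Dvd.dvd.mul_left a2 (o * e)
    have a4 := h2 ▸ Dvd.dvd.mul_left a1 (y ^ 2 ^ (3 - 1))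
    obtain ⟨j, rfl⟩ : ∃ j, i = j + 1 := ⟨i - 1, by omega⟩
    rw [Nat.add_sub_cancel] at a3
    rcases hty with k | ⟨-, k⟩
    · have e1 : ni (DD G a b) = 63 := by have := k.ni_eq; omega
      rw [k.cent t htD ot] at a3
      rw [e1] at a4 hd3
      rcases hd3 rfl with rfl | rfl | rfl <;> omega
    · rw [k.cent t htD ot] at a3
      rw [k.ni_eq] at a4 hd3
      rcases hd3 rfl with rfl | rfl | rfl <;> omega

/-- the action of the centraliser of `t` on the points fixed by `t` -/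
@[reducible] def fixAct {G : Type u} [Group G] (Ω : Type v) [MulAction G Ω] (t : G) :
    MulAction C1[t] (fixedBy Ω t) where
  smul g x := ⟨(g : G) • (x : Ω), by
    rw [mem_fixedBy, ← mul_smul, ← mem_centralizer_singleton_iff.1 g.2, mul_smul, x.2]⟩
  one_smul x := Subtype.ext (one_smul _ _)
  mul_smul g h x := Subtype.ext (mul_smul _ _ _)

theorem evR (str : StrStmt.{u}) (tb : TBStmt.{u}) (evB : EvBStmt.{u, v}) : EvRStmt.{u, v} := by
  intro G Ω _ _ _ _ _ a b S q hu k hn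
  obtain ⟨t, ht, ot⟩ := hu.ws.ex_inv
  have htD := hu.ws.le ht
  obtain ⟨q27, q8⟩ := dvd27 k.pow
  have q0 : 27 ≤ q := Nat.le_of_dvd (by omega) q27
  obtain ⟨E, hE, htE, hdec, F, _, _, hF, ⟨iso⟩⟩ := k.comp t htD ot
  let K : Subgroup G := C1[t] ⊓ fixingSubgroup G (fixedBy Ω t)
  have hK : ∀ g, g ∈ K ↔ g ∈ C1[t] ∧ ∀ c ∈ fixedBy Ω t, g • c = c := fun g =>
    and_congr_right fun _ => mem_fixingSubgroup_iff G
  have hfix : ∀ g ∈ C1[t], ∀ c ∈ fixedBy Ω t, g • c ∈ fixedBy Ω t := fun g hg c hc => by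
    rw [mem_fixedBy, ← mul_smul, ← mem_centralizer_singleton_iff.1 hg, mul_smul, hc]
  have hKn : ∀ g ∈ C1[t], ∀ x ∈ K, g * x * g⁻¹ ∈ K := fun g hg x hx =>
    (hK _).2 ⟨mul_mem (mul_mem hg hx.1) (inv_mem hg), fun c hc => by
      rw [mul_smul, mul_smul, ((hK x).1 hx).2 _ (hfix _ (inv_mem hg) c hc), smul_inv_smul]⟩
  have htK : t ∈ K := (hK t).2 ⟨mem_centralizer_singleton_iff.2 rfl, fun c hc => hc⟩
  obtain ⟨SE, hSE⟩ := H8.exists_isSylowIn 2 E
  have wE := (tb G E F (Or.inl (hF ▸ q8)) (by omega) ⟨iso⟩).2 SE hSE.le hSE.isPGroup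
    (Nat.not_even_iff_odd.1 fun e => hSE.not_dvd e.two_dvd)
  rcases wE.normal_eq (K := E ⊓ K) inf_le_left (fun g hg => H8.mem_normalizer_of_conj_smul_le (by
    rintro _ ⟨x, hx, rfl⟩
    exact mem_inf.2 ⟨mul_mem (mul_mem hg hx.1) (inv_mem hg), hKn g (hE hg).2 x hx.2⟩)) with h0 | h0
  · let _ := fixAct Ω t
    let φ := toPermHom C1[t] (fixedBy Ω t)
    let _ : MulAction (C1[t] ⧸ φ.ker) (fixedBy Ω t) := MulAction.compHom _ (QuotientGroup.kerLift φ)
    have hsm : ∀ (g : C1[t]) (x : fixedBy Ω t),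
        (((QuotientGroup.mk g : C1[t] ⧸ φ.ker) • x : fixedBy Ω t) : Ω) = (g : G) • (x : Ω) :=
      fun _ _ => rfl
    have : FaithfulSMul (C1[t] ⧸ φ.ker) (fixedBy Ω t) :=
      ⟨fun h => QuotientGroup.kerLift_injective φ (Equiv.ext h)⟩
    have hker : ∀ g : C1[t], g ∈ φ.ker ↔ (g : G) ∈ K := fun g =>
      ⟨fun h => (hK _).2 ⟨g.2, fun c hc =>
        congrArg (fun σ : Equiv.Perm (fixedBy Ω t) => ((σ ⟨c, hc⟩ : fixedBy Ω t) : Ω)) h⟩,
        fun h => Equiv.ext fun c => Subtype.ext (((hK _).1 h).2 c c.2)⟩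
    let ψ : E →* C1[t] ⧸ φ.ker := (QuotientGroup.mk' φ.ker).comp (inclusion (hE.trans inf_le_right))
    have hψ : Function.Injective ψ := (injective_iff_map_eq_one ψ).2 fun x hx =>
      Subtype.ext (mem_bot.1 (h0.le ⟨x.2, (hker _).1 ((QuotientGroup.eq_one_iff _).1 hx)⟩))
    have hr : ψ.range = DD (C1[t] ⧸ φ.ker) (⟨a, htD.1⟩ : fixedBy Ω t) ⟨b, htD.2⟩ := by
      refine le_antisymm ?_ fun x hx => ?_
      · rintro _ ⟨x, rfl⟩
        exact ⟨Subtype.ext (hE x.2).1.1, Subtype.ext (hE x.2).1.2⟩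
      · obtain ⟨g, rfl⟩ := QuotientGroup.mk_surjective x
        rcases hdec g ⟨⟨congrArg Subtype.val hx.1, congrArg Subtype.val hx.2⟩, g.2⟩ with h | h
        · exact ⟨⟨g, h⟩, rfl⟩
        · refine ⟨⟨g * t, h⟩, (QuotientGroup.eq.2 ((hker _).2 ?_)).symm⟩
          simpa using htK
    have iso' := ((MulEquiv.subgroupCongr hr.symm).trans (MonoidHom.ofInjective hψ).symm).trans iso
    obtain ⟨⟨k', ε, tb'⟩, w'⟩ := tb _ _ F (Or.inl (hF ▸ q8)) (by omega) ⟨iso'⟩
    obtain ⟨S', hS'⟩ := H8.exists_isSylowIn 2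
      (DD (C1[t] ⧸ φ.ker) (⟨a, htD.1⟩ : fixedBy Ω t) ⟨b, htD.2⟩)
    refine evB (C1[t] ⧸ φ.ker) (fixedBy Ω t) ⟨a, htD.1⟩ ⟨b, htD.2⟩ S' _ k' ε
      ⟨fun x y z w hxy hzw => ?_, fun e => hu.ne (congrArg Subtype.val e), w' S' hS'.le hS'.isPGroup
        (Nat.not_even_iff_odd.1 fun e => hS'.not_dvd e.two_dvd)⟩ tb' ?_
    · obtain ⟨g, hg, g1, g2⟩ := hu.wittT htD ot x x.2 y y.2 fun e => hxy (Subtype.ext e)
      obtain ⟨g', hg', g3, g4⟩ := hu.wittT htD ot z z.2 w w.2 fun e => hzw (Subtype.ext e)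
      refine ⟨QuotientGroup.mk ⟨g' * g⁻¹, mul_mem hg' (inv_mem hg)⟩, Subtype.ext ?_, Subtype.ext ?_⟩
      · rw [hsm, ← g1, ← g3, mul_smul, inv_smul_smul]
      · rw [hsm, ← g2, ← g4, mul_smul, inv_smul_smul]
    · rw [Nat.card_coe_set_eq, Nat.even_iff, par_inv (ord2.1 ot).1, ← Nat.even_iff]
      exact hn
  · have hEK : E ≤ K := inf_eq_left.1 h0
    have hDK : DD G a b ⊓ C1[t] ≤ K := fun x hx => (hdec x hx).elim (fun h => hEK h)
      fun h => (mul_mem_cancel_right htK).1 (hEK h)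
    have hS : S ≤ stabilizer G a ⊓ C1[t] :=
      (hu.ws.le_cent ht).trans (inf_le_inf_right _ inf_le_left)
    have hni : ni (stabilizer G a ⊓ C1[t]) = ni (DD G a b ⊓ C1[t]) := by
      unfold ni
      congr 1
      ext x
      refine and_congr_left fun ox => ⟨fun hx => ?_, fun hx => ⟨hx.1.1, hx.2⟩⟩
      obtain ⟨g, hg, h1⟩ := hu.ws.syl_conj' hS ((hu.odd_stab hn).of_dvd_nat
        (Dvd.intro _ (relIndex_mul_relIndex _ _ _ hS inf_le_left))) (zpowers_le.2 hx)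
        (pg_zpowers (ord2.1 ox).1)
      obtain ⟨w, hw, rfl⟩ := h1 (mem_zpowers x)
      have h2 := (hK _).1 (hKn g hg.2 w (hDK (hu.ws.le_cent ht hw)))
      exact ⟨⟨h2.2 a htD.1, h2.2 b htD.2⟩, h2.1⟩
    obtain ⟨X, _, _, L, s, y, o, c, e, hs, os, tL, hy, -, h2, -, h4, h5⟩ :=
      ev_nums str hu (Or.inr (Or.inr (Or.inr ⟨rfl, q, k⟩))) hn ht ot
    have hd := (hu.first htD ot).1
    have hi := two_le_fix hu htD
    have e1 := k.ni_eq
    have e2 := k.cent t htD ot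
    have e3 := k.nic t htD ot
    rw [hni] at h5
    generalize {x | IsConj t x ∧ x • a = b}.ncard = d at *
    generalize (fixedBy Ω t).ncard = i at *
    generalize ni (DD G a b ⊓ C1[t]) = n1 at *
    generalize Nat.card ↥(DD G a b ⊓ C1[t]) = z at *
    generalize ni (DD G a b) = h at *
    have b1 : 729 ≤ h := by nlinarith [Nat.pow_le_pow_left q0 2, Nat.pow_le_pow_left q0 3]
    have b2 : 729 ≤ z := by nlinarith [Nat.pow_le_pow_left q0 2]
    have b3 : 729 * 729 ≤ h * z := Nat.mul_le_mul b1 b2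
    rcases tL with kL | ⟨k, -⟩ | ⟨-, kL⟩ | ⟨-, q', kL⟩
    · have e4 : ni L = 63 := by have := kL.ni_eq; omega
      rw [kL.cent s hs os, e4] at h4
      have := Nat.le_of_dvd (by norm_num) h4
      omega
    · omega
    · rw [kL.cent s hs os, kL.ni_eq] at h4
      have := Nat.le_of_dvd (by norm_num) h4
      omega
    · have q0' : 27 ≤ q' := Nat.le_of_dvd (by have := (dvd27 kL.pow).2; omega) (dvd27 kL.pow).1
      have e4 := kL.ni_eq
      have e5 := kL.cent s hs os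
      have e6 := kL.nic s hs os
      generalize ni (L ⊓ C1[s]) = n2 at *
      generalize Nat.card ↥(L ⊓ C1[s]) = z' at *
      generalize ni L = h' at *
      have b4 : 0 < h' := by nlinarith [Nat.pow_le_pow_left q0' 2, Nat.pow_le_pow_left q0' 3]
      have b5 : 0 < z' := by nlinarith [Nat.pow_le_pow_left q0' 2]
      have l1 := ar_ree (by omega) e1 e2 e4 e5 (Nat.le_of_dvd (by positivity) h4)
      have l2 : n1 ≤ n2 := by nlinarith
      have l3 : 2 ≤ n2 := by nlinarith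
      have y1 : y = 1 := by
        by_contra c
        have y2 : 2 ≤ y := by have := hy.pos; omega
        have y3 := Nat.pow_le_pow_left y2 (2 ^ (3 - 2))
        have := Nat.mul_le_mul_right (n2 - 1) y3
        omega
      rw [y1, one_pow, one_mul] at h2 h5
      have l4 : n1 = n2 := by omega
      have l5 : q = q' := by nlinarith
      subst l5
      have : 0 < d * i := by positivity
      omega

end Cfsg.Agent.H77.W2
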